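import Cfsg.Statements.S2286
import Cfsg.Agent.Lib.SL2.Pres

set_option autoImplicit false
open Cfsg

namespace Cfsg.Agent.S2286

set_option backward.isDefEq.respectTransparency false
open Cfsg.Agent.SL2 Matrix Polynomial
open scoped MatrixGroups

variable {F : Type*} [Field F] [Finite F]

/-- The injectivity criterion for a quotient of `SL₂`. -/
def Crit {G : Type*} [Group G] (ρ : SL(2, F) →* G) (ζ : Fˣ) (N : ℕ) : Prop :=
  ∀ (J : Type) [Group J] (D : RankOne F J) (φ : J →* G),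
    Subgroup.closure (Set.range D.x ∪ Set.range D.h ∪ {D.w}) = ⊤ → (∀ a, φ (D.x a) = ρ (up a)) →
    (∀ s, φ (D.h s) = ρ (dg s)) → φ D.w = ρ wt → D.h ζ ^ N = 1 → Function.Injective φ

theorem crit_SL (ζ : Fˣ) (N : ℕ) : Crit (MonoidHom.id SL(2, F)) ζ N :=
  fun _ _ D φ h1 h2 h3 h4 _ => D.injective_SL h1 φ h2 h3 h4

theorem crit_PSL {ζ : Fˣ} {e : ℕ} (he : ζ ^ e = -1) : Crit (pr : SL(2, F) →* PSL(2, F)) ζ e :=
  fun _ _ D φ h1 h2 h3 h4 h5 => D.injective_PSL h1 φ h2 h3 h4 (by rw [← he, map_pow, h5])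

theorem Crit.inj {G : Type*} [Group G] {ρ : SL(2, F) →* G} {ζ : Fˣ} {N : ℕ} (h : Crit ρ ζ N)
    (hζ : ∀ x, x ∈ Submonoid.powers ζ) {J : Type} [Group J] {f : Fin 3 → J} {φ : J →* G}
    (hf : Subgroup.closure (Set.range f) = ⊤)
    (hφ : ∀ i, φ (f i) = ![ρ (up 1), ρ (dg ζ), ρ wt] i) (hN : f 1 ^ N = 1)
    (hD : ∃ D : RankOne F J, (∀ g, D.x (aeval ((ζ : F) ^ 2) g) = word (f 0) (f 1) g) ∧
      D.h ζ = f 1 ∧ D.w = f 2) : Function.Injective φ := by
  obtain ⟨D, h1, h2, h3⟩ := hD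
  refine h J D φ (rankOne_gen D hf (by simpa [word_one] using h1 1) h2 h3) (fun a => ?_)
    (fun s => ?_) (by rw [h3, hφ]; rfl) (by rw [h2, hN])
  · obtain ⟨g, rfl⟩ := aeval_surjective hζ a
    rw [h1, map_word, hφ, hφ, ← word_up, map_word]; rfl
  · obtain ⟨n, rfl⟩ := hζ s
    simp only
    rw [map_pow, map_pow, h2, hφ, ← dgHom_apply (ζ ^ n), map_pow, map_pow]; rfl

omit [Finite F] in
theorem rel_up_pow (p : ℕ) [CharP F p] : up (1 : F) ^ p = 1 := by
  rw [up_pow, CharP.cast_eq_zero, zero_mul, up_zero]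

omit [Finite F] in
theorem rel_conj (ζ : Fˣ) (n : ℕ) : dg ζ ^ n * up 1 * (dg ζ ^ n)⁻¹ = up (((ζ : F) ^ n) ^ 2) := by
  rw [← dgHom_apply, ← map_pow, dgHom_apply, dg_mul_up, Units.val_pow_eq_pow_val, mul_one]

omit [Finite F] in
theorem rel_wh (ζ : Fˣ) : wt * dg ζ * wt⁻¹ = (dg ζ)⁻¹ := by
  rw [dg_inv]; exact (stdRankOne F).w_h ζ

omit [Finite F] in
theorem rel_w1 : wt * up (1 : F) * wt⁻¹ = (up 1)⁻¹ * wt * (up 1)⁻¹ := by
  have := (stdRankOne F).w_x 1
  simp only [Units.val_one, inv_one, map_one, mul_one] at this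
  rw [up_inv]; exact this

omit [Finite F] in
theorem rel_w2 (ζ : Fˣ) :
    wt * up (ζ : F) * wt⁻¹ = up (-(ζ : F)⁻¹) * (dg ζ)⁻¹ * wt * up (-(ζ : F)⁻¹) := by
  rw [dg_inv]; exact (stdRankOne F).w_x ζ

omit [Finite F] in
theorem rel_ww {ζ : Fˣ} {e : ℕ} (he : ζ ^ e = -1) : wt * wt = dg ζ ^ e := by
  rw [← dgHom_apply, ← map_pow, he]; exact (stdRankOne F).w_w

theorem rel_h (ζ : Fˣ) : dg ζ ^ (Nat.card F - 1) = 1 := by
  rw [← dgHom_apply, ← map_pow, ← Nat.card_units, pow_card_eq_one', map_one]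

theorem sq_of_braid {J : Type*} [Group J] {u t h : J} (h1 : u ^ 2 = 1)
    (h2 : t * u * t⁻¹ = u⁻¹ * t * u⁻¹) : t * t = h ^ 0 := by
  have h3 : u⁻¹ = u := by rw [inv_eq_iff_mul_eq_one, ← sq, h1]
  have h4 : (t * u * t⁻¹) ^ 2 = 1 := by rw [conj_pow, h1]; simp
  rw [h2] at h4
  nth_rewrite 2 [h3] at h4
  calc t * t = u * (u⁻¹ * t * u) ^ 2 * u⁻¹ := by rw [sq]; group
    _ = _ := by rw [h4]; simp

theorem exists_pow_eq {ζ : Fˣ} (hζ : ∀ x, x ∈ Submonoid.powers ζ) {a : F} (ha : a ≠ 0) :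
    ∃ k : ℕ, (ζ : F) ^ k = a := by
  obtain ⟨n, hn⟩ := hζ (Units.mk0 a ha)
  exact ⟨n, by simpa using congrArg Units.val hn⟩

theorem pres_even (h2 : (2 : F) = 0) : ∃ rels : Finset (FreeGroup (Fin 3)), rels.card ≤ 5 ∧
    Nonempty (PresentedGroup (rels : Set (FreeGroup (Fin 3))) ≃* SL(2, F)) := by
  have : CharP F 2 := (CharP.charP_iff_prime_eq_zero Nat.prime_two).2 (by exact_mod_cast h2)
  obtain ⟨ζ, hζ⟩ := IsCyclic.exists_monoid_generator (α := Fˣ)
  obtain ⟨m, hm0, hm⟩ := exists_minpoly_lift 2 ((ζ : F) ^ 2)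
  have he : ζ ^ 0 = -1 := Units.ext (by simp; linear_combination h2)
  let u : FreeGroup (Fin 3) := FreeGroup.of 0
  let h : FreeGroup (Fin 3) := FreeGroup.of 1
  let t : FreeGroup (Fin 3) := FreeGroup.of 2
  by_cases h1 : ζ = 1
  · obtain ⟨R, hR, e⟩ := exists_pres [u ^ 2, h, word u h m, t * u * t⁻¹ * (u⁻¹ * t * u⁻¹)⁻¹]
      ![up 1, dg ζ, wt] (closure_three hζ (MonoidHom.id _) Function.surjective_id) (by
        simp only [List.forall_mem_cons, u, h, t, map_mul, map_inv, map_pow, map_word,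
          FreeGroup.lift_apply_of, mul_inv_eq_one]
        refine ⟨rel_up_pow 2, by rw [h1]; exact dg_one, ?_, rel_w1, by simp⟩
        exact (word_up ζ m).trans (by rw [hm0, up_zero])) (fun J _ f φ hf hr hφ => by
        simp only [List.forall_mem_cons, u, h, t, map_mul, map_inv, map_pow, map_word,
          FreeGroup.lift_apply_of, mul_inv_eq_one] at hr
        obtain ⟨r1, r2, r3, r4, -⟩ := hr
        exact (crit_SL ζ 0).inj hζ hf hφ (pow_zero _) (exists_rankOne hζ hm (by simp [r2]) r1 r3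
          (by simp [r2]) (by simp [r2]) he (sq_of_braid r1 r4) r4 (f₁ := 0) (f₂ := 0) (Or.inl h2)))
    exact ⟨R, hR.trans (by simp), e⟩
  · obtain ⟨k, hk⟩ := exists_pow_eq hζ (a := 1 + ζ) (fun h => h1 (Units.ext (by
      simp only [Units.val_one]; linear_combination h - h2)))
    exact exists_pres [u ^ 2, h ^ k * u * (h ^ k)⁻¹ * (u * (h * u * h⁻¹))⁻¹,
      word u h m * (h ^ (Nat.card F - 1))⁻¹, t * h * t⁻¹ * h⁻¹⁻¹, t * u * t⁻¹ * (u⁻¹ * t * u⁻¹)⁻¹]
      ![up 1, dg ζ, wt] (closure_three hζ (MonoidHom.id _) Function.surjective_id) (by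
        simp only [List.forall_mem_cons, u, h, t, map_mul, map_inv, map_pow, map_word,
          FreeGroup.lift_apply_of, mul_inv_eq_one]
        refine ⟨rel_up_pow 2, ?_, ?_, rel_wh ζ, rel_w1, by simp⟩
        · change dg ζ ^ k * up 1 * (dg ζ ^ k)⁻¹ = up 1 * (dg ζ * up 1 * (dg ζ)⁻¹)
          rw [rel_conj, dg_mul_up, up_mul, hk]
          congr 1
          linear_combination (ζ : F) * h2
        · exact (word_up ζ m).trans (by rw [hm0, up_zero]; exact (rel_h ζ).symm))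
      (fun J _ f φ hf hr hφ => by
        simp only [List.forall_mem_cons, u, h, t, map_mul, map_inv, map_pow, map_word,
          FreeGroup.lift_apply_of, mul_inv_eq_one] at hr
        obtain ⟨r1, r2, r3, r4, r5, -⟩ := hr
        have hc0 : Commute (f 0) (f 1 * f 0 * (f 1)⁻¹) := by
          have e1 : (f 0)⁻¹ = f 0 := by rw [inv_eq_iff_mul_eq_one, ← sq, r1]
          have e2 : (f 1 ^ k * f 0 * (f 1 ^ k)⁻¹)⁻¹ = f 1 ^ k * f 0 * (f 1 ^ k)⁻¹ := by
            rw [conj_inv, e1]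
          rw [r2, _root_.mul_inv_rev, conj_inv, e1] at e2
          exact e2.symm
        have hc := commute_of_rel_one hc0 r2
        have r3' : word (f 0) (f 1) m = 1 := by
          refine word_eq_one_of_fixed hc (r := 1 + X - X ^ k) (by rw [r3]; group) ?_ (by simp)
          have := word_add hc (1 + X - X ^ k) (X ^ k)
          rw [sub_add_cancel, word_add hc, word_one, ← mul_one X, word_X_mul hc, word_one,
            mul_one, word_X_pow hc, r2, eq_comm, mul_eq_right] at this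
          exact this
        exact (crit_SL ζ 0).inj hζ hf hφ (pow_zero _) (exists_rankOne hζ hm hc r1 r3'
          (r3 ▸ r3') r4 he (sq_of_braid r1 r5) r5 (f₁ := 0) (f₂ := 0) (Or.inl h2)))

theorem pres_odd {ζ : Fˣ} (hζ : ∀ x, x ∈ Submonoid.powers ζ) {e : ℕ} (he : ζ ^ e = -1)
    {G : Type*} [Group G] (ρ : SL(2, F) →* G) (hρ : Function.Surjective ρ) {N : ℕ}
    (hN : N ∣ Nat.card F - 1) (hN' : ρ (dg ζ) ^ N = 1) (hcrit : Crit ρ ζ N) :
    ∃ rels : Finset (FreeGroup (Fin 3)), rels.card ≤ 9 ∧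
      Nonempty (PresentedGroup (rels : Set (FreeGroup (Fin 3))) ≃* G) := by
  obtain ⟨p, hp, _⟩ := exists_char (F := F)
  have := Fact.mk hp
  obtain ⟨m, hm0, hm⟩ := exists_minpoly_lift p ((ζ : F) ^ 2)
  obtain ⟨f₁, hf₁⟩ := aeval_surjective hζ ζ
  obtain ⟨f₂, hf₂⟩ := aeval_surjective hζ (-(ζ : F)⁻¹)
  simp only at hf₁ hf₂
  let u : FreeGroup (Fin 3) := FreeGroup.of 0
  let h : FreeGroup (Fin 3) := FreeGroup.of 1
  let t : FreeGroup (Fin 3) := FreeGroup.of 2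
  have hpow : ∀ {J : Type} [Group J] {x : J}, x ^ N = 1 → x ^ (Nat.card F - 1) = 1 := fun hx => by
    obtain ⟨c, hc⟩ := hN
    rw [hc, pow_mul, hx, one_pow]
  have s1 : ρ (up 1) ^ p = 1 := by rw [← map_pow, rel_up_pow, map_one]
  have s2 : word (ρ (up 1)) (ρ (dg ζ)) m = 1 := by
    rw [← map_word, word_up, hm0, up_zero, map_one]
  have s3 : ρ wt * ρ wt = ρ (dg ζ) ^ e := by rw [← map_mul, rel_ww he, map_pow]
  have s4 : ρ wt * ρ (dg ζ) * (ρ wt)⁻¹ = (ρ (dg ζ))⁻¹ := by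
    simpa only [map_mul, map_inv] using congrArg ρ (rel_wh ζ)
  have s5 : ρ wt * ρ (up 1) * (ρ wt)⁻¹ = (ρ (up 1))⁻¹ * ρ wt * (ρ (up 1))⁻¹ := by
    simpa only [map_mul, map_inv] using congrArg ρ rel_w1
  have s6 : ρ wt * word (ρ (up 1)) (ρ (dg ζ)) f₁ * (ρ wt)⁻¹ =
      word (ρ (up 1)) (ρ (dg ζ)) f₂ * (ρ (dg ζ))⁻¹ * ρ wt * word (ρ (up 1)) (ρ (dg ζ)) f₂ := by
    rw [← map_word, ← map_word, word_up, word_up, hf₁, hf₂]
    simpa only [map_mul, map_inv] using congrArg ρ (rel_w2 ζ)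
  by_cases h1 : (ζ : F) ^ 2 = 1
  · obtain ⟨R, hR, e⟩ := exists_pres [u ^ p, u * h * (h * u)⁻¹, word u h m, h ^ N,
      t * t * (h ^ e)⁻¹, t * h * t⁻¹ * h⁻¹⁻¹, t * u * t⁻¹ * (u⁻¹ * t * u⁻¹)⁻¹,
      t * word u h f₁ * t⁻¹ * (word u h f₂ * h⁻¹ * t * word u h f₂)⁻¹]
      ![ρ (up 1), ρ (dg ζ), ρ wt] (closure_three hζ ρ hρ) (by
        simp only [List.forall_mem_cons, u, h, t, map_mul, map_inv, map_pow, map_word,
          FreeGroup.lift_apply_of, mul_inv_eq_one]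
        refine ⟨s1, ?_, s2, hN', s3, s4, s5, s6, by simp⟩
        change ρ (up 1) * ρ (dg ζ) = ρ (dg ζ) * ρ (up 1)
        rw [← map_mul, ← map_mul, mul_inv_eq_iff_eq_mul.1 (dg_mul_up ζ 1), h1, mul_one])
      (fun J _ f φ hf hr hφ => by
        simp only [List.forall_mem_cons, u, h, t, map_mul, map_inv, map_pow, map_word,
          FreeGroup.lift_apply_of, mul_inv_eq_one] at hr
        obtain ⟨r1, r2, r3, r4, r5, r6, r7, r8, -⟩ := hr
        have r2' : Commute (f 0) (f 1) := r2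
        exact hcrit.inj hζ hf hφ r4 (exists_rankOne hζ hm
          (fun n => ((r2'.pow_right n).mul_right (Commute.refl _)).mul_right
            (r2'.pow_right n).inv_right) r1 r3 (hpow r4) r6 he r5 r7 (Or.inr ⟨hf₁, hf₂, r8⟩)))
    exact ⟨R, hR.trans (by simp), e⟩
  · obtain ⟨k, hk⟩ := exists_pow_eq hζ (a := 1 - ζ ^ 2) (sub_ne_zero.2 (Ne.symm h1))
    exact exists_pres [u ^ p, u * (h * u * h⁻¹) * (h * u * h⁻¹ * u)⁻¹,
      u * (h ^ 2 * u * (h ^ 2)⁻¹) * (h ^ 2 * u * (h ^ 2)⁻¹ * u)⁻¹,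
      h ^ k * u * (h ^ k)⁻¹ * (u * (h * u * h⁻¹) ^ (-2 : ℤ) * (h ^ 2 * u * (h ^ 2)⁻¹))⁻¹,
      word u h m * (h ^ N)⁻¹,
      t * t * (h ^ e)⁻¹, t * h * t⁻¹ * h⁻¹⁻¹, t * u * t⁻¹ * (u⁻¹ * t * u⁻¹)⁻¹,
      t * word u h f₁ * t⁻¹ * (word u h f₂ * h⁻¹ * t * word u h f₂)⁻¹]
      ![ρ (up 1), ρ (dg ζ), ρ wt] (closure_three hζ ρ hρ) (by
        simp only [List.forall_mem_cons, u, h, t, map_mul, map_inv, map_pow, map_zpow, map_word,
          FreeGroup.lift_apply_of, mul_inv_eq_one]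
        refine ⟨s1, ?_, ?_, ?_, s2.trans hN'.symm, s3, s4, s5, s6, by simp⟩
        · change ρ (up 1) * (ρ (dg ζ) * ρ (up 1) * (ρ (dg ζ))⁻¹) =
            ρ (dg ζ) * ρ (up 1) * (ρ (dg ζ))⁻¹ * ρ (up 1)
          simp only [← map_mul, ← map_inv]
          rw [dg_mul_up, up_mul, up_mul, add_comm]
        · change ρ (up 1) * (ρ (dg ζ) ^ 2 * ρ (up 1) * (ρ (dg ζ) ^ 2)⁻¹) =
            ρ (dg ζ) ^ 2 * ρ (up 1) * (ρ (dg ζ) ^ 2)⁻¹ * ρ (up 1)
          simp only [← map_mul, ← map_inv, ← map_pow]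
          rw [rel_conj, up_mul, up_mul, add_comm]
        · change ρ (dg ζ) ^ k * ρ (up 1) * (ρ (dg ζ) ^ k)⁻¹ =
            ρ (up 1) * (ρ (dg ζ) * ρ (up 1) * (ρ (dg ζ))⁻¹) ^ (-2 : ℤ) *
              (ρ (dg ζ) ^ 2 * ρ (up 1) * (ρ (dg ζ) ^ 2)⁻¹)
          simp only [← map_mul, ← map_inv, ← map_pow, ← map_zpow]
          rw [rel_conj, rel_conj, dg_mul_up, _root_.zpow_neg, zpow_two, up_mul, up_inv, up_mul,
            up_mul, hk]
          congr 2
          ring)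
      (fun J _ f φ hf hr hφ => by
        simp only [List.forall_mem_cons, u, h, t, map_mul, map_inv, map_pow, map_zpow, map_word,
          FreeGroup.lift_apply_of, mul_inv_eq_one] at hr
        obtain ⟨r1, r2, r2', r2'', r3, r5, r6, r7, r8, -⟩ := hr
        have hc := commute_of_rel_two r2 r2' r2''
        have r3' : word (f 0) (f 1) m = 1 := by
          refine word_eq_one_of_fixed hc (r := X ^ k - (1 + C (-2) * X + X ^ 2))
            (by rw [r3]; group) ?_ (by simp)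
          have := word_add hc (X ^ k - (1 + C (-2) * X + X ^ 2)) (1 + C (-2) * X + X ^ 2)
          rw [sub_add_cancel, word_add hc, word_add hc, word_one, word_C_mul hc, word_X_pow hc,
            word_X_pow hc, r2'', ← pow_one X, word_X_pow hc, pow_one, pow_one, eq_comm,
            mul_eq_right] at this
          exact this
        exact hcrit.inj hζ hf hφ (r3 ▸ r3') (exists_rankOne hζ hm hc r1 r3' (hpow (r3 ▸ r3')) r6
          he r5 r7 (Or.inr ⟨hf₁, hf₂, r8⟩)))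

/-- For every finite field F, SL_2(F) and PSL_2(F) have presentations with 3 generators and at most 9 relations; when F has characteristic 2, PSL_2(F) has a presentation with 3 generators and at most 5 relations. -/
theorem result {F : Type*} [Field F] [Fintype F] :
    (∃ rels : Finset (FreeGroup (Fin 3)), rels.card ≤ 9 ∧ Nonempty (PresentedGroup (↑rels : Set (FreeGroup (Fin 3))) ≃* Matrix.SpecialLinearGroup (Fin 2) F)) ∧ (∃ rels : Finset (FreeGroup (Fin 3)), rels.card ≤ 9 ∧ Nonempty (PresentedGroup (↑rels : Set (FreeGroup (Fin 3))) ≃* Matrix.ProjectiveSpecialLinearGroup (Fin 2) F)) ∧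
    (CharP F 2 → ∃ rels : Finset (FreeGroup (Fin 3)), rels.card ≤ 5 ∧ Nonempty (PresentedGroup (↑rels : Set (FreeGroup (Fin 3))) ≃* Matrix.ProjectiveSpecialLinearGroup (Fin 2) F)) := by
  by_cases h2 : (2 : F) = 0
  · obtain ⟨R, hR, ⟨e⟩⟩ := pres_even h2
    exact ⟨⟨R, by omega, ⟨e⟩⟩, ⟨R, by omega, ⟨e.trans (prEquiv h2)⟩⟩,
      fun _ => ⟨R, hR, ⟨e.trans (prEquiv h2)⟩⟩⟩
  · obtain ⟨ζ, hζ⟩ := IsCyclic.exists_monoid_generator (α := Fˣ)
    obtain ⟨e, he⟩ := odd_card_iff.2 h2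
    have hq := one_lt_card (F := F)
    have ho : orderOf ζ = 2 * e := by
      rw [orderOf_eq_card_of_forall_mem_powers hζ, Nat.card_units]; omega
    have he' : ζ ^ e = -1 := by
      have h1 : (ζ ^ e) ^ 2 = 1 := by rw [← pow_mul, mul_comm, ← ho, pow_orderOf_eq_one]
      have h3 : ζ ^ e ≠ 1 := pow_ne_one_of_lt_orderOf (by omega) (by omega)
      rcases sq_eq_one_iff.1 (show ((ζ ^ e : Fˣ) : F) ^ 2 = 1 by
        rw [← Units.val_pow_eq_pow_val, h1, Units.val_one]) with h | h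
      · exact absurd (Units.ext h) h3
      · exact Units.ext h
    refine ⟨pres_odd hζ he' (MonoidHom.id _) Function.surjective_id dvd_rfl (rel_h ζ) (crit_SL _ _),
      pres_odd hζ he' pr pr_surjective ⟨2, by omega⟩ ?_ (crit_PSL he'), fun _ => absurd ?_ h2⟩
    · rw [← map_pow, ← dgHom_apply, ← map_pow, he', pr_eq_one_iff']
      right
      apply SL_ext
      apply mat_ext <;> simp
    · exact_mod_cast CharP.cast_eq_zero F 2

end Cfsg.Agent.S2286
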