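import Cfsg.Statements.S2290
import Cfsg.Agent.Lib.SLn.PresThreeFour
import Cfsg.Agent.S2286

set_option autoImplicit false
open Cfsg

namespace Cfsg.Agent.S2290

theorem two_gen {F : Type*} [Field F] [Fintype F] (n : ℕ) (hn : 1 ≤ n) :
    ∃ a b : Matrix.SpecialLinearGroup (Fin (n + 1)) F, Subgroup.closure {a, b} = ⊤ := by
  have h01 : (0 : Fin (n + 1)) ≠ 1 := by
    obtain ⟨n, rfl⟩ : ∃ m, n = m + 1 := ⟨n - 1, by omega⟩
    exact Fin.zero_ne_one
  have hw : (SLn.permSL F (finRotate (n + 1))⁻¹ 0 : Matrix (Fin (n + 1)) (Fin (n + 1)) F) =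
      Matrix.of (fun i j => if j.val = i.val + 1 then 1 else
        if i.val = n ∧ j.val = 0 then (-1) ^ n else 0) := by
    ext i j
    rw [SLn.coe_permSL, SLn.monoMat_apply, Equiv.Perm.sign_inv, sign_finRotate, Matrix.of_apply]
    simp only [Equiv.Perm.eq_inv_iff_eq, finRotate_apply, Fin.ext_iff, Fin.val_add_one,
      Fin.val_last, Fin.val_zero]
    have := i.2
    split_ifs <;> first | rfl | omega | simp
  by_cases hK : Fintype.card F ≤ 3
  · exact ⟨_, _, SLn.closure_x_w_small hK n hn _ _ (SLn.coe_xSL h01 1) hw⟩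
  · obtain ⟨k, hk⟩ := IsCyclic.exists_generator (α := Fˣ)
    refine ⟨_, _, SLn.closure_h_xw (by omega) n hn k hk (SLn.hSL k 0 1) _ _ ?_
      (SLn.coe_xSL h01 1) hw⟩
    rw [SLn.coe_hSL, SLn.monoMat_one]
    congr 1
    funext i
    by_cases h0 : i = 0
    · simp [h0, SLn.dd, h01]
    have h0' : i.val ≠ 0 := fun h => h0 (Fin.ext h)
    have e1 : (1 : Fin (n + 1)).val = 1 := by
      obtain ⟨n, rfl⟩ : ∃ m, n = m + 1 := ⟨n - 1, by omega⟩
      rfl
    by_cases h1 : i = 1
    · rw [h1, e1]; simp [SLn.dd, h01.symm]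
    have h1' : i.val ≠ 1 := fun h => h1 (Fin.ext (h.trans e1.symm))
    simp [SLn.dd, h0, h1, h0', h1']

/-- For every finite field F with q elements and n ≥ 2, with q ≥ 4 when n = 2, the simple group PSL_n(F) has a presentation with 2 generators and at most 80 relations. -/
theorem result {F : Type*} [Field F] [Fintype F] (n : ℕ) (hn : 2 ≤ n) (h2 : n = 2 → 4 ≤ Fintype.card F) :
    ∃ rels : Finset (FreeGroup (Fin 2)), rels.card ≤ 80 ∧ Nonempty (PresentedGroup (↑rels : Set (FreeGroup (Fin 2))) ≃* Matrix.ProjectiveSpecialLinearGroup (Fin n) F) := by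
  obtain ⟨n, rfl⟩ : ∃ m, n = m + 1 := ⟨n - 1, by omega⟩
  obtain ⟨a, b, hab⟩ := two_gen (F := F) n (by omega)
  have key : ∃ (X : Type) (π : X → Matrix.ProjectiveSpecialLinearGroup (Fin (n + 1)) F),
      Pres.HasPres π 24 := by
    by_cases h1 : n = 1
    · subst h1
      obtain ⟨-, ⟨R, hR, ⟨e⟩⟩, -⟩ := S2286.result (F := F)
      exact ⟨_, _, (Pres.hasPres_of_equiv R e).mono (by omega)⟩
    by_cases h2 : n = 2
    · subst h2
      obtain ⟨π, h⟩ := SLn.hasPres_SL_three (K := F)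
      exact ⟨_, _, h.quotient_center.mono (by omega)⟩
    by_cases h3 : n = 3
    · subst h3
      obtain ⟨π, h⟩ := SLn.hasPres_SL_four (K := F)
      exact ⟨_, _, h.quotient_center.mono (by omega)⟩
    · obtain ⟨π, h⟩ := SLn.hasPres_SL_five_le (K := F) (n := n + 1) (k := 2) (by omega) (Or.inr rfl)
      exact ⟨_, _, h.quotient_center.mono (by omega)⟩
  obtain ⟨X, π, h⟩ := key
  refine (h.change ![QuotientGroup.mk a, QuotientGroup.mk b] ?_).nonempty (by simp)
  have := congrArg (Subgroup.map (QuotientGroup.mk' (Subgroup.center _))) hab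
  rw [MonoidHom.map_closure, Set.image_pair, ← MonoidHom.range_eq_map,
    MonoidHom.range_eq_top.2 (QuotientGroup.mk'_surjective _)] at this
  rw [Alt.range_pair]
  exact this

end Cfsg.Agent.S2290
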