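import Cfsg.Statements.S2220
import Cfsg.Agent.Lib.Nine.Q

set_option autoImplicit false
open Cfsg
open Cfsg.Agent.Nine

namespace Cfsg.Agent.S2220

/-- Let G be a non-abelian finite simple group of order 9·2ᵃ·qᵇ for a prime q other than 2 and 3, and suppose a Sylow 3-subgroup R of G is strongly self-centralizing: C_G(k) = R for every nonidentity k ∈ R. Then G is isomorphic to the alternating group of degree 6, to PSL(2,8) or to PSL(2,17). -/
theorem result {G : Type*} [Group G] [Finite G] [IsSimpleGroup G] (hG : ¬ IsMulCommutative G)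
    (q a b : ℕ) (hq : q.Prime) (hq2 : q ≠ 2) (hq3 : q ≠ 3) (hcard : Nat.card G = 9 * 2 ^ a * q ^ b)
    (R : Sylow 3 G) (hR : ∀ k ∈ (R : Subgroup G), k ≠ 1 → Subgroup.centralizer ({k} : Set G) = R) :
    Nonempty (G ≃* ↥(alternatingGroup (Fin 6))) ∨
      (∃ (F : Type) (_ : Field F) (_ : Fintype F), Fintype.card F = 8 ∧
        Nonempty (G ≃* Matrix.ProjectiveSpecialLinearGroup (Fin 2) F)) ∨
      Nonempty (G ≃* Matrix.ProjectiveSpecialLinearGroup (Fin 2) (ZMod 17)) := by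
  classical
  have := Fintype.ofFinite G
  have := Fintype.ofFinite (IrrCharacter G)
  have : Fact q.Prime := ⟨hq⟩
  have : Fact (Nat.Prime 3) := ⟨Nat.prime_three⟩
  have hc' : Nat.card G = 9 * (2 ^ a * q ^ b) := mul_assoc 9 _ _ ▸ hcard
  have h := sc_of_sylow hc' (not_three_dvd hq hq3) R hR
  obtain ⟨g, g1, g2⟩ := exists_not_cent hG R (hc' ▸ (by norm_num : 3 ∣ 9).mul_right _)
  obtain ⟨x, hxR, hgx⟩ : ∃ x ∈ (R : Subgroup G), x * g ≠ g * x := by
    by_contra e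
    push Not at e
    exact g2 e
  have hx : x ∈ Rs (R : Subgroup G) := mem_Rs.2 ⟨hxR, fun e => hgx (by simp [e])⟩
  have h2 : 1 < (cR R x).card := Finset.one_lt_card.2 ⟨x, mem_cR.2 ⟨IsConj.refl x, hxR⟩, g * x * g⁻¹,
    mem_cR.2 ⟨isConj_iff.2 ⟨g, rfl⟩, nz_of_mem g1 x hxR⟩, fun e => hgx (eq_mul_inv_iff_mul_eq.1 e)⟩
  have h3 := h.cR_dvd hx
  have h4 := Nat.le_of_dvd (by norm_num) h3
  rcases (by generalize (cR (R : Subgroup G) x).card = n at *; interval_cases n <;> omega :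
    (cR (R : Subgroup G) x).card = 8 ∨ (cR (R : Subgroup G) x).card = 4 ∨ (cR (R : Subgroup G) x).card = 2)
    with he | he | he
  · exact (case8 hG h hq hq2 hq3 hcard hx he).elim
  · exact Or.inl (case4 hG h hc' hx he)
  right
  obtain ⟨s, χ, L, hs, a1, a2, a3, a4, a5, a6, a7⟩ := h.star hx he
  have b1 : ∀ ψ ∈ L, ∀ g, 1 + s * (ψ.1 g - χ.1 g) ≠ 0 → 2 ^ a * q ^ b ∣ (Cz g).index := fun ψ hψ g hg => by
    have := (Cz g).index_mul_card
    rw [h.card_Cz (by_contra fun e => hg (a5 ψ hψ g e)), hc'] at this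
    exact dvd_of_eq (by omega)
  have b2 : ∀ ψ ∈ L, (dg χ : ℤ) = dg ψ + s := fun ψ hψ => by
    have := a5 ψ hψ 1 (by simp)
    rw [apply_one, apply_one] at this
    have e : 1 + s * ((dg ψ : ℤ) - dg χ) = 0 := by exact_mod_cast this
    rcases hs with rfl | rfl <;> omega
  have b3 : ∀ θ : IrrCharacter G, ¬ 3 ∣ dg θ → dg θ ∣ 2 ^ a * q ^ b := fun θ e =>
    Nat.Coprime.dvd_of_dvd_mul_left (m := 9) (Nat.Coprime.pow_right 2
      (Nat.prime_three.coprime_iff_not_dvd.2 e).symm) (hc' ▸ dg_dvd θ)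
  have b4 : ∀ ψ ∈ L, 1 ≤ a ∧ 1 ≤ b ∧ ((dg ψ = 2 ^ a ∧ dg χ = q ^ b) ∨ (dg ψ = q ^ b ∧ dg χ = 2 ^ a)) ∧
      ∀ g : G, 2 ∣ orderOf g → ¬ q ∣ orderOf g := fun ψ hψ => by
    have e1 := b2 ψ hψ
    have e2 := b1 ψ hψ
    have e3 : ψ ≠ triv G := fun e => a2 (e ▸ hψ)
    have e4 : ¬ q ∣ 9 := not_dvd_nine (a := 0) hq hq2 hq3
    rcases hs with rfl | rfl
    · simp only [Int.cast_one, one_mul] at e2
      obtain ⟨-, c1, c2, c3⟩ := three_term hG e3 a1 hq e2 (b3 _ (by omega)) (b3 _ (by omega))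
      exact ⟨c1, c2, c3, fun g => not_mixed hq hq2 hcard (by norm_num) e4 e2 c3⟩
    · simp only [Int.cast_neg, Int.cast_one, neg_mul, one_mul, neg_sub] at e2
      obtain ⟨-, c1, c2, c3⟩ := three_term hG a1 e3 hq e2 (b3 _ (by omega)) (b3 _ (by omega))
      exact ⟨c1, c2, by tauto, fun g => not_mixed hq hq2 hcard (by norm_num) e4 e2 c3⟩
  obtain ⟨ψ, hψ⟩ : L.Nonempty := Finset.card_pos.1 (by omega)
  obtain ⟨c1, c2, c3, c4⟩ := b4 ψ hψ
  have c5 := b2 ψ hψ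
  obtain rfl : b = 1 := catalan hq hq2 hq3 c2 (a := a) (by omega)
  rw [pow_one] at hcard c3
  obtain ⟨Q⟩ : Nonempty (Sylow q G) := inferInstance
  obtain ⟨q1, q2, m, q3, q4, q5⟩ := exists_m hcard (not_dvd_nine hq hq2 hq3) (fun g hg =>
    orderOf_eq_q hq hcard hg (fun e => c4 g e hg) fun e => not_dvd_nine (a := 0) hq hq2 hq3
      (hg.trans (show orderOf g ∣ 9 from h.card_Cz e ▸ orderOf_dvd_card_Cz g))) Q
  rcases num2 hq hs c1 c5 a6 c3 q3 q5 (by rw [card_sylow_modEq_one q G, Nat.mod_eq_of_lt hq.one_lt]) with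
    ⟨rfl, rfl, rfl, e⟩ | ⟨rfl, rfl, e⟩ | ⟨e1, e2, e3, e4, rfl⟩
  · exact Or.inl (case504 hG h hcard c4 e a2 a4 fun ψ hψ g hg => by simpa using a5 ψ hψ g hg)
  · exact Or.inr (psl17 hcard e)
  · exact (caseM hq e3 e4 hcard q1 q2 q4 a1 a2 a3 a4 e1 (fun θ hθ => by have := b2 θ hθ; omega) a7).elim

end Cfsg.Agent.S2220
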