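import Cfsg.Statements.S2202
import Cfsg.Agent.Lib.AIC.Ident
import Cfsg.Agent.Lib.SL2.SylowAux

set_option autoImplicit false
open Cfsg

namespace Cfsg.Agent.S2202

open Cfsg.Agent.AIC

theorem isCyclic_of_unique {P : Type*} [Group P] [Finite P] (hP : IsPGroup 2 P)
    (hc : ∀ a b : P, a * b = b * a) (z : P) (hz : ∀ a : P, a * a = 1 → a = 1 ∨ a = z) :
    IsCyclic P := by
  classical
  have := Fintype.ofFinite P
  refine isCyclic_of_card_pow_eq_one_le fun n => ?_
  induction n using Nat.strong_induction_on with | h n ih => ?_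
  intro hn
  rcases Nat.even_or_odd' n with ⟨m, rfl | rfl⟩
  · refine le_trans (Finset.card_le_mul_card_image_of_maps_to (f := fun a => a * a)
      (t := Finset.univ.filter fun a : P => a ^ m = 1) (fun a ha => ?_) 2 fun b _ => ?_)
      (Nat.mul_le_mul_left 2 (ih m (by omega) (by omega)))
    · simp only [Finset.mem_filter, Finset.mem_univ, true_and] at ha ⊢
      rwa [← sq, ← pow_mul]
    · rcases (Finset.filter (fun a => a * a = b) (Finset.univ.filter fun a : P =>
        a ^ (2 * m) = 1)).eq_empty_or_nonempty with e | ⟨a, ha⟩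
      · rw [e]; simp
      · refine le_trans (Finset.card_le_card (t := {a, a * z}) fun x hx => ?_) Finset.card_le_two
        have h1 := (Finset.mem_filter.1 ha).2
        have h2 := (Finset.mem_filter.1 hx).2
        have h3 : (a⁻¹ * x) * (a⁻¹ * x) = 1 := by
          rw [mul_assoc, ← mul_assoc x, hc x, mul_assoc, h2, ← h1]; group
        rcases hz _ h3 with e | e
        · rw [inv_mul_eq_one] at e; simp [e]
        · rw [inv_mul_eq_iff_eq_mul] at e; simp [e]
  · refine le_trans (Finset.card_le_one.2 ?_) (by omega)
    have key : ∀ a : P, a ^ (2 * m + 1) = 1 → a = 1 := fun a ha => by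
      obtain ⟨k, hk⟩ := hP a
      have h1 := Nat.dvd_gcd (orderOf_dvd_of_pow_eq_one ha) (orderOf_dvd_of_pow_eq_one hk)
      rw [Nat.Coprime.gcd_eq_one (Nat.Coprime.pow_right k (by
        rw [Nat.coprime_two_right]; exact odd_two_mul_add_one m)), Nat.dvd_one,
        orderOf_eq_one_iff] at h1
      exact h1
    intro a ha b hb
    rw [key a (Finset.mem_filter.1 ha).2, key b (Finset.mem_filter.1 hb).2]

/-- Finite groups in which the centralizer of every involution is abelian. Let G be a finite group of even order in which the centralizer of every element of order 2 is abelian. Then the Sylow 2-subgroups of G are cyclic, or a Sylow 2-subgroup of G is normal, or G is isomorphic to the direct product of SL₂(F) for a finite field F of characteristic two and an abelian group of odd order. -/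
theorem result {G : Type*} [Group G] [Finite G] (heven : Even (Nat.card G)) (h : ∀ t : G, orderOf t = 2 → IsMulCommutative ↥(Subgroup.centralizer ({t} : Set G))) :
    (∀ P : Sylow 2 G, IsCyclic ↥P) ∨ (∀ P : Sylow 2 G, (P : Subgroup G).Normal) ∨
    (∃ (F : Type) (_ : Field F) (_ : Fintype F) (A : Type) (_ : CommGroup A) (_ : Finite A), CharP F 2 ∧ Odd (Nat.card A) ∧ Nonempty (G ≃* Matrix.SpecialLinearGroup (Fin 2) F × A)) := by
  have : Fact (Nat.Prime 2) := ⟨Nat.prime_two⟩
  have hcomm : ∀ {t a b : G}, IsInv t → Commute a t → Commute b t → Commute a b :=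
    fun {t a b} ht ha hb => congrArg Subtype.val
      ((h t (isInv_iff.1 ht)).is_comm.comm ⟨a, mem_T.2 ha⟩ ⟨b, mem_T.2 hb⟩)
  by_cases h1 : ∀ P : Sylow 2 G, IsCyclic ↥P
  · exact Or.inl h1
  by_cases h2 : ∀ P : Sylow 2 G, (P : Subgroup G).Normal
  · exact Or.inr (Or.inl h2)
  right; right
  have hyp : Hyp G := by
    refine ⟨hcomm, ?_, ?_⟩
    · by_contra hc
      push Not at hc
      refine h2 fun P => ?_
      by_cases hP : (P : Subgroup G) = ⊥
      · rw [hP]; infer_instance
      obtain ⟨z, hz, hz2, hz3⟩ := SL2.exists_central_of_isPGroup P.isPGroup' hP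
      have hzi := isInv_iff.2 hz2
      refine ⟨fun x hx g => ?_⟩
      have h3 : Commute (g * x * g⁻¹) z :=
        hcomm (hzi.conj g) ((commute_conj_iff g x z).2 (hz3 x hx)) (hc _ _ hzi (hzi.conj g))
      obtain ⟨k, hk⟩ := P.isPGroup' ⟨x, hx⟩
      refine SL2.mem_sylow_of_mem_normalizer (k := k) P
        (Subgroup.centralizer_le_normalizer _ fun y hy => (hcomm hzi (hz3 y hy) h3).eq) ?_
      rw [conj_pow, show x ^ 2 ^ k = 1 from congrArg Subtype.val hk]
      simp
    · by_contra hc
      push Not at hc
      refine h1 fun P => ?_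
      by_cases hP : (P : Subgroup G) = ⊥
      · have : Subsingleton P := by
          change Subsingleton (P : Subgroup G)
          rw [hP]; infer_instance
        infer_instance
      obtain ⟨z, hz, hz2, hz3⟩ := SL2.exists_central_of_isPGroup P.isPGroup' hP
      have hzi := isInv_iff.2 hz2
      refine isCyclic_of_unique P.isPGroup'
        (fun a b => Subtype.ext (hcomm hzi (hz3 a a.2) (hz3 b b.2))) ⟨z, hz⟩ fun a ha => ?_
      by_contra hne
      push Not at hne
      exact hc a z ⟨fun e => hne.1 (Subtype.ext e), congrArg Subtype.val ha⟩ hzi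
        (fun e => hne.2 (Subtype.ext e)) (hz3 a a.2)
  obtain ⟨F, _, _, hF, ⟨e⟩⟩ := hyp.exists_equiv
  let : CommGroup (Subgroup.center G) :=
    { (inferInstance : Group (Subgroup.center G)) with
      mul_comm := fun a b => Subtype.ext (center_commute a.2 b) }
  have : Finite (Shrink.{0} (Subgroup.center G)) := Finite.of_equiv _ (equivShrink _)
  refine ⟨F, inferInstance, inferInstance, Shrink.{0} (Subgroup.center G), inferInstance,
    inferInstance, hF, ?_, ⟨e.symm.trans ((MulEquiv.refl _).prodCongr Shrink.mulEquiv.symm)⟩⟩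
  rw [Nat.card_congr (equivShrink _).symm]
  exact hyp.odd_card_center

end Cfsg.Agent.S2202
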