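import Cfsg.Statements.S2497
import Cfsg.Agent.Lib.EPC.Main
import Cfsg.Agent.Lib.EPB.Main
import Cfsg.Agent.Lib.EPH.SzIso

set_option autoImplicit false
open Cfsg

namespace Cfsg.Agent.S2497

/-- Let G be a finite non-abelian simple group in which every non-identity element has prime-power order. Then G is isomorphic to one of: the alternating group of degree 6, PSL(2,q) for q ∈ {4, 7, 8, 17}, PSL(3,4), or the Suzuki group over the field with 8 or with 32 elements. -/
theorem result {G : Type*} [Group G] [Finite G] [IsSimpleGroup G] (hG : ¬ IsMulCommutative G)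
    (h : ∀ g : G, g ≠ 1 → IsPrimePow (orderOf g)) :
    Nonempty (G ≃* alternatingGroup (Fin 6)) ∨
    (∃ (F : Type) (_ : Field F) (_ : Fintype F), Fintype.card F ∈ ({4, 7, 8, 17} : Finset ℕ) ∧
      Nonempty (G ≃* Matrix.ProjectiveSpecialLinearGroup (Fin 2) F)) ∨
    (∃ (F : Type) (_ : Field F) (_ : Fintype F), Fintype.card F = 4 ∧
      Nonempty (G ≃* Matrix.ProjectiveSpecialLinearGroup (Fin 3) F)) ∨
    (∃ (F : Type) (_ : Field F) (_ : Fintype F),
      (Fintype.card F = 8 ∧ Nonempty (G ≃* ↥(Cfsg.Lie.Sz F 4))) ∨ (Fintype.card F = 32 ∧ Nonempty (G ≃* ↥(Cfsg.Lie.Sz F 8)))) := by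
  have h' : EPO.EP G := h
  obtain ⟨T⟩ : Nonempty (Sylow 2 G) := inferInstance
  by_cases hTI : ∀ T' : Sylow 2 G, T ≠ T' → ∀ x ∈ (T : Subgroup G), x ∈ (T' : Subgroup G) → x = 1
  · rcases EPB.main_TI hG h' T hTI with h1 | ⟨n, k, s, z, r, Z, h1, h2, -, h3, h4, h5, -, h6, h7, -⟩
    · exact Or.inr (Or.inl h1)
    · exact Or.inr (Or.inr (Or.inr (EPH.sz_iso Z h1 h2 h3 h4 h5 h6 h7 h')))
  push Not at hTI
  obtain ⟨T', hne, x, hx, hx', hx1⟩ := hTI
  exact (EPC.main hG h' T T' hne hx hx' hx1).imp_right (Or.imp_right Or.inl)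

end Cfsg.Agent.S2497
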