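import Cfsg.Statements.S2431
import Cfsg.Agent.Lib.SL2.SylowAux

set_option autoImplicit false
open Cfsg

namespace Cfsg.Agent.S2431

set_option backward.isDefEq.respectTransparency false
open SL2 Matrix
open scoped MatrixGroups

theorem exists_three {F : Type*} [Field F] (h2 : (2 : F) ≠ 0) {a n : SL(2, F)} (ha : a * a = -1)
    (hn : n * n = -1) (hna : n * a = -(a * n)) :
    ∃ y : SL(2, F), orderOf y = 3 ∧ y * a * y⁻¹ = a * n ∧ y * n * y⁻¹ = a := by
  have hA : a.1 * a.1 = -1 := SL_coe_congr ha
  have hB : n.1 * n.1 = -1 := SL_coe_congr hn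
  have hBA : n.1 * a.1 = -(a.1 * n.1) := SL_coe_congr hna
  have tr0 : ∀ x : SL(2, F), x * x = -1 → x.1.trace = 0 := fun x hx =>
    SL_trace_eq_zero_of_isScal_mul_self (fun h => SL_neg_one_ne_one h2 (by
      rw [← hx, ← sq, SL_sq_of_isScal h])) (by rw [hx]; exact SL_isScal_iff.2 (Or.inr rfl))
  have tA := tr0 a ha
  have tB := tr0 n hn
  have tAB : (a.1 * n.1).trace = 0 := by
    have := congrArg Matrix.trace hBA
    rw [trace_mul_comm, trace_neg] at this
    apply mul_left_cancel₀ h2
    linear_combination this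
  generalize hAd : a.1 = A at hA hBA tA tAB
  generalize hBd : n.1 = B at hB hBA tB tAB
  have hA' : ∀ X, A * (A * X) = -X := fun X => by rw [← Matrix.mul_assoc, hA]; simp
  have hB' : ∀ X, B * (B * X) = -X := fun X => by rw [← Matrix.mul_assoc, hB]; simp
  have hBA' : ∀ X, B * (A * X) = -(A * (B * X)) := fun X => by
    rw [← Matrix.mul_assoc, hBA]; simp [Matrix.mul_assoc]
  set Y : Matrix (Fin 2) (Fin 2) F := (2 : F)⁻¹ • (-1 + A + B + A * B) with hY
  have tY : Y.trace = -1 := by
    rw [hY, trace_smul, trace_add, trace_add, trace_add, tA, tB, tAB]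
    simp; field_simp
  have hYY : Y * Y = -Y - 1 := by
    have : (-1 + A + B + A * B) * (-1 + A + B + A * B) =
        -((2 : F) • (-1 + A + B + A * B)) - (4 : F) • 1 := by
      simp only [mul_add, add_mul, neg_mul, mul_neg, mul_assoc, hA, hB, hBA, hA', hB', hBA',
        one_mul, mul_one, neg_neg]
      module
    rw [hY, smul_mul_smul_comm, this, smul_sub, smul_neg, smul_smul, smul_smul]
    congr 2
    · congr 1; field_simp
    · rw [show (2 : F)⁻¹ * 2⁻¹ * 4 = 1 by field_simp; norm_num, one_smul]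
  have dY : Y.det = 1 := by
    have := mul_self_eq Y
    rw [hYY, tY, neg_one_smul, sub_right_inj] at this
    simpa using (mat_ext_iff.1 this).1.symm
  refine ⟨⟨Y, dY⟩, ?_, ?_, ?_⟩
  · have : Fact (Nat.Prime 3) := ⟨Nat.prime_three⟩
    refine orderOf_eq_prime ?_ ?_
    · apply SL_ext
      change Y ^ 3 = 1
      rw [pow_three, hYY, mul_sub, mul_neg, hYY]; simp
    · intro h
      have h1 : Y = 1 := SL_coe_congr h
      have h3 : (Y * A).trace = A.trace := by rw [h1, one_mul]
      have h4 : (-1 + A + B + A * B) * A = -A - 1 - A * B + B := by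
        simp only [add_mul, neg_mul, mul_neg, mul_assoc, hA, hBA, hA', one_mul, neg_neg]
        abel
      rw [hY, smul_mul_assoc, h4, trace_smul, trace_add, trace_sub, trace_sub, trace_neg, tA, tB,
        tAB] at h3
      simp [h2] at h3
  · rw [mul_inv_eq_iff_eq_mul]
    apply SL_ext
    change Y * a.1 = a.1 * n.1 * Y
    rw [hAd, hBd, hY, smul_mul_assoc, mul_smul_comm]
    congr 1
    simp only [mul_add, add_mul, neg_mul, mul_neg, mul_assoc, hA, hB, hBA, hA', hB', hBA',
        one_mul, mul_one, neg_neg]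
    abel
  · rw [mul_inv_eq_iff_eq_mul]
    apply SL_ext
    change Y * n.1 = a.1 * Y
    rw [hAd, hBd, hY, smul_mul_assoc, mul_smul_comm]
    congr 1
    simp only [mul_add, add_mul, neg_mul, mul_neg, mul_assoc, hA, hB, hBA, hA', hB', hBA',
        one_mul, mul_one, neg_neg]
    abel

theorem exists_orderOf_eq {G : Type*} [Group G] [Finite G] (T : Subgroup G) (hT : IsCyclic T)
    {d : ℕ} (hd : d ∣ Nat.card T) : ∃ x ∈ T, orderOf x = d := by
  obtain ⟨t, ht⟩ := IsCyclic.exists_ofOrder_eq_natCard (α := T)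
  refine ⟨(t ^ (orderOf t / d)).1, (t ^ (orderOf t / d)).2, ?_⟩
  rw [Subgroup.orderOf_coe, orderOf_pow_orderOf_div (orderOf_pos t).ne' (ht ▸ hd)]

/-- Let F be a finite field with q elements, q odd, and S a Sylow 2-subgroup of SL₂ over F. The centraliser of S is the centre of SL₂ (of order 2); S is its own normaliser when q ≡ ±1 mod 8, and has index 3 in its normaliser when q ≡ ±3 mod 8. -/
theorem result {F : Type*} [Field F] [Fintype F] (hodd : Odd (Fintype.card F)) (S : Sylow 2 (Matrix.SpecialLinearGroup (Fin 2) F)) :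
    Subgroup.centralizer ((S : Subgroup (Matrix.SpecialLinearGroup (Fin 2) F)) : Set (Matrix.SpecialLinearGroup (Fin 2) F)) = Subgroup.center (Matrix.SpecialLinearGroup (Fin 2) F) ∧
    ((Fintype.card F % 8 = 1 ∨ Fintype.card F % 8 = 7) →
      Subgroup.normalizer ((S : Subgroup (Matrix.SpecialLinearGroup (Fin 2) F)) : Set (Matrix.SpecialLinearGroup (Fin 2) F)) = (S : Subgroup (Matrix.SpecialLinearGroup (Fin 2) F))) ∧
    ((Fintype.card F % 8 = 3 ∨ Fintype.card F % 8 = 5) →
      Nat.card (Subgroup.normalizer ((S : Subgroup (Matrix.SpecialLinearGroup (Fin 2) F)) : Set (Matrix.SpecialLinearGroup (Fin 2) F))) = 3 * Nat.card S) := by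
  rw [← Nat.card_eq_fintype_card] at hodd ⊢
  have h2 := odd_card_iff.1 hodd
  have hq := one_lt_card (F := F)
  obtain ⟨g, hd, hc, hi, hSN⟩ := exists_two_torus_ge h2 S.isPGroup'
  have hg := SL_not_isScal_of_trace hd
  set T := Subgroup.centralizer ({g} : Set SL(2, F)) with hT
  set N := Subgroup.normalizer (T : Set SL(2, F)) with hN
  have hcyc : IsCyclic T := isCyclic_cent_SL hd
  have h4 : 4 ∣ Nat.card T := by omega
  have hinv : ∀ y ∈ N, y ∉ T → ∀ t ∈ T, y * t * y⁻¹ = t⁻¹ := fun y hy hy' t ht =>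
    inverter_inverts hg (conj_eq_inv_of_mem_normalizer hd hy hy') ht
  have hsq : ∀ y ∈ N, y ∉ T → y * y = -1 := fun y hy hy' =>
    inverter_mul_self hd (conj_eq_inv_of_mem_normalizer hd hy hy')
  have hTS : ∀ t ∈ T, ∀ k : ℕ, t ^ 2 ^ k = 1 → t ∈ (S : Subgroup SL(2, F)) := by
    intro t ht k hk
    have h1 : (S : Subgroup SL(2, F)) ≤ Subgroup.normalizer (Subgroup.zpowers t : Set SL(2, F)) := by
      intro y hy
      apply Subgroup.mem_normalizer_fintype
      intro x hx
      have hxT : x ∈ T := (Subgroup.zpowers_le.2 ht) hx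
      by_cases hyT : y ∈ T
      · rw [SL_cent_comm hg hyT hxT, mul_inv_cancel_right]; exact hx
      · rw [hinv y (hSN hy) hyT x hxT]; exact inv_mem hx
    have h3 := S.is_maximal' (S.isPGroup'.to_sup_of_normal_right' (isPGroup_zpowers hk) h1)
      le_sup_left
    rw [← h3]
    exact Subgroup.mem_sup_right (Subgroup.mem_zpowers t)
  have hm1 : (-1 : SL(2, F)) ∈ (S : Subgroup SL(2, F)) := hTS _ (neg_one_mem_cent g) 1 (by simp)
  obtain ⟨n, hnS, hnT⟩ : ∃ n ∈ (S : Subgroup SL(2, F)), n ∉ T := by
    by_contra h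
    push Not at h
    apply S.not_dvd_index
    refine dvd_trans ?_ (Subgroup.index_dvd_of_le h)
    rw [← Subgroup.relIndex_mul_index (Subgroup.le_normalizer (H := T))]
    exact Dvd.dvd.mul_right (index_cent_normalizer hd).symm.dvd _
  obtain ⟨a, haT, ha⟩ := exists_orderOf_eq T hcyc h4
  have haS : a ∈ (S : Subgroup SL(2, F)) := hTS a haT 2 (by
    rw [show 2 ^ 2 = 4 by norm_num, ← ha, pow_orderOf_eq_one])
  have hns : ∀ x : SL(2, F), 2 < orderOf x → ¬ IsScal x.1 := fun x hx h => by
    have := orderOf_le_of_pow_eq_one two_pos (SL_sq_of_isScal h)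
    omega
  have ha' := hns a (by omega)
  have hCa := SL_cent_eq_of_mem hg ha' haT
  have hNT : ∀ y ∈ Subgroup.normalizer ((S : Subgroup SL(2, F)) : Set SL(2, F)), y ∈ N →
      y ∈ (S : Subgroup SL(2, F)) := by
    intro y hy hyN
    apply mem_sylow_of_mem_normalizer (k := 1) S hy
    rw [pow_one, sq]
    by_cases hyT : y ∈ T
    · have h1 := (Subgroup.mem_normalizer_iff.1 hy n).1 hnS
      have h3 := hinv n (hSN hnS) hnT y⁻¹ (inv_mem hyT)
      have : y * y = (y * n * y⁻¹) * n⁻¹ := by
        rw [mul_assoc, mul_assoc, ← mul_assoc n, h3, inv_inv]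
      rw [this]
      exact mul_mem h1 (inv_mem hnS)
    · rw [hsq y hyN hyT]; exact hm1
  refine ⟨?_, fun h8 => ?_, fun h8 => ?_⟩
  · apply le_antisymm
    · intro y hy
      have hyT : y ∈ T := by
        rw [hT, ← hCa]
        exact Subgroup.centralizer_le (Set.singleton_subset_iff.2 haS) hy
      have h1 := hinv n (hSN hnS) hnT y hyT
      rw [hy n hnS, mul_inv_cancel_right] at h1
      rw [SL_mem_center_iff']
      apply SL_sq_eq_one h2
      nth_rewrite 1 [h1]
      simp
    · exact Subgroup.center_le_centralizer _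
  · refine le_antisymm (fun y hy => hNT y hy ?_) Subgroup.le_normalizer
    obtain ⟨b, hbT, hb⟩ := exists_orderOf_eq T hcyc (show 8 ∣ Nat.card T by omega)
    have hbS : b ∈ (S : Subgroup SL(2, F)) := hTS b hbT 3 (by
      rw [show 2 ^ 3 = 8 by norm_num, ← hb, pow_orderOf_eq_one])
    have hb' := hns b (by omega)
    have hbd := SL_trace_sq_ne_of_mem hd hb' hbT
    have hCb := SL_cent_eq_of_mem hg hb' hbT
    have h1 := (Subgroup.mem_normalizer_iff.1 hy b).1 hbS
    have h3 : y * b * y⁻¹ ∈ T := by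
      by_contra h
      have h5 : (y * b * y⁻¹) ^ 4 = 1 := by
        rw [show 4 = 2 * 2 by norm_num, pow_mul, sq (y * b * y⁻¹), hsq _ (hSN h1) h]; simp
      rw [conj_pow, mul_inv_eq_one, mul_eq_left] at h5
      have := orderOf_le_of_pow_eq_one (by norm_num) h5
      omega
    rw [hN, hT, ← hCb, mem_normalizer_cent_iff hbd]
    exact eq_or_eq_inv_of_trace hbd (by rwa [hCb]) (SL_trace_conj b y)
  · have hT8 : Nat.card T % 8 = 4 := by omega
    have hS8 : Nat.card (S : Subgroup SL(2, F)) = 8 := by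
      have hG := N.card_mul_index
      rw [hN, hT, card_normalizer_cent hd, ← hT, ← hN] at hG
      obtain ⟨j, hj⟩ := S.isPGroup'.exists_card_eq
      have h5 : 2 ^ 3 ∣ Nat.card (S : Subgroup SL(2, F)) := S.pow_dvd_card_of_pow_dvd_card (by
        rw [← hG]
        exact Dvd.dvd.mul_right (by omega) _)
      have h6 : ¬ 2 ^ 4 ∣ Nat.card (S : Subgroup SL(2, F)) := by
        intro h
        have h7 := h.trans (Subgroup.card_subgroup_dvd_card _)
        rw [← hG] at h7
        have h9 := (Nat.Coprime.pow_left 4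
          ((Nat.Prime.coprime_iff_not_dvd Nat.prime_two).2 hi)).dvd_of_dvd_mul_right h7
        omega
      rw [hj, Nat.pow_dvd_pow_iff_le_right (by norm_num)] at h5 h6
      rw [hj, show j = 3 by omega]; norm_num
    have hST : Nat.card ((S : Subgroup SL(2, F)) ⊓ T : Subgroup SL(2, F)) ≤ 4 := by
      apply Nat.le_of_dvd (by norm_num)
      have e1 := Subgroup.card_dvd_of_le (inf_le_left (a := (S : Subgroup SL(2, F))) (b := T))
      have e2 := Subgroup.card_dvd_of_le (inf_le_right (a := (S : Subgroup SL(2, F))) (b := T))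
      rw [hS8] at e1
      have e3 := Nat.dvd_gcd e1 e2
      rwa [Nat.gcd_rec, hT8] at e3
    have hza : Subgroup.zpowers a = (S : Subgroup SL(2, F)) ⊓ T :=
      Subgroup.eq_of_le_of_card_ge (Subgroup.zpowers_le.2 ⟨haS, haT⟩)
        (by rwa [Nat.card_zpowers, ha])
    have haa : a * a = -1 := by
      refine (SL_sq_eq_one h2 ?_).resolve_left fun h => ?_
      · rw [← pow_orderOf_eq_one a, ha]; simp [pow_succ, mul_assoc]
      · have := orderOf_le_of_pow_eq_one two_pos (sq a ▸ h)
        omega
    have hna : n * a = -(a * n) := by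
      have := hinv n (hSN hnS) hnT a haT
      rw [mul_inv_eq_iff_eq_mul] at this
      rw [this, ← neg_mul]
      congr 1
      rw [inv_eq_iff_mul_eq_one, mul_neg, haa, neg_neg]
    obtain ⟨y, hy3, hya, hyn⟩ := exists_three h2 haa (hsq n (hSN hnS) hnT) hna
    have hyN : y ∈ Subgroup.normalizer ((S : Subgroup SL(2, F)) : Set SL(2, F)) := by
      have key : ∀ s ∈ (S : Subgroup SL(2, F)), s ∈ T → y * s * y⁻¹ ∈ (S : Subgroup SL(2, F)) := by
        intro s hs hsT
        have : s ∈ Subgroup.zpowers a := hza ▸ ⟨hs, hsT⟩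
        obtain ⟨k, rfl⟩ := this
        simp only
        rw [← conj_zpow, hya]
        exact zpow_mem (mul_mem haS hnS) k
      apply Subgroup.mem_normalizer_fintype
      intro s hs
      by_cases hsT : s ∈ T
      · exact key s hs hsT
      · have h5 : s * n⁻¹ ∈ T := by
          have := (Subgroup.mul_mem_iff_of_index_two (index_cent_normalizer hd)
            (a := ⟨s, hSN hs⟩) (b := ⟨n⁻¹, hSN (inv_mem hnS)⟩)).2 (by
              simp only [Subgroup.mem_subgroupOf, inv_mem_iff]
              exact iff_of_false hsT hnT)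
          exact this
        have h6 := mul_mem (key _ (mul_mem hs (inv_mem hnS)) h5) (hyn ▸ haS)
        have e : y * (s * n⁻¹) * y⁻¹ * (y * n * y⁻¹) = y * s * y⁻¹ := by group
        exact e ▸ h6
    set M := Subgroup.normalizer ((S : Subgroup SL(2, F)) : Set SL(2, F)) with hM
    have d3 : 3 ∣ Nat.card M := hy3 ▸ Subgroup.orderOf_dvd_natCard _ hyN
    have d8 : 8 ∣ Nat.card M := hS8 ▸ Subgroup.card_dvd_of_le Subgroup.le_normalizer
    have hle : Nat.card M ≤ 24 := by
      have haM : a ∈ M := Subgroup.le_normalizer haS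
      rw [← card_carrier_mul_card_centralizer (⟨a, haM⟩ : M)]
      have e1 : Nat.card (Subgroup.centralizer ({⟨a, haM⟩} : Set M)) ≤ 4 := by
        have hmem : ∀ x : Subgroup.centralizer ({⟨a, haM⟩} : Set M),
            x.1.1 ∈ ((S : Subgroup SL(2, F)) ⊓ T : Subgroup SL(2, F)) := by
          intro x
          have hxT : x.1.1 ∈ T := by
            rw [hT, ← hCa, mem_cent_iff]
            exact congrArg Subtype.val (mem_cent_iff.1 x.2)
          exact ⟨hNT _ x.1.2 (Subgroup.le_normalizer hxT), hxT⟩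
        refine le_trans (Nat.card_le_card_of_injective (fun x => ⟨x.1.1, hmem x⟩) ?_) hST
        intro x y h
        exact Subtype.ext (Subtype.ext (congrArg (fun z => z.1) h))
      have e2 : Nat.card (ConjClasses.mk (⟨a, haM⟩ : M)).carrier ≤ 6 := by
        have e3 : Nat.card (((S : Subgroup SL(2, F)) : Set SL(2, F)) \ {1, -1} : Set SL(2, F))
            = 6 := by
          rw [Nat.card_coe_set_eq, Set.ncard_diff, Set.ncard_pair (SL_neg_one_ne_one h2).symm,
            ← Nat.card_coe_set_eq]
          · exact congrArg (· - 2) hS8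
          · rintro _ (rfl | rfl)
            · exact one_mem _
            · exact hm1
        rw [← e3]
        have hmem : ∀ x : (ConjClasses.mk (⟨a, haM⟩ : M)).carrier,
            x.1.1 ∈ (((S : Subgroup SL(2, F)) : Set SL(2, F)) \ {1, -1} : Set SL(2, F)) := by
          intro x
          obtain ⟨c, hc⟩ := isConj_iff.1 (ConjClasses.mk_eq_mk_iff_isConj.1
            (ConjClasses.mem_carrier_iff_mk_eq.1 x.2).symm)
          have hc' : c.1 * a * c.1⁻¹ = x.1.1 := congrArg Subtype.val hc
          refine ⟨hc' ▸ (Subgroup.mem_normalizer_iff.1 c.2 a).1 haS, fun h => ha' ?_⟩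
          rw [SL_isScal_iff_of_isConj (isConj_iff.2 ⟨_, hc'⟩), SL_isScal_iff]
          exact h
        refine Nat.card_le_card_of_injective (fun x => ⟨x.1.1, hmem x⟩) ?_
        intro x y h
        exact Subtype.ext (Subtype.ext (congrArg (fun z => z.1) h))
      exact Nat.mul_le_mul e2 e1
    have hpos : 0 < Nat.card M := Nat.card_pos
    change Nat.card M = 3 * Nat.card (S : Subgroup SL(2, F))
    omega

end Cfsg.Agent.S2431
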