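import Cfsg.Statements.S2225
import Cfsg.Agent.Lib.GLn.Pronormal
import Cfsg.Agent.S2431

set_option autoImplicit false
open Cfsg

namespace Cfsg.Agent.S2225

open GLn SL2 Matrix
open scoped MatrixGroups

theorem exists_fixed {K : Type*} [Group K] [Finite K] [Nontrivial K] (hK : ¬ 2 ∣ Nat.card K)
    (α β : MulAut K) (hα : α * α = 1) (hβ : β * β = 1) (h : α * β * (α * β) = 1) :
    ∃ k : K, k ≠ 1 ∧ (α k = k ∨ β k = k ∨ (α * β) k = k) := by
  by_contra h0
  push Not at h0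
  have key : ∀ γ : MulAut K, γ * γ = 1 → (∀ k, k ≠ 1 → γ k ≠ k) → ∀ k, γ k = k⁻¹ := by
    intro γ h1 h2
    have h3 : MonoidHom.FixedPointFree γ := fun k hk => by
      by_contra h4
      exact h2 k h4 hk
    exact congrFun (h3.coe_eq_inv_of_involutive fun k => congrFun (congrArg DFunLike.coe h1) k)
  obtain ⟨k, hk⟩ := exists_ne (1 : K)
  refine (h0 k hk).2.2 ?_
  rw [MulAut.mul_apply, key β hβ fun k hk => (h0 k hk).2.1, key α hα fun k hk => (h0 k hk).1,
    inv_inv]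

variable {F : Type*} [Field F] [Finite F]

theorem exists_odd_comm (h2 : (2 : F) ≠ 0) (S : Sylow 2 SL(2, F)) {H : Subgroup SL(2, F)}
    (hS : (S : Subgroup SL(2, F)) ≤ H) (hH : ¬ H ≤ S) (hm : (-1 : SL(2, F)) ∈ (S : Subgroup SL(2, F)))
    (hc : ∀ s ∈ (S : Subgroup SL(2, F)), ∀ t ∈ (S : Subgroup SL(2, F)),
      s * t = t * s ∨ s * t = -(t * s))
    (hN : ∀ y ∈ H, y ∈ Subgroup.normalizer ((S : Subgroup SL(2, F)) : Set SL(2, F)) →
      y ∈ (S : Subgroup SL(2, F)))
    {a b : SL(2, F)} (ha : a ∈ (S : Subgroup SL(2, F))) (hb : b ∈ (S : Subgroup SL(2, F)))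
    (haa : a * a = -1) (hbb : b * b = -1) (hab : a * b * (a * b) = -1) :
    ∃ x ∈ H, Odd (orderOf x) ∧ x ≠ 1 ∧
      (x * a = a * x ∨ x * b = b * x ∨ x * (a * b) = a * b * x) := by
  let Z := (Subgroup.center SL(2, F)).subgroupOf H
  let φ := QuotientGroup.mk' Z
  have hφ : ∀ x y : H, φ x = φ y ↔ y.1 = x.1 ∨ y.1 = -x.1 := by
    intro x y
    rw [QuotientGroup.mk'_apply, QuotientGroup.mk'_apply, QuotientGroup.eq,
      Subgroup.mem_subgroupOf, SL_mem_center_iff', Subgroup.coe_mul, Subgroup.coe_inv,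
      inv_mul_eq_iff_eq_mul, inv_mul_eq_iff_eq_mul, mul_one, mul_neg_one]
  let P := (S.subtype hS).mapSurjective (QuotientGroup.mk'_surjective Z)
  have hP : ∀ y : H, φ y ∈ (P : Subgroup (H ⧸ Z)) ↔ y.1 ∈ (S : Subgroup SL(2, F)) := by
    intro y
    refine ⟨?_, fun h => ⟨y, h, rfl⟩⟩
    rintro ⟨z, hz, h⟩
    rcases (hφ z y).1 h with h | h
    · exact h ▸ hz
    · rw [h, ← neg_one_mul]
      exact mul_mem hm hz
  have hPN : Subgroup.normalizer ((P : Subgroup (H ⧸ Z)) : Set (H ⧸ Z)) ≤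
      Subgroup.centralizer ((P : Subgroup (H ⧸ Z)) : Set (H ⧸ Z)) := by
    intro y hy
    obtain ⟨y, rfl⟩ := QuotientGroup.mk'_surjective Z y
    have h1 : y.1 ∈ (S : Subgroup SL(2, F)) := hN y y.2 (Subgroup.mem_normalizer_fintype
      fun s hs => by
        have := (Subgroup.mem_normalizer_iff.1 hy (φ ⟨s, hS hs⟩)).1 ((hP _).2 hs)
        rw [← map_inv, ← map_mul, ← map_mul] at this
        exact (hP _).1 this)
    rintro _ ⟨s, hs, rfl⟩
    rw [← map_mul, ← map_mul]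
    exact (hφ _ _).2 (hc _ h1 _ hs)
  let K := (MonoidHom.transferSylow P hPN).ker
  have hK2 : ¬ 2 ∣ Nat.card K := MonoidHom.not_dvd_card_ker_transferSylow P hPN
  have : Nontrivial K := (Subgroup.nontrivial_iff_ne_bot K).2 fun h => hH fun y hy => by
    have h1 := MonoidHom.ker_transferSylow_isComplement' P hPN
    rw [show (MonoidHom.transferSylow P hPN).ker = ⊥ from h, Subgroup.isComplement'_bot_left] at h1
    exact (hP ⟨y, hy⟩).1 (h1 ▸ Subgroup.mem_top _)
  have hsq : ∀ c : H, c.1 * c.1 = -1 → (MulAut.conjNormal (φ c) : MulAut K) *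
      MulAut.conjNormal (φ c) = 1 := by
    intro c hc
    rw [← map_mul, ← map_mul, (hφ (c * c) 1).2 (Or.inr (by simp [hc])), map_one, map_one]
  have key : ∀ (c : H) (k : K), k ≠ 1 → (MulAut.conjNormal (φ c) : MulAut K) k = k →
      ∃ x ∈ H, Odd (orderOf x) ∧ x ≠ 1 ∧ x * c.1 = c.1 * x := by
    rintro c ⟨k, hk⟩ h1 h3
    obtain ⟨y, rfl⟩ := QuotientGroup.mk'_surjective Z k
    have h4 : φ (c * y * c⁻¹) = φ y := by
      rw [map_mul, map_mul, map_inv]
      exact congrArg Subtype.val h3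
    have ho : Odd (Nat.card K) := Nat.odd_iff.2 (Nat.two_dvd_ne_zero.1 hK2)
    have h5 : φ (y ^ Nat.card K) = φ 1 := by
      rw [map_pow, map_one]
      exact congrArg Subtype.val (pow_card_eq_one' (x := (⟨φ y, hk⟩ : K)))
    refine ⟨y.1 ^ 2, pow_mem y.2 2, ho.of_dvd_nat (orderOf_dvd_of_pow_eq_one ?_), fun h6 => h1 ?_, ?_⟩
    · rw [← pow_mul, mul_comm, pow_mul]
      rcases (hφ _ _).1 h5.symm with h | h <;>
        rw [show y.1 ^ Nat.card K = _ from h] <;> simp
    · rw [← orderOf_eq_one_iff]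
      refine Nat.eq_one_of_dvd_coprimes (Nat.coprime_two_left.2 ho)
        (orderOf_dvd_of_pow_eq_one (Subtype.ext ?_)) (orderOf_dvd_natCard _)
      change φ y ^ 2 = 1
      rw [← map_pow, show y ^ 2 = 1 from Subtype.ext h6, map_one]
    · rw [eq_comm, ← mul_inv_eq_iff_eq_mul, ← conj_pow]
      rcases (hφ _ _).1 h4.symm with h | h <;>
        rw [show c.1 * y.1 * c.1⁻¹ = _ from h]
      exact neg_sq _
  have hmul : (MulAut.conjNormal (φ ⟨a, hS ha⟩) : MulAut K) * MulAut.conjNormal (φ ⟨b, hS hb⟩) =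
      MulAut.conjNormal (φ ⟨a * b, hS (mul_mem ha hb)⟩) := by
    rw [← map_mul, ← map_mul]
    rfl
  obtain ⟨k, hk, h⟩ := exists_fixed hK2 (MulAut.conjNormal (φ ⟨a, hS ha⟩))
    (MulAut.conjNormal (φ ⟨b, hS hb⟩)) (hsq _ haa) (hsq _ hbb) (by
      rw [hmul]
      exact hsq _ hab)
  rcases h with h | h | h
  · obtain ⟨x, h1, h3, h4, h5⟩ := key _ k hk h
    exact ⟨x, h1, h3, h4, Or.inl h5⟩
  · obtain ⟨x, h1, h3, h4, h5⟩ := key _ k hk h
    exact ⟨x, h1, h3, h4, Or.inr (Or.inl h5)⟩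
  · rw [hmul] at h
    obtain ⟨x, h1, h3, h4, h5⟩ := key _ k hk h
    exact ⟨x, h1, h3, h4, Or.inr (Or.inr h5)⟩

theorem mem_of_odd_comm (h2 : (2 : F) ≠ 0) (S : Sylow 2 SL(2, F)) {L : Subgroup SL(2, F)}
    (hS : (S : Subgroup SL(2, F)) ≤ L) (hm : (-1 : SL(2, F)) ∈ (S : Subgroup SL(2, F)))
    (hc : ∀ s ∈ (S : Subgroup SL(2, F)), ∀ t ∈ (S : Subgroup SL(2, F)),
      s * t = t * s ∨ s * t = -(t * s))
    (hN : ∀ y ∈ L, y ∈ Subgroup.normalizer ((S : Subgroup SL(2, F)) : Set SL(2, F)) →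
      y ∈ (S : Subgroup SL(2, F)))
    {c n g x₀ : SL(2, F)} (hcS : c ∈ (S : Subgroup SL(2, F))) (hn : n ∈ (S : Subgroup SL(2, F)))
    (hcc : c * c = -1) (hnc : n * c ≠ c * n)
    (hg : g ∈ Subgroup.normalizer ((S : Subgroup SL(2, F)) : Set SL(2, F)))
    (hx₀ : x₀ ∈ L) (hx₀' : g * x₀ * g⁻¹ ∈ L) (ho : Odd (orderOf x₀)) (h1 : x₀ ≠ 1)
    (hxc : x₀ * c = c * x₀) : g ∈ (S : Subgroup SL(2, F)) := by
  have hcs : ¬ IsScal c.1 := fun h => hnc (SL_ext (h.comm _))
  have hcd : c.1.trace ^ 2 ≠ 4 := by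
    rw [SL_trace_eq_zero_of_isScal_mul_self hcs (by rw [hcc]; exact SL_isScal_iff.2 (Or.inr rfl))]
    intro h
    apply mul_ne_zero h2 h2
    linear_combination -h
  obtain ⟨r, hr, hro⟩ := Nat.exists_prime_and_dvd (mt orderOf_eq_one_iff.1 h1)
  have := Fact.mk hr
  have hr2 : r ≠ 2 := by
    rintro rfl
    exact (Nat.not_even_iff_odd.2 ho) (even_iff_two_dvd.2 hro)
  set x := x₀ ^ (orderOf x₀ / r) with hx
  have hxr : orderOf x = r := orderOf_pow_orderOf_div ho.pos.ne' hro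
  have hxT : x ∈ Subgroup.centralizer ({c} : Set SL(2, F)) := pow_mem (mem_cent_iff.2 hxc) _
  have hrq : ¬ r ∣ Nat.card F := by
    intro h
    have h3 := Subgroup.orderOf_dvd_natCard _ hxT
    have h4 := one_lt_card (F := F)
    apply hr.one_lt.ne'
    rcases card_cent_regular hcd with h5 | h5 <;> rw [hxr, h5] at h3
    · have := Nat.dvd_sub h h3
      rwa [show Nat.card F - (Nat.card F - 1) = 1 by omega, Nat.dvd_one] at this
    · have := Nat.dvd_sub h3 h
      rwa [show Nat.card F + 1 - Nat.card F = 1 by omega, Nat.dvd_one] at this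
  have hxd := trace_sq_ne_of_prime_order hr hr2 hrq hxr
  have hxs := SL_not_isScal_of_trace hxd
  have hT := SL_cent_eq_of_mem hcs hxs hxT
  have hxL : x ∈ L := pow_mem hx₀ _
  have hxL' : g * x * g⁻¹ ∈ L := by rw [hx, ← conj_pow]; exact pow_mem hx₀' _
  have hxp : x ^ r ^ 1 = 1 := by rw [pow_one, ← hxr, pow_orderOf_eq_one]
  obtain ⟨R, hR⟩ := (Alt.isPGroup_zpowers_of_pow (y := (⟨x, hxL⟩ : L))
    (Subtype.ext hxp)).exists_le_sylow
  have hxR := hR (Subgroup.mem_zpowers _)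
  obtain ⟨l, -, hl⟩ := Alt.exists_conj_mem_sylow R (D := ⊤) le_top (x := ⟨_, hxL'⟩) trivial
    (k := 1) (Subtype.ext (by
      change (g * x * g⁻¹) ^ r ^ 1 = 1
      rw [conj_pow, hxp]; simp))
  obtain ⟨z, -, hz, hz'⟩ := exists_central_of_isPGroup R.isPGroup' (fun h => by
    rw [h, Subgroup.mem_bot] at hxR
    rw [show x = 1 from congrArg Subtype.val hxR, orderOf_one] at hxr
    exact hr.one_lt.ne hxr)
  have hzs := SL_not_isScal_of_trace
    (trace_sq_ne_of_prime_order hr hr2 hrq ((Subgroup.orderOf_coe z).trans hz))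
  have h3 : l.1 * g * x * (l.1 * g)⁻¹ ∈ Subgroup.centralizer ({x} : Set SL(2, F)) := by
    rw [SL_cent_eq_of_mem hzs hxs (mem_cent_iff.2 (congrArg Subtype.val (hz' _ hxR)))]
    have := mem_cent_iff.2 (congrArg Subtype.val (hz' _ hl))
    simpa [mul_assoc] using this
  have h4 := (mem_normalizer_cent_iff hxd).2 (eq_or_eq_inv_of_trace hxd h3 (SL_trace_conj _ _))
  rw [hT] at h4
  set M := Subgroup.normalizer (Subgroup.centralizer ({c} : Set SL(2, F)) : Set SL(2, F))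
  have hSM : (S : Subgroup SL(2, F)) ≤ M := fun s hs => (mem_normalizer_cent_iff hcd).2
    ((hc s hs c hcS).imp mul_inv_eq_iff_eq_mul.2 fun h => by
      rw [h, eq_inv_iff_mul_eq_one]
      simp [hcc])
  obtain ⟨d, hd, h5⟩ := Alt.exists_conj_le_sylow S (D := M ⊓ L) (le_inf hSM hS)
    (Q := (S : Subgroup SL(2, F)).map (MulAut.conj l.1).toMonoidHom) (by
      rintro _ ⟨s, hs, rfl⟩
      refine Subgroup.mem_inf.2 ⟨?_, mul_mem (mul_mem l.2 (hS hs)) (inv_mem l.2)⟩
      have := mul_mem (mul_mem h4 (hSM ((Subgroup.mem_normalizer_iff''.1 hg s).1 hs))) (inv_mem h4)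
      simpa [mul_assoc] using this) (S.isPGroup'.map _)
  have h6 := hSM (hN (d * l.1) (mul_mem (Subgroup.mem_inf.1 hd).2 l.2) (Subgroup.mem_normalizer_fintype fun s hs => by
    have := h5 _ ⟨s, hs, rfl⟩
    simpa only [MulEquiv.coe_toMonoidHom, MulAut.conj_apply, mul_assoc, _root_.mul_inv_rev,
      SetLike.mem_coe] using this))
  have h7 : g ∈ M := (mul_mem_cancel_left ((mul_mem_cancel_left (Subgroup.mem_inf.1 hd).1).1 h6)).1 h4
  apply mem_sylow_of_mem_normalizer (k := 1) S hg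
  rw [pow_one, sq]
  by_cases h8 : g ∈ Subgroup.centralizer ({c} : Set SL(2, F))
  · have h9 := inverter_inverts hcs
      (conj_eq_inv_of_mem_normalizer hcd (hSM hn) (mt mem_cent_iff.1 hnc)) (inv_mem h8)
    have : g * g = g * n * g⁻¹ * n⁻¹ := by
      rw [mul_assoc, mul_assoc, ← mul_assoc n, h9, inv_inv]
    rw [this]
    exact mul_mem ((Subgroup.mem_normalizer_iff.1 hg n).1 hn) (inv_mem hn)
  · rw [inverter_mul_self hcd (conj_eq_inv_of_mem_normalizer hcd h7 h8)]
    exact hm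

theorem pronormal_SL2 (ho : Odd (Nat.card F)) {H : Subgroup SL(2, F)} (hH : ¬ 2 ∣ H.index) :
    Cfsg.IsPronormal H := by
  have := Fintype.ofFinite F
  have h2 := two_ne_zero_of_odd ho
  obtain ⟨S, hS⟩ := Alt.exists_sylow_le_of_not_dvd_index hH
  obtain ⟨hC, h1, h3⟩ := S2431.result (F := F) (by rwa [← Nat.card_eq_fintype_card]) S
  rw [← Nat.card_eq_fintype_card] at h1 h3
  by_cases hq : Nat.card F % 8 = 1 ∨ Nat.card F % 8 = 7
  · exact pronormal_of_normalizer_le S hS ((h1 hq).le.trans (hS.trans Subgroup.le_normalizer))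
  have hq' : Nat.card F % 8 = 3 ∨ Nat.card F % 8 = 5 := by
    obtain ⟨k, hk⟩ := ho
    omega
  replace h3 := h3 hq'
  have hm : (-1 : SL(2, F)) ∈ (S : Subgroup SL(2, F)) := mem_sylow_of_mem_normalizer (k := 1) S
    (Subgroup.center_le_normalizer _ (SL_mem_center_iff'.2 (Or.inr rfl))) (by simp)
  have hS8 : Nat.card (S : Subgroup SL(2, F)) = 2 ^ 3 := by
    obtain ⟨m, hm, hm'⟩ : ∃ m, Nat.card F ^ 2 - 1 = 2 ^ 3 * m ∧ ¬ 2 ∣ m := by
      rw [← Nat.div_add_mod (Nat.card F) 8]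
      generalize Nat.card F / 8 = k
      rcases hq' with h | h <;> rw [h]
      · exact ⟨2 * (4 * k ^ 2 + 3 * k) + 1, by rw [Nat.sub_eq_iff_eq_add (Nat.one_le_pow _ _ (by omega))]; ring,
          by omega⟩
      · exact ⟨2 * (4 * k ^ 2 + 5 * k + 1) + 1, by rw [Nat.sub_eq_iff_eq_add (Nat.one_le_pow _ _ (by omega))]; ring,
          by omega⟩
    refine Alt.card_sylow_of_eq S (m := Nat.card F * m) (by rw [card_SL2, hm]; ring) fun h => ?_
    rcases (Nat.Prime.dvd_mul Nat.prime_two).1 h with h | h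
    · omega
    · exact hm' h
  have hZS : Subgroup.center SL(2, F) ≤ S := fun z hz => by
    rcases SL_mem_center_iff'.1 hz with rfl | rfl
    · exact one_mem _
    · exact hm
  have hc : ∀ s ∈ (S : Subgroup SL(2, F)), ∀ t ∈ (S : Subgroup SL(2, F)),
      s * t = t * s ∨ s * t = -(t * s) := by
    intro s hs t ht
    have h4 : Nat.card ((S : Subgroup SL(2, F)) ⧸ (Subgroup.center SL(2, F)).subgroupOf S) =
        2 ^ 2 := by
      have h5 := Subgroup.card_eq_card_quotient_mul_card_subgroup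
        ((Subgroup.center SL(2, F)).subgroupOf S)
      rw [hS8, Nat.card_congr (Subgroup.subgroupOfEquivOfLe hZS).toEquiv,
        card_center_SL_odd h2] at h5
      omega
    have h5 := (IsPGroup.isMulCommutative_of_card_eq_prime_sq h4).is_comm.comm (QuotientGroup.mk ⟨t, ht⟩)
      (QuotientGroup.mk ⟨s, hs⟩)
    rw [← QuotientGroup.mk_mul, ← QuotientGroup.mk_mul, QuotientGroup.eq, Subgroup.mem_subgroupOf,
      SL_mem_center_iff'] at h5
    simpa only [Subgroup.coe_mul, Subgroup.coe_inv, inv_mul_eq_iff_eq_mul, mul_one,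
      mul_neg_one] using h5
  obtain ⟨a, ha, b, hb, hab⟩ : ∃ a ∈ (S : Subgroup SL(2, F)), ∃ b ∈ (S : Subgroup SL(2, F)),
      a * b ≠ b * a := by
    by_contra h
    push Not at h
    have h4 : (S : Subgroup SL(2, F)) ≤ Subgroup.center _ := by
      rw [← hC]
      exact fun x hx y hy => h _ hy _ hx
    have h5 := Subgroup.card_dvd_of_le h4
    rw [hS8, card_center_SL_odd h2] at h5
    omega
  have hsq : ∀ c ∈ (S : Subgroup SL(2, F)), ∀ n ∈ (S : Subgroup SL(2, F)), n * c ≠ c * n →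
      c * c = -1 := by
    intro c hcS n hn hnc
    have h4 : IsScal (c * c).1 := by
      rw [← SL_mem_center_iff, ← hC]
      intro s hs
      rcases hc s hs c hcS with h | h
      · rw [← mul_assoc, h, mul_assoc, h, mul_assoc]
      · rw [← mul_assoc, h, neg_mul, mul_assoc, h, mul_neg, neg_neg, mul_assoc]
    exact SL_mul_self_of_trace_eq_zero
      (SL_trace_eq_zero_of_isScal_mul_self (fun h => hnc (SL_ext (h.comm _))) h4)
  have hab' : a * (a * b) ≠ a * b * a := fun h => hab (mul_left_cancel (h.trans (mul_assoc _ _ _)))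
  refine pronormal_of_normalizer S hS fun g hg => ?_
  by_cases h4 : g ∈ H ⊔ H.map (MulAut.conj g).toMonoidHom
  · exact ⟨g, h4, rfl⟩
  set L := H ⊔ H.map (MulAut.conj g).toMonoidHom
  have hSL : (S : Subgroup SL(2, F)) ≤ L := hS.trans le_sup_left
  have hN : ∀ y ∈ L, y ∈ Subgroup.normalizer ((S : Subgroup SL(2, F)) : Set SL(2, F)) →
      y ∈ (S : Subgroup SL(2, F)) := by
    intro y hy hy'
    set N := Subgroup.normalizer ((S : Subgroup SL(2, F)) : Set SL(2, F))
    have h5 : (S : Subgroup SL(2, F)) ≤ N ⊓ L := le_inf Subgroup.le_normalizer hSL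
    obtain ⟨k, hk⟩ := Subgroup.card_dvd_of_le h5
    have h6 := Subgroup.card_dvd_of_le (inf_le_left (a := N) (b := L))
    rw [h3, hk, mul_comm 3, Nat.mul_dvd_mul_iff_left Nat.card_pos,
      Nat.dvd_prime Nat.prime_three] at h6
    rcases h6 with rfl | rfl
    · rw [Subgroup.eq_of_le_of_card_ge h5 (by rw [hk, mul_one])]
      exact ⟨hy', hy⟩
    · have h7 := Subgroup.eq_of_le_of_card_ge (inf_le_left (a := N) (b := L))
        (by rw [h3, hk, mul_comm])
      rw [← h7] at hg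
      exact absurd hg.2 h4
  by_cases h5 : H ≤ S
  · obtain rfl := le_antisymm h5 hS
    exact ⟨1, one_mem _, by
      rw [map_conj_eq_of_mem_normalizer hg, map_conj_eq_of_mem_normalizer (one_mem _)]⟩
  obtain ⟨x, hx, h6, h7, h8⟩ := exists_odd_comm h2 S hS h5 hm hc
    (fun y hy => hN y (Subgroup.mem_sup_left hy)) ha hb (hsq a ha b hb hab.symm) (hsq b hb a ha hab)
    (hsq _ (mul_mem ha hb) a ha hab')
  have hxL : x ∈ L := Subgroup.mem_sup_left hx
  have hxL' : g * x * g⁻¹ ∈ L := Subgroup.mem_sup_right ⟨x, hx, rfl⟩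
  refine absurd (hSL ?_) h4
  rcases h8 with h8 | h8 | h8
  · exact mem_of_odd_comm h2 S hSL hm hc hN ha hb (hsq a ha b hb hab.symm) hab.symm hg hxL hxL'
      h6 h7 h8
  · exact mem_of_odd_comm h2 S hSL hm hc hN hb ha (hsq b hb a ha hab) hab hg hxL hxL' h6 h7 h8
  · exact mem_of_odd_comm h2 S hSL hm hc hN (mul_mem ha hb) ha (hsq _ (mul_mem ha hb) a ha hab')
      hab' hg hxL hxL' h6 h7 h8

/-- Let F be a finite field and d = 2^w ≥ 2 a power of 2 such that PSL_d(F) is simple. Then every subgroup H of PSL_d(F) of odd index is pronormal: for every g, H and gHg⁻¹ are conjugate by an element of the subgroup they generate. -/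
theorem result {F : Type*} [Field F] [Fintype F]
    (w : ℕ) (hw : 1 ≤ w) (hs : IsSimpleGroup (Matrix.ProjectiveSpecialLinearGroup (Fin (2 ^ w)) F))
    (H : Subgroup (Matrix.ProjectiveSpecialLinearGroup (Fin (2 ^ w)) F)) (hH : Odd H.index) : Cfsg.IsPronormal H := by
  refine pronormal_of_comap (QuotientGroup.mk' _) (QuotientGroup.mk'_surjective _) ?_
  rw [← Subgroup.index_comap_of_surjective H (QuotientGroup.mk'_surjective _)] at hH
  generalize H.comap (QuotientGroup.mk' _) = K at hH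
  replace hH : ¬ 2 ∣ K.index := fun h => (Nat.not_even_iff_odd.2 hH) (even_iff_two_dvd.2 h)
  clear hs H
  by_cases h2 : ringChar F = 2
  · have : CharP F 2 := h2 ▸ ringChar.charP F
    obtain ⟨n, hn⟩ : ∃ n, 2 ^ w = n + 1 := ⟨2 ^ w - 1, (Nat.sub_add_cancel Nat.one_le_two_pow).symm⟩
    revert K
    rw [hn]
    exact fun K hK => pronormal_SL_char 2 hK
  have ho : Odd (Nat.card F) := by
    rw [Nat.card_eq_fintype_card, Nat.odd_iff]
    exact FiniteField.odd_card_of_char_ne_two h2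
  rcases hw.eq_or_lt with rfl | hw
  · exact pronormal_SL2 ho hH
  obtain ⟨k, rfl⟩ : ∃ k, w = k + 2 := ⟨w - 2, by omega⟩
  obtain ⟨S, hS⟩ := Alt.exists_sylow_le_of_not_dvd_index hH
  exact pronormal_of_normalizer_le S hS ((normalizer_sylow_two_SL ho (good_sylow_two ho fun P =>
    (S2431.result (by rwa [← Nat.card_eq_fintype_card]) P).1) k S).trans
      (hS.trans Subgroup.le_normalizer))

end Cfsg.Agent.S2225
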