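import Cfsg.Statements.S2341
import Cfsg.Agent.Lib.RD.H

set_option autoImplicit false
open Cfsg

namespace Cfsg.Agent.S2341

open Cfsg.Lie Cfsg.Agent.Chev Cfsg.Agent.RD Finset

theorem cert1 : certOK (-1) [1, -1, 1, -1, 1, 0, 1]
    [3970107879098, 6710589669073, 29045974653798, 30137501194454, 9724475775028, 18208036689045,
     10661121116086, 1224133209880, 4210351671596, 19153702282960, 7379118977149, 8856750257044,
     -16244185828984, -28576536724763, -22674844431264, -23757350719063, -11464160835656, -1894227378921,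
     -26020828710549, -38436872463821, -35012708992678, -55932969668061, -12783012351868, 3346052117089,
     -7299779733288, -8549826331501, -21746755869314, -45358388994121, 9604498504627, 14848560211081,
     34664196102541, 57228012779499, 17368910146326, 7501465417519, 17410212761299, 9394804446488,
     42922433166646, 71929870364165, 24973904164930, 32017399423877, 604128029564, -17217047412848,
     21453191530992, 31634107026553, 29399028045261, 51880675993706, -13530424131502, -27530211177254,
     -20548151807142, -31388415415384, -4961803469956, 10681612246036, -26483078091412, -31409558545360,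
     -48447428002335, -72320480698160, -14818489596407, -12871416615911, -5099321135510, 1839605480300,
     -25582947803333, -40488704088080, -5837719767652, -11040424445803, 15578246184740, 25935833428742,
     9707119609870, 10172917850588, 6034949999082, 597887450702, 24712614087043, 32946555334797,
     18738341231019, 26740108682171, 6593488580770, 4876290794963, 2520144243442, 2060129299886,
     5144202231700, 11003705157459, -9456894152171, -11003375343579, -15056051034623, -20680936856163]
    [25791844755345, 2740481789975, 26305492863823, 3832008330631, 31684312199742, 15056051034623,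
     20680936856163]
    [4, 10, 12, 16, 18, 24] 21821736876247 72 81 2 = true := by
  decide +kernel

theorem cert2 : certOK (2) [1, 1, 1, 2, 1, 1, 0, 1, 1, 1]
    [8317242306277, -1678284073304, -675136628060, -1956704951117, -7444491119934, -7349990370, 556002487650,
     7296715223382, 2112481859394, -3121930598514, -5187332820451, -6538511407426, 1445222416825,
     4369014965155, 8140082665532, 1333272641573, -5791137939271, -7437650825902, -5666134321643,
     4590403680967, 8796470546456, 8976710127641, 381878773855, -7579145679002, -8123476618119,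
     -4317371436927, 7060667051229, 10004970616161, 8475688062216, -389388016863, -9686083580919,
     -9356700980286, -3630047088380, 6892912572019, 10603792542572, 6738659412782, -3892165201809,
     -11333015662428, -10293455629083, -2993427925995, 8307668520260, 10771367276093, 5423983301419,
     -4244588833094, -12155226762459, -8876795185083, -733617373254, 7801120609437, 9347540329342,
     3409753797148, -5628098948611, -9741693587002, -5806217026572, 1612797934467, 9033470912883,
     7778744514354, 2109770686941, -3840402894087, -6630860778663, -2959310348031, 2638351824344,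
     5830031469497, 5281100131039, 1264921484230, -3194222044669, -4591842892687, -2043376374080,
     1444118331007, 4195782771907, 2987461130146, -344576446489, -2653387052035, -3911810973404,
     -1900312312133, 731420458626, 2490103383078, 1639015769154, -760816806594, -2635883186910,
     -2289950344266, -425627861539, 996461457158, 1709995271966, 774716194067]
    [-2182584819146, -4960674159669, -5288684976853, -2050411702679, 382038460649, 169684360513,
     -2280828867585, -3481172923191, -2484711466033, -774716194067]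
    [4, 10, 12, 16, 18, 24] 14451899793408 72 3044 2 = true := by
  decide +kernel

theorem fold : FoldOK chevE6 chevF4 twE6 2
    (byteAt 0x2f2e2d2c282c2b272a26242925232221282720261f1d241d1a18251e1c1b231c19221b210e140d16130c1413110a1715120b1210090f08070e0d0c0a060b09050804030703020100)
    (byteAt 0x102010300) (byteAt 0x1030200) := by
  decide +kernel

theorem one1 : OneOK chevF4 2 2 ⟨3, by decide⟩ [] [24, 26, 31, 32, 42, 43, 45, 46, 47]
    fun r => if r = 46 then 0 else (len chevF4 r).toNat := by
  decide +kernel

theorem one2 : OneOK chevF4 2 2 ⟨2, by decide⟩ [24] [25, 30, 41]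
    fun r => if len chevF4 r = 2 then 0 else 48 - r := by
  decide +kernel

theorem hts_eq : (hts chevF4 fun r => r ∈ [25, 30, 41, 26, 31, 32, 42, 43, 45, 46, 47]) =
    [0, 1, 2, 3, 4, 4, 5, 6, 8, 9, 10] := by
  decide +kernel

theorem arith {q k : ℕ} (hq : 2 ≤ q) (h1 : k < q * (q ^ 6 - q ^ 3 + 1) * (q ^ 4 + 1))
    (h2 : (q - 1) * 1 + ([0, 1, 2, 3, 4, 4, 5, 6, 8, 9, 10].map fun a => (q - 1) * q ^ a).sum ≤ k) :
    ¬ (k : ℤ) ∣ ((q ^ 2 : ℕ) : ℤ) ^ 36 *
      ([2, 5, 6, 8, 9, 12].map fun e => ((q ^ 2 : ℕ) : ℤ) ^ e - 1).prod := fun h3 => by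
  have h4 : (k : ℤ) ∣ (q : ℤ) ^ 72 * ([4, 10, 12, 16, 18, 24].map fun e => (q : ℤ) ^ e - 1).prod := by
    simpa [← pow_mul] using h3
  clear h3
  simp only [List.map, List.sum_cons, List.sum_nil] at h2
  zify [one_le_two.trans hq, Nat.pow_le_pow_right (one_le_two.trans hq) (by norm_num : 3 ≤ 6)] at h1 h2
  rcases (by linarith : (q : ℤ) * (q ^ 6 - q ^ 3 + 1) * (q ^ 4 + 1) - 2 ≤ k).eq_or_lt with h | h
  · refine not_dvd_of_cert cert2 hq (Dvd.dvd.trans ⟨pev [-1, 1] q, ?_⟩ h4)
    simp only [pev]; linarith
  · refine not_dvd_of_cert cert1 hq (Dvd.dvd.trans ⟨pev [1, 0, -1, 0, 1] q, ?_⟩ h4)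
    simp only [pev]; linarith

/-- For the twisted group ²E₆(q), realised over the field with q² elements (q a prime power), every irreducible complex representation of degree at least 2 has degree at least q(q⁶ − q³ + 1)(q⁴ + 1). -/
theorem result {K : Type*} [Field K] [Fintype K] (q : ℕ) (hq : IsPrimePow q) (hK : Fintype.card K = q ^ 2) :
    (∀ (k : ℕ) (ρ : Representation ℂ (Cfsg.Lie.twistedE6 K q) (Fin k → ℂ)), ρ.IsIrreducible → 2 ≤ k → q * (q ^ 6 - q ^ 3 + 1) * (q ^ 4 + 1) ≤ k) := by
  intro k ρ hρ hk
  by_contra hlt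
  obtain ⟨p, _, _, -, φ, hφ, hφk⟩ := exists_frob hq hK
  rw [← Nat.card_eq_fintype_card] at hK
  have E := emb_twistedE6 φ hφ hφk
  have W := fold.tw _ per_E6 E (range_twistedE6 φ hφ hφk).le hφ hφk hK hq.one_lt le_rfl (c := 2)
    (by decide +kernel) (by decide +kernel)
  have hk' : k < 2 * ((q - 1) * q ^ 10) := by
    obtain ⟨s, rfl⟩ := Nat.exists_eq_add_of_le hq.two_le
    refine (not_le.1 hlt).trans_le ?_
    zify [Nat.pow_le_pow_right (by omega : 0 < 2 + s) (by norm_num : 3 ≤ 6), (by omega : 1 ≤ 2 + s)]
    rw [← sub_nonneg]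
    ring_nf; positivity
  obtain ⟨l1, a1, a2⟩ := W.node hρ hk (j := ⟨3, by decide⟩) (by decide +kernel) hk'
  obtain ⟨l2, a3, a4⟩ := W.node hρ hk (j := ⟨2, by decide⟩) (by decide +kernel) hk'
  have b1 := W.reach one1 (by decide) a1 a2
  have b2 := W.reach one2 (by decide) a3 a4
  let S : Finset (Fin chevF4.nroots) :=
    univ.filter fun α => decide (α.1 ∈ [25, 30, 41, 26, 31, 32, 42, 43, 45, 46, 47])
  have hS : ∀ α ∈ S, len chevF4 α = 2 ∧ chevF4.nroots ≤ 2 * α.1 ∧ α.1 ∉ [24] ∧ (α.1 ∈ [25, 30, 41] ∨
      α.1 ∈ [24, 26, 31, 32, 42, 43, 45, 46, 47]) := by decide +kernel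
  have c1 := W.ld.chain (ρ := ρ) (rs chevF4).ht (NE (rs chevF4) {e | e.1 ∈ [24]})
    (fun α => q ^ ((rs chevF4).ht α - 1).toNat) S (fun α hα => by
        obtain ⟨h1, -, -, h2 | h2⟩ := hS α hα
        · exact ⟨(W.lg α).2 h1, b2 α h2⟩
        · obtain ⟨l, h3, h4⟩ := b1 α h2
          exact ⟨(W.lg α).2 h1, l, h3, h4.trans (Submodule.finrank_mono
            (WS_mono fun r hr => ⟨hr.1, hr.2.1, List.not_mem_nil⟩))⟩)
    fun α _ β hβ h1 h2 => mem_NE_of_ht ((rs_isPos_iff_le β).2 (hS β hβ).2.1) h1 h2 (hS β hβ).2.2.1
  obtain ⟨l, c2, c3⟩ := b1 ⟨24, by decide⟩ (by decide)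
  have c4 := W.ld.chain_step (ρ := ρ) ((W.lg _).2 (by decide)) c2
    (N := NE (rs chevF4) {e | e.1 ∈ []} ⟨24, by decide⟩) (S := S) fun β hβ => by
      obtain ⟨-, h1, h2, -⟩ := hS β hβ
      exact mem_NE_of_ht ((rs_isPos_iff_le β).2 h1) (fun e => h2 (e ▸ List.mem_singleton_self _))
        (((rs chevF4).ht_simple ⟨3, by decide⟩).trans_le ((rs_isPos_iff_le β).2 h1).ht_pos)
        List.not_mem_nil
  rw [sum_congr rfl fun α hα => by rw [W.card, if_pos (hS α hα).1, pow_one],
    sum_hts (fun r => r ∈ [25, 30, 41, 26, 31, 32, 42, 43, 45, 46, 47]) fun a => (q - 1) * q ^ a,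
    hts_eq, Module.finrank_fin_fun] at c1
  rw [W.card, if_pos (by decide), pow_one] at c4
  refine arith hq.two_le (not_le.1 hlt) ((Nat.add_le_add_right ((Nat.mul_le_mul_left _
    ((Nat.one_le_pow _ _ hq.pos).trans c3)).trans (le_of_add_le_right c4)) _).trans c1) ?_
  rw [← hK]
  exact dvd_order degrees_E6 ((dvd_card hρ).trans (Subgroup.card_dvd_of_injective _ E.inj))

end Cfsg.Agent.S2341
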