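import Cfsg.Statements.S2342
import Cfsg.Agent.Lib.RD.H
import Cfsg.Agent.Lib.Tw.OutC
import Cfsg.Agent.Lib.Tw.Word
import Cfsg.Agent.Lib.Chev.Ree2

set_option autoImplicit false
open Cfsg

namespace Cfsg.Agent.S2342

open Cfsg.Lie Cfsg.Agent.Chev Cfsg.Agent.RD Cfsg.Agent.Deg Finset Module

theorem cert1 : certOK (1) [0, 0, 1, 1]
    [4549681, 274603, 7121914, 624457, -4824284, -7396517, -2946627, 3925224, 5098887, 5169006, -978597,
     -9024111, -668405, -4739615, -4241120, -655760, 5408020, 8980735, 97136, -4477657, -7266841, -3903733,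
     4380521, 11744498, 1571086, 72418, -1881191, -2967308, -1643504, 1808773, 48755, 4885415, 6956645,
     3316610, -4934170, -11842060, -673767, 1068354, 2532402, 2167551, -394587, -3600756, 99791, -2047567,
     -3126571, -1673173, 1947776, 5174138]
    [4799744, -274603, -7121914, -5174138]
    [6, 12, 12, 18] 9349425 36 56 3 = true := by
  decide +kernel

/-- the folding map on roots -/
def fd : ℕ → ℕ := byteAt 0xb0a09090807090808060707040405030302040302020100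

theorem fold : FoldOK chevD4 chevG2 twD4a 3 fd (byteAt 0x100) (byteAt 0x100) := by
  decide +kernel

/-- the roots of `G₂` -/
abbrev rt (r : ℕ) (h : r < chevG2.nroots := by decide) : Fin chevG2.nroots := ⟨r, h⟩

theorem not_five {Γ : Type*} [Group Γ] [Finite Γ] {P : PreRGD (rs chevG2) Γ} (W : TW P 2 3 3)
    (hP : P.Nondeg) (hf : P.full = ⊤) (hH : ∀ h ∈ P.H, h ^ 7 = 1) : ¬ 5 ∣ Nat.card Γ := by
  classical
  have h1 := hP.card_PJ Set.univ
  have h2 : ∀ i : Fin 12, ∀ a ∈ wG2.getD i [], a < chevG2.rank := by decide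
  have h3 : ∀ S : Set (Fin chevG2.nroots), (∀ r ∈ S, (rs chevG2).IsPos r) → (rs chevG2).Closed S →
      ∀ p : Fin chevG2.nroots → Bool, (∀ r, r ∈ S ↔ p r) → Nat.card (P.US S) =
        ∏ r with p r, 2 ^ if len chevG2 r = 3 then 1 else 3 := fun S a b p c => by
    rw [hP.card_US (RSys.halfSpace_of_pos a) b]
    exact prod_congr (filter_congr fun r _ => c r) fun r _ => W.card r
  rw [show P.PJ Set.univ = ⊤ from hf, Subgroup.card_top, ← mul_sum, hP.card_B,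
    show univ.filter (· ∈ (rs chevG2).WJ Set.univ) =
      univ.image fun i : Fin 12 => wN chevG2 (wG2.getD i []) from Finset.ext fun w => by
        simp only [mem_filter, mem_univ, true_and, RSys.WJ_univ, mem_image]
        refine ⟨fun hw => ?_, fun ⟨i, e⟩ => e ▸ wN_mem _⟩
        have := card_W_of_enum wEnum_G2 (P := (· = w)) (Q := fun l => wN chevG2 l = w) (by simp)
        have h4 : Nonempty {v // v ∈ (rs chevG2).W ∧ v = w} := ⟨⟨w, hw, rfl⟩⟩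
        obtain ⟨i, hi⟩ := Fintype.card_pos_iff.1 (Nat.card_pos.trans_eq this)
        exact ⟨i, by simpa using hi⟩,
    sum_image fun i _ j _ e => (by decide +kernel : ∀ i j : Fin 12, (∀ r : Fin chevG2.nroots,
      wordN chevG2 (wG2.getD i []) r = wordN chevG2 (wG2.getD j []) r) → i = j) i j fun r => by
        rw [← wN_val (h2 i), ← wN_val (h2 j), show wN chevG2 _ = wN chevG2 _ from e],
    sum_congr rfl (f := fun i : Fin 12 => Nat.card (P.Uw (wN chevG2 (wG2.getD i []))))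
      fun i _ => h3 _ (fun _ h => h.1) (RSys.closed_pos_and_not
      ((rs chevG2).W_le_Aut (wN_mem _))) (fun r => 12 ≤ 2 * r.1 ∧
        ¬ 12 ≤ 2 * wordN chevG2 (wG2.getD i []) r) fun r => by
          simp only [Set.mem_ofPred_eq, rs_isPos_iff_le, wN_val (h2 i), decide_eq_true_eq]; rfl,
    PreRGD.U, h3 {r | (rs chevG2).IsPos r} (fun _ h => h) RSys.closed_pos (fun r => 12 ≤ 2 * r.1) fun r => by
      simp only [Set.mem_ofPred_eq, rs_isPos_iff_le, decide_eq_true_eq]; rfl] at h1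
  have : Fact (Nat.Prime 5) := ⟨by norm_num⟩
  rw [h1, Nat.prime_five.dvd_mul, Nat.prime_five.dvd_mul]
  rintro ((h | h) | h)
  · revert h; decide +kernel
  · obtain ⟨g, hg⟩ := exists_prime_orderOf_dvd_card' 5 h
    have := orderOf_dvd_of_pow_eq_one (show g ^ 7 = 1 from Subtype.ext (hH g g.2))
    rw [hg] at this; revert this; decide
  · revert h; decide +kernel

theorem nm11 : ∀ δ, (rs chevG2).IsPos δ → Nm (rs chevG2) {rt 11} δ := by
  rintro δ hδ _ rfl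
  have h1 := (rs_isPos_iff_le (rt 11)).2 (by decide)
  refine ⟨ne_neg_of_pos h1 hδ, fun s hs => ?_⟩
  have := ht_lt_of_intv hδ h1 hs
  have := hδ.ht_pos
  have := (by decide : ∀ s : Fin chevG2.nroots, ∑ i, rc chevG2 s i ≤ ∑ i, rc chevG2 11 i) s
  exact absurd (show (rs chevG2).ht s ≤ (rs chevG2).ht (rt 11) from this) (by omega)

theorem closed : (rs chevG2).Closed {r | r.1 ∈ [8, 9, 11]} := fun r hr s hs k hk => by
  have h : ∀ r : Fin chevG2.nroots, r.1 ∈ [8, 9, 11] → chevG2.nroots ≤ 2 * r.1 := by decide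
  exact (by decide : ∀ r s k : Fin chevG2.nroots, r.1 ∈ [8, 9, 11] → s.1 ∈ [8, 9, 11] →
    (∀ i, rc chevG2 r i + rc chevG2 s i ≤ rc chevG2 k i) → k.1 ∈ [8, 9, 11]) r s k hr hs
    (le_of_intv ((rs_isPos_iff_le r).2 (h r hr)) ((rs_isPos_iff_le s).2 (h s hs)) hk)

/-- the middle part of a commutator -/
def mid : List (ℕ × Pol) := [(15, [(-1, [2, 3])]), (16, [(-1, [1, 3])]), (19, [(1, [0, 3])]),
  (17, [(1, [1, 2, 3])]), (20, [(-1, [0, 2, 3])]), (21, [(-1, [0, 1, 3])]), (23, [(1, [0, 1, 2, 3, 3])])]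

theorem coll : (collD4 0 id).check [(14, [(1, [3])]), (18, [(1, [0])]), (13, [(1, [1])]), (12, [(1, [2])])]
    ([(18, [(1, [0])]), (13, [(1, [1])]), (12, [(1, [2])]), (14, [(1, [3])])] ++ mid ++
      [(22, [(1, [0, 1, 2, 3])])]) = true := by
  decide +kernel

theorem bound {Γ : Type*} [Group Γ] [Finite Γ] {P : PreRGD (rs chevG2) Γ} {q k : ℕ} (W : TW P q 3 3)
    {ρ : Γ →* End ℂ (Fin k → ℂ)} {d l : Γ → ℂ} (h : (NT P (rt 10) d ∧
      WS ρ P {rt 6, rt 11} (rt 10) d ≠ ⊥) ∨ NT P (rt 6) l ∧ WS ρ P {rt 10, rt 11} (rt 6) l ≠ ⊥) :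
    (q - 1) * 1 + ((q - 1) * q ^ 3 + (q - 1) * q ^ 4) ≤ k := by
  classical
  have m : ∀ {i : Fin chevG2.rank} {α : Fin chevG2.nroots} {N S : Set (Fin chevG2.nroots)} {l},
      (∀ r ∈ S, (rs chevG2).sref i r ∈ N) → NT P α l ∧ WS ρ P N α l ≠ ⊥ → ∃ l',
      NT P ((rs chevG2).sref i α) l' ∧ WS ρ P S ((rs chevG2).sref i α) l' ≠ ⊥ := fun {i _ N S _} h1 h2 =>
    let ⟨l', a, b, c⟩ := exists_map (ρ := ρ) (N := N) (S := S) ((rs chevG2).sref_mem_W i)
      (by rwa [RSys.sref_inv]) h2.1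
    ⟨l', a, fun e => h2.2 (Submodule.finrank_eq_zero.1 (by
      rw [b, eq_bot_mono c e, finrank_bot]))⟩
  have e1 : (rs chevG2).sref ⟨0, by decide⟩ (rt 6) = rt 10 := Fin.ext (reflectRoot_eq _ _).symm
  have e2 : (rs chevG2).sref ⟨0, by decide⟩ (rt 10) = rt 6 := Fin.ext (reflectRoot_eq _ _).symm
  have e3 : (rs chevG2).sref ⟨0, by decide⟩ (rt 11) = rt 11 := Fin.ext (reflectRoot_eq _ _).symm
  have e4 : (rs chevG2).sref ⟨1, by decide⟩ (rt 10) = rt 11 := Fin.ext (reflectRoot_eq _ _).symm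
  obtain ⟨⟨d, a1, a2⟩, l, a3, a4⟩ : (∃ d, NT P (rt 10) d ∧ WS ρ P {rt 6, rt 11} (rt 10) d ≠ ⊥) ∧
      ∃ l, NT P (rt 6) l ∧ WS ρ P {rt 10, rt 11} (rt 6) l ≠ ⊥ := by
    rcases h with h | h
    · exact ⟨⟨d, h⟩, e2 ▸ m (by simp [e2, e3]) h⟩
    · exact ⟨e1 ▸ m (by simp [e1, e3]) h, l, h⟩
  obtain ⟨l', a5, a6⟩ := e4 ▸ m (i := ⟨1, by decide⟩) (S := ∅) (by simp) ⟨a1, a2⟩
  have pos : ∀ {U : Submodule ℂ (Fin k → ℂ)}, U ≠ ⊥ → 1 ≤ finrank ℂ U := fun h =>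
    Nat.pos_of_ne_zero (mt Submodule.finrank_eq_zero.1 h)
  have l10 := (W.lg (rt 10)).2 rfl
  obtain ⟨b1, b2⟩ := W.ld.step (ρ := ρ) (W := WS ρ P {rt 11} (rt 10) d) (β := rt 7) (γ := rt 9) l10 a1
    (show rc _ _ = rc _ _ + rc _ _ by decide) (rs_pair _ _) inf_le_right
    (hook_le_stab l10 (rs_pair _ _) (nm11 _ ((rs_isPos_iff_le _).2 (by decide))))
    (hook_le_stab l10 (rs_pair _ _) (nm11 _ ((rs_isPos_iff_le _).2 (by decide))))
  obtain ⟨b3, b4⟩ := W.ld.hook (ρ := ρ) ((W.lg (rt 11)).2 rfl) a5 {rt 6, rt 8}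
    (by simp only [rs_pair]; decide) (by simp only [rs_rc]; decide)
  have c1 := W.ld.chain_step (ρ := ρ) ((W.lg (rt 11)).2 rfl) a5 (le_refl ∅)
  have c2 := W.ld.chain_step (ρ := ρ) l10 a1 (le_refl {rt 11})
  have c3 := W.ld.chain_step (ρ := ρ) ((W.lg (rt 6)).2 rfl) a3 (le_refl {rt 10, rt 11})
  rw [prod_pair (by decide), W.card, W.card, ← pow_add] at b3
  rw [W.card] at b1 c1 c2 c3
  rw [Fx_empty, finrank_top, finrank_fin_fun, insert_empty_eq] at c1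
  have d1 := Nat.mul_le_mul_left (q - 1) ((Nat.le_mul_of_pos_right _ (pos (b4 a6))).trans b3)
  have d2 := Nat.mul_le_mul_left (q - 1) ((Nat.le_mul_of_pos_right _ (pos (b2 fun e => a2
    (eq_bot_mono (WS_mono (by simp)) e)))).trans b1)
  have d3 := Nat.mul_le_mul_left (q - 1) (pos a4)
  change _ + (q ^ 1 - 1) * _ ≤ _ at c1 c2 c3
  change _ * q ^ 4 ≤ _ at d1
  change _ * q ^ 3 ≤ _ at d2
  rw [pow_one] at c1 c2 c3
  omega

theorem cubic {Γ V F : Type*} [Group Γ] [Finite Γ] [AddCommGroup V] [Module ℂ V] [Field F] [Finite F]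
    {P : PreRGD (rs chevG2) Γ} {ρ : Γ →* End ℂ V} (yb yc : F → Γ)
    (hb : ∀ g, g ∈ P.X (rt 6) ↔ ∃ u, g = yb u) (hc : ∀ g, g ∈ P.X (rt 10) ↔ ∃ u, g = yc u)
    (ab : ∀ t u, yb (t + u) = yb t * yb u) (ac : ∀ t u, yc (t + u) = yc t * yc u)
    (hy : ∀ c, ∃ y ∈ P.X (rt 7), ∀ u, (y * yb u)⁻¹ * (yb u * y) * (yc (u * c))⁻¹ ∈
      P.US {r | r.1 ∈ [8, 9, 11]}) (l10 : Lg (rs chevG2) (rt 10)) {l d : Γ → ℂ} {v : V} (b2 : v ≠ 0)
    (b1 : v ∈ Ev ρ (P.X (rt 6)) l) (b3 : v ∈ Ev ρ (P.X (rt 10)) d)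
    (b4 : ∀ r : Fin chevG2.nroots, r.1 ∈ [8, 9, 11] → ∀ g ∈ P.X r, ρ g v = v)
    (hd : NT P (rt 10) d) : WS ρ P {rt 6, rt 11} (rt 10) d ≠ ⊥ := by
  have mb := fun u => (hb _).2 ⟨u, rfl⟩
  have mc := fun u => (hc _).2 ⟨u, rfl⟩
  obtain ⟨χ, hχ⟩ := exists_hom b2 b1
  obtain ⟨ψ, hψ⟩ := exists_hom b2 b3
  let j : Multiplicative F →* P.X (rt 10) := MonoidHom.mk' (fun u => ⟨_, mc u.toAdd⟩)
    fun a b => Subtype.ext (ac _ _)
  obtain ⟨c, hc'⟩ := exists_psi_mul (ψ := ψ.comp j) (fun e => by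
      obtain ⟨g, hg, e'⟩ := hd
      obtain ⟨u, rfl⟩ := (hc g).1 hg
      exact e' ((hψ ⟨_, hg⟩).symm.trans (DFunLike.congr_fun e (Multiplicative.ofAdd u))))
    (fun u => χ ⟨_, mb u⟩) (by
      rw [← map_one χ]; exact congrArg χ (Subtype.ext (left_eq_mul.1 ((congrArg yb (add_zero 0).symm).trans (ab 0 0)))))
    fun a b => by rw [← map_mul]; exact congrArg χ (Subtype.ext (ab _ _))
  obtain ⟨y, m7, hy⟩ := hy (-c)
  have st : y ∈ stabSub ρ (WS ρ P {rt 11} (rt 10) d) :=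
    hook_le_stab l10 (rs_pair _ _) (nm11 _ ((rs_isPos_iff_le _).2 (by decide))) m7
  have b5 := mem_WS.1 (st v (mem_WS.2 ⟨by rintro _ rfl; exact b4 _ (by decide), mem_Ev.1 b3⟩))
  refine (Submodule.ne_bot_iff _).2 ⟨ρ y v, mem_WS.2 ⟨?_, b5.2⟩, rep_apply_ne_zero ρ y b2⟩
  rintro r (rfl | rfl) g hg
  swap
  · exact b5.1 _ rfl g hg
  obtain ⟨u, rfl⟩ := (hb g).1 hg
  have c3 := USub_le_iff.2 (fun r hr g hg => show g ∈ Tr ρ (ℂ ∙ v) from fun w hw => by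
    obtain ⟨a, rfl⟩ := Submodule.mem_span_singleton.1 hw
    rw [map_smul, b4 r hr g hg]) (hy u)
  have c4 := c3 _ (Submodule.smul_mem _ (d (yc (u * -c))) (Submodule.mem_span_singleton_self v))
  rw [← mem_Ev.1 b3 _ (mc _), ← rep_mul, inv_mul_cancel_right, rep_mul, ← rep_inv (ρ := ρ) (y * yb u)
    (ρ (yc _) v)] at c4
  rw [← rep_mul, Function.LeftInverse.injective (rep_inv' _) c4, rep_mul, mem_Ev.1 b3 _ (mc _), map_smul,
    mem_Ev.1 b1 _ (mb u), smul_smul, ← hχ ⟨_, mb u⟩, hc', ← hψ ⟨_, mc _⟩]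
  change ρ y (((ψ.comp j) (Multiplicative.ofAdd (u * -c)) * _) • v) = _
  rw [← map_mul, ← ofAdd_add]; simp

theorem twist {K G Γ V : Type*} [Field K] [Fintype K] [Group G] [Group Γ] [Finite Γ] [AddCommGroup V]
    [Module ℂ V] {ρ : Γ →* End ℂ V} {x : ℕ → K → G} {φ : K →+* K} {σ : G →* G}
    (h : IsTw chevD4 twD4a x φ σ) {e : Γ →* G} (E : h.fold.Emb e) {q : ℕ}
    (hK : Fintype.card K = q ^ 3) (hφ : ∀ t, φ t = t ^ q) (hφk : ∀ t, φ^[3] t = t)
    (l10 : Lg (rs chevG2) (rt 10)) {l d : Γ → ℂ} {v : V} (b2 : v ≠ 0)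
    (b1 : v ∈ Ev ρ (((fold.fm h).pre E).X (rt 6)) l) (b3 : v ∈ Ev ρ (((fold.fm h).pre E).X (rt 10)) d)
    (b4 : ∀ r : Fin chevG2.nroots, r.1 ∈ [8, 9, 11] → ∀ g ∈ ((fold.fm h).pre E).X r, ρ g v = v)
    (hd : NT ((fold.fm h).pre E) (rt 10) d) : WS ρ ((fold.fm h).pre E) {rt 6, rt 11} (rt 10) d ≠ ⊥ := by
  let F := Chev.Fx twD4a 3 φ 14
  have hF : ∀ u : F, φ u = u := fun u => Chev.mem_Fx.1 u.2
  have y14 := fun u => h.map_Y_one per_D4 E (r := 14) (by decide) (by decide) (hF u)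
  have y22 := fun u => h.map_Y_one per_D4 E (r := 22) (by decide) (by decide) (hF u)
  have m : ∀ (r : Fin chevD4.nroots) (s : Fin chevG2.nroots), fd r = s → twD4a.π r = r →
      (∀ u : F, e (h.Y E r 1 u) = x r u) → ∀ g,
      g ∈ ((fold.fm h).pre E).X s ↔ ∃ u : F, g = h.Y E r 1 u := fun r s z a b g => by
    rw [← show (fold.fm h).φ r = s from Fin.ext z, fold.mem_X_fix h per_D4 E a]
    exact ⟨fun ⟨u, c, d⟩ => ⟨⟨u, Chev.mem_Fx.2 c⟩, E.inj (d.trans (b ⟨u, _⟩).symm)⟩,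
      fun ⟨u, c⟩ => ⟨u, hF u, c ▸ b u⟩⟩
  refine cubic (F := F) (fun u => h.Y E 14 1 u) (fun u => h.Y E 22 1 u) 
    (m ⟨14, by decide⟩ _ (by decide) (by decide) y14)
    (m ⟨22, by decide⟩ _ (by decide) (by decide) y22)
    (fun a b => E.inj (by rw [map_mul, y14, y14, y14, h.chv.rel.add _ _ _ (by decide)]; rfl))
    (fun a b => E.inj (by rw [map_mul, y22, y22, y22, h.chv.rel.add _ _ _ (by decide)]; rfl))
    (fun c => ?_) l10 b2 b1 b3 b4 hd
  obtain ⟨t, ht⟩ : ∃ t : K, t * φ t * φ (φ t) = c := by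
    by_cases e : (c : K) = 0
    · exact ⟨0, by simp [e]⟩
    obtain ⟨t, ht⟩ := exists_norm_eq (q := q) (n := q ^ 2 + q + 1) (by rw [hK]; ring)
      (t := Units.mk0 (c : K) e) (by simp [← hφ, hF])
    exact ⟨t, by simpa [hφ, ← pow_mul, pow_add, sq, mul_comm, mul_left_comm, mul_assoc] using congrArg Units.val ht⟩
  have t18 : t ∈ Chev.Fx twD4a 3 φ 18 := Chev.mem_Fx.2 (hφk t)
  have y18 := h.map_Y' per_D4 E ⟨18, by decide⟩ t18
  have m18 := fold.Y_mem h per_D4 E (r := ⟨18, by decide⟩) t18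
  generalize h.Y E _ (kr _ _ _) t = y at y18 m18
  rw [show (fold.fm h).φ ⟨18, by decide⟩ = rt 7 from Fin.ext (show fd 18 = 7 by decide)] at m18
  refine ⟨y, m18, fun u => ?_⟩
  rw [show kr twD4a 3 _ = 3 by decide, dl_three, h.σ_eq (s := 13) (by decide),
    h.σ_eq (s := 12) (by decide)] at y18
  have c1 := evS_eq_of_check h.chv.rel (collFor_D4 0 id) (charOK_zero K)
    (List.getD [t, φ t, φ (φ t), u] · 0) coll
  refine ((fold.fm h).mem_US E (RSys.halfSpace_of_pos fun r hr =>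
    (rs_isPos_iff_le r).2 ((by decide : ∀ r : Fin chevG2.nroots, r.1 ∈ [8, 9, 11] →
      chevG2.nroots ≤ 2 * r.1) r hr)) closed).2 ?_
  simp only [evS_cons, evS_nil, evS_append, evP_cons, evP_nil] at c1
  rw [map_mul, map_mul, map_inv, map_inv, map_mul, map_mul, y14, y22, y18]
  refine (congrArg (· ∈ _) ?_).mpr <| evS_mem_USub (D := chevD4) (x := x) (S := {r | fd r ∈ [8, 9, 11]}) (List.getD [t, φ t, φ (φ t), u] · 0) (w := mid)
    (fun a ha => ⟨by revert a; decide, show fd a.1 ∈ [8, 9, 11] by revert a; decide⟩)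
  rw [mul_inv_eq_iff_eq_mul, inv_mul_eq_iff_eq_mul]
  simpa [← ht, mul_assoc, mul_comm (u : K)] using c1

theorem key {Γ : Type*} [Group Γ] [Finite Γ] {P : PreRGD (rs chevG2) Γ} {q k : ℕ} (W : TW P q 3 3)
    {ρ : Γ →* End ℂ (Fin k → ℂ)} {l : Γ → ℂ} (a1 : NT P (rt 6) l) (a2 : finrank ℂ
      (WS ρ P (Hk (rs chevG2) ⟨1, by decide⟩) ((rs chevG2).simple ⟨1, by decide⟩) l) = 1)
    (h : ∀ d v, v ≠ 0 → v ∈ Ev ρ (P.X (rt 6)) l → v ∈ Ev ρ (P.X (rt 10)) d →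
      (∀ r : Fin chevG2.nroots, r.1 ∈ [8, 9, 11] → ∀ g ∈ P.X r, ρ g v = v) → NT P (rt 10) d →
      WS ρ P {rt 6, rt 11} (rt 10) d ≠ ⊥) :
    (q - 1) * 1 + ((q - 1) * q ^ 3 + (q - 1) * q ^ 4) ≤ k := by
  have l6 := (W.lg ((rs chevG2).simple ⟨1, by decide⟩)).2 rfl
  have k0 := fun r a b => W.st.tr l6 (δ := r) (fun c => (by decide : ∀ r : Fin chevG2.nroots,
    chevG2.cartan 1 r = 0 → len chevG2 r ≠ 3) r (rs_pair_simple ⟨1, by decide⟩ r ▸ b) ((W.lg r).1 c))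
    a2.le (st0 (ρ := ρ) (l := l) l6 (Or.inl a) b)
  obtain ⟨d, v, b1, b2, b3⟩ := exists_ev (fun e : WS ρ P _ _ l = ⊥ => by
    rw [e, finrank_bot] at a2; omega) (st1 (δ := rt 10) l6
    ((rs_isPos_iff_le _).2 (by decide)) (rs_pair_simple _ _) k0 (Or.inl ((W.lg _).2 rfl))) (X_comm _)
  have b4 : ∀ r : Fin chevG2.nroots, r.1 ∈ [8, 9, 11] → ∀ g ∈ P.X r, ρ g v = v := fun r hr g hg => by
    have := (by decide : ∀ r : Fin chevG2.nroots, r.1 ∈ [8, 9, 11] → chevG2.nroots ≤ 2 * r.1 ∧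
      (chevG2.cartan 1 r = 1 ∨ chevG2.cartan 1 r = 0)) r hr
    rw [← rs_isPos_iff_le, ← rs_pair_simple (D := chevG2) ⟨1, by decide⟩] at this
    exact this.2.elim (fun e => X_le_Tr (N := Hk _ _) ⟨this.1, e⟩ hg v b1) fun e => k0 r this.1 e hg v b1
  by_cases hd : NT P (rt 10) d
  · exact bound W (l := l) (Or.inl ⟨hd, h d v b2 (mem_Ev.2 (mem_WS.1 b1).2) b3 b4 hd⟩)
  refine bound W (d := d) (Or.inr ⟨a1, (Submodule.ne_bot_iff _).2 ⟨v, mem_WS.2 ⟨?_, (mem_WS.1 b1).2⟩, b2⟩⟩)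
  rintro r (rfl | rfl) g hg
  · rw [mem_Ev.1 b3 g hg, by_contra fun e => hd ⟨g, hg, e⟩, one_smul]
  · exact b4 _ (by decide) g hg

/-- For the twisted group ³D₄(q), realised over the field with q³ elements (q a prime power), every irreducible complex representation of degree at least 2 has degree at least q(q⁴ − q² + 1). -/
theorem result {K : Type*} [Field K] [Fintype K] (q : ℕ) (hq : IsPrimePow q) (hK : Fintype.card K = q ^ 3) :
    (∀ (k : ℕ) (ρ : Representation ℂ (Cfsg.Lie.twistedD4 K q) (Fin k → ℂ)), ρ.IsIrreducible → 2 ≤ k → q * (q ^ 4 - q ^ 2 + 1) ≤ k) := by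
  intro k ρ hρ hk
  by_contra hlt
  obtain ⟨p, _, _, -, φ, hφ, hφk⟩ := exists_frob hq hK
  have hK' := Nat.card_eq_fintype_card.trans hK
  have E := emb_twistedD4 φ hφ hφk
  have W := fold.tw _ per_D4 E (range_twistedD4 φ hφ hφk).le hφ hφk hK' hq.one_lt (by norm_num) (c := 3)
    (by decide +kernel) (by decide +kernel)
  have h2 := Nat.pow_le_pow_right hq.pos (by norm_num : 2 ≤ 4)
  obtain ⟨l, a1, a2⟩ := W.node hρ hk (j := ⟨1, by decide⟩) (m := 4) (by decide +kernel) (by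
    obtain ⟨s, rfl⟩ := Nat.exists_eq_add_of_le hq.two_le
    refine (not_le.1 hlt).trans_le ?_
    zify [h2, (by omega : 1 ≤ 2 + s)]
    rw [← sub_nonneg]
    ring_nf; positivity)
  have key := key W a1 a2 fun d v => twist _ E hK hφ hφk ((W.lg _).2 rfl)
  have h3 : (k : ℤ) = pev [1, 0, 0, 1, 1] q * (q - 1) := by
    zify [hq.pos, h2] at key hlt
    simp only [pev]; linarith
  by_cases h4 : q = 2
  · subst h4
    refine not_five W (FoldMap.pre_nondeg _ E) (FoldMap.pre_full _ E) (fun g hg => E.inj ?_)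
      (Dvd.dvd.trans ⟨5, by norm_num [pev] at h3; omega⟩ (dvd_card hρ))
    have := (ChevM.stRel_xG chevD4 K).pow_card_H ((FoldMap.mem_H _ E).1 hg)
    rw [hK'] at this
    exact (map_pow _ _ _).trans (this.trans (map_one _).symm)
  · refine not_dvd_of_cert cert1 (by have := hq.two_le; omega) (Dvd.dvd.trans ⟨_, h3⟩ ?_)
    simpa [hK, ← pow_mul] using (show _ ∣ _ ^ 12 * _ from dvd_order degrees_D4 ((dvd_card hρ).trans
      (Subgroup.card_dvd_of_injective _ E.inj)))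

end Cfsg.Agent.S2342
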