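import Cfsg.Statements.S2337
import Cfsg.Agent.Lib.Suz.Wp
import Cfsg.Agent.Lib.Suz.Iso

set_option autoImplicit false
open Cfsg

namespace Cfsg.Agent.S2337

open Cfsg.Agent.Suz

section
variable {F : Type*} [Field F] {m : ℕ} [SuzF F m]

open Classical in
/-- The sign character with kernel `RR`. -/
noncomputable def sgn (y : F) : ℂ := if y ∈ RR F then 1 else -1

theorem sgn_add (a b : F) : sgn (a + b) = sgn a * sgn b := by
  unfold sgn
  by_cases ha : a ∈ RR F <;> by_cases hb : b ∈ RR F <;> simp [ha, hb, add_mem_RR_iff]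

theorem sgn_zero : sgn (0 : F) = 1 := by simp [sgn]

theorem sgn_of_not_mem {y : F} (hy : y ∉ RR F) : sgn y = -1 := by simp [sgn, hy]

theorem sgn_mul_self (a : F) : sgn a * sgn a = 1 := by rw [← sgn_add, add_self', sgn_zero]

theorem sum_sgn [Fintype F] {ν : F} (hν : ν ≠ 0) : ∑ b : F, sgn (ν * b) = 0 := by
  have h1 : ∑ b : F, sgn (ν * b) = ∑ b : F, sgn (ν * (b + ν⁻¹)) :=
    (Equiv.sum_comp (Equiv.addRight ν⁻¹) (fun b => sgn (ν * b))).symm
  have h2 : ∀ b : F, sgn (ν * (b + ν⁻¹)) = - sgn (ν * b) := fun b => by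
    rw [mul_add, mul_inv_cancel₀ hν, sgn_add, sgn_of_not_mem one_not_mem_RR]; ring
  simp only [h2, Finset.sum_neg_distrib] at h1
  linear_combination (1 / 2 : ℂ) * h1

variable {V : Type*} [AddCommGroup V] [Module ℂ V] (r : G F m →* Module.End ℂ V)

/-- The projector on a weight space of `Z`. -/
noncomputable def ee [Fintype F] (ν : F) : Module.End ℂ V :=
  (Fintype.card F : ℂ)⁻¹ • ∑ b : F, sgn (ν * b) • r (u 0 b)

variable [Fintype F]

theorem z_mul_ee (ν c : F) : r (u 0 c) * ee r ν = sgn (ν * c) • ee r ν := by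
  unfold ee
  rw [mul_smul_comm, smul_comm (sgn (ν * c))]
  congr 1
  rw [Finset.mul_sum, Finset.smul_sum]
  rw [← Equiv.sum_comp (Equiv.addRight c) (fun b => r (u 0 c) * sgn (ν * b) • r (u 0 b))]
  refine Finset.sum_congr rfl fun b _ => ?_
  simp only [Equiv.coe_addRight, mul_smul_comm, ← map_mul, u_mul_u, smul_smul, mul_add, sgn_add]
  rw [mul_comm (sgn (ν * b))]
  congr 3
  · simp
  · simp only [mul_zero, add_zero]; grind

theorem ee_idem (ν : F) : IsIdempotentElem (ee r ν) := by
  unfold IsIdempotentElem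
  nth_rewrite 1 [ee]
  rw [smul_mul_assoc, Finset.sum_mul]
  simp only [smul_mul_assoc, z_mul_ee, smul_smul, sgn_mul_self, one_smul, Finset.sum_const,
    Finset.card_univ]
  rw [← Nat.cast_smul_eq_nsmul ℂ, smul_smul, inv_mul_cancel₀ (by simp), one_smul]

theorem sum_ee : ∑ ν : F, ee r ν = 1 := by
  unfold ee
  rw [← Finset.smul_sum, Finset.sum_comm]
  simp only [← Finset.sum_smul]
  rw [Finset.sum_eq_single 0]
  · simp [sgn_zero, smul_smul]
  · intro b _ hb
    simp only [mul_comm _ b]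
    rw [sum_sgn hb, zero_smul]
  · simp

theorem u_comm_ee (a b ν : F) : r (u a b) * ee r ν = ee r ν * r (u a b) := by
  unfold ee
  rw [mul_smul_comm, smul_mul_assoc, Finset.mul_sum, Finset.sum_mul]
  simp only [mul_smul_comm, smul_mul_assoc, ← map_mul, u_comm_z]

theorem hh_mul_ee (μ : Fˣ) : r (hh μ) * ee r (μ * θ (μ : F)) = ee r 1 * r (hh μ) := by
  have h0 : (μ : F) * θ (μ : F) ≠ 0 := mul_ne_zero μ.ne_zero (θ_ne_zero μ.ne_zero)
  unfold ee
  rw [mul_smul_comm, smul_mul_assoc, Finset.mul_sum, Finset.sum_mul,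
    ← Equiv.sum_comp (Equiv.mulLeft₀ _ h0) (fun b => (sgn (1 * b) • r (u 0 b)) * r (hh μ))]
  simp only [mul_smul_comm, smul_mul_assoc, ← map_mul, hh_mul_u, mul_zero, one_mul,
    Equiv.mulLeft₀_apply]

variable [FiniteDimensional ℂ V]

omit [SuzF F m] [Fintype F] in
theorem trace_conj (x : G F m) (T : Module.End ℂ V) :
    LinearMap.trace ℂ V (r x * T * r x⁻¹) = LinearMap.trace ℂ V T := by
  rw [LinearMap.trace_mul_comm, ← mul_assoc, ← map_mul, inv_mul_cancel, map_one, one_mul]

theorem trace_ee {ν : F} (hν : ν ≠ 0) :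
    LinearMap.trace ℂ V (ee r ν) = LinearMap.trace ℂ V (ee r 1) := by
  obtain ⟨μ, rfl⟩ := nm_surjective ν
  have hμ : μ ≠ 0 := by rintro rfl; simp at hν
  have := hh_mul_ee r (Units.mk0 μ hμ)
  rw [← trace_conj r (hh (Units.mk0 μ hμ))]
  simp only [Units.val_mk0] at this ⊢
  rw [this, mul_assoc, ← map_mul, mul_inv_cancel, map_one, mul_one]

theorem trace_u_ee {a : F} (h0 : a ≠ 0) (h1 : a ≠ 1) (b : F) :
    LinearMap.trace ℂ V (r (u a b) * ee r 1) = 0 := by
  have ha : a ^ 2 + a ≠ 0 := by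
    have : a + 1 ≠ 0 := fun he => h1 (CharTwo.add_eq_zero.mp he)
    have := mul_ne_zero h0 this
    intro he; apply this; rw [← he]; ring
  obtain ⟨c, hc⟩ := θ_surjective (a ^ 2 + a)⁻¹
  have hδ : θ a * c + a * θ c ∉ RR F := by
    intro hm
    have := add_mem hm (add_θ_mem (θ a * c))
    apply one_not_mem_RR (F := F)
    convert this using 1
    simp only [θ_mul, θ_θ, hc]
    field_simp
    grind
  have h2 := trace_conj r (u c 0) (r (u a b) * ee r 1)
  have h3 : r (u c 0) * (r (u a b) * ee r 1) * r (u c 0)⁻¹ = - (r (u a b) * ee r 1) := by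
    rw [mul_assoc, mul_assoc, u_inv, ← u_comm_ee, ← u_inv, ← mul_assoc, ← mul_assoc, ← map_mul,
      ← map_mul, u_conj_u]
    have : (u a (b + θ a * c + a * θ c) : G F m) = u a b * u 0 (θ a * c + a * θ c) := by
      simp [u_mul_u, add_assoc]
    rw [this, map_mul, mul_assoc, z_mul_ee, one_mul, sgn_of_not_mem hδ]
    simp
  rw [h3, map_neg] at h2
  linear_combination (-1 / 2 : ℂ) * h2

theorem card_RR : Nat.card (RR F) = 2 ^ m * 2 ^ m := by
  have := (RR F).card_mul_index
  rw [index_RR, card_F (F := F)] at this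
  have h2 : 2 ^ (2 * m + 1) = 2 ^ m * 2 ^ m * 2 := by ring
  omega

theorem le_finrank_range (h : ee r 1 ≠ 0) :
    2 ^ m ≤ Module.finrank ℂ (LinearMap.range (ee r 1)) := by
  classical
  have hd : LinearMap.trace ℂ V (ee r 1) ≠ 0 := by
    rw [(LinearMap.IsIdempotentElem.isProj_range _ (ee_idem r 1)).trace]
    simpa [Submodule.finrank_eq_zero, LinearMap.range_eq_bot] using h
  have hli : LinearIndependent ℂ (fun a : RR F => r (u a 0) * ee r 1) := by
    rw [Fintype.linearIndependent_iff]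
    intro c hc a
    have := congrArg (fun T => LinearMap.trace ℂ V (r (u (a : F) 0)⁻¹ * T)) hc
    simp only [Finset.mul_sum, mul_smul_comm, map_sum, map_smul, mul_zero, map_zero, ← mul_assoc,
      ← map_mul] at this
    rw [Finset.sum_eq_single a] at this
    · simpa [hd] using this
    · intro a' _ ha'
      rw [u_inv, u_mul_u, trace_u_ee, smul_zero]
      · intro he; exact ha' (Subtype.ext (CharTwo.add_eq_zero.mp he).symm)
      · intro he; exact one_not_mem_RR (he ▸ add_mem a.2 a'.2)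
    · simp
  let W := LinearMap.range (ee r 1)
  let Ψ : Module.End ℂ W →ₗ[ℂ] Module.End ℂ V :=
    { toFun := fun S => W.subtype ∘ₗ S ∘ₗ (ee r 1).rangeRestrict
      map_add' := fun S T => by ext; simp
      map_smul' := fun c S => by ext; simp }
  have hli2 : LinearIndependent ℂ
      (fun a : RR F => (ee r 1).rangeRestrict ∘ₗ r (u a 0) ∘ₗ W.subtype) := by
    apply LinearIndependent.of_comp Ψ
    convert hli using 1
    ext a v
    have h1 : ee r 1 * (r (u a 0) * ee r 1) = r (u a 0) * ee r 1 := by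
      rw [← mul_assoc, ← u_comm_ee, mul_assoc, ee_idem r 1]
    exact congrArg (fun T : Module.End ℂ V => T v) h1
  have h2 := hli2.fintype_card_le_finrank
  rw [Module.finrank_linearMap, ← Nat.card_eq_fintype_card, card_RR] at h2
  exact Nat.mul_self_le_mul_self_iff.mp h2

theorem main (hr : ∃ g, r g ≠ 1) : 2 ^ m * (2 ^ (2 * m + 1) - 1) ≤ Module.finrank ℂ V := by
  classical
  have htr : ∀ ν : F, LinearMap.trace ℂ V (ee r ν) =
      Module.finrank ℂ (LinearMap.range (ee r ν)) := fun ν =>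
    (LinearMap.IsIdempotentElem.isProj_range _ (ee_idem r ν)).trace
  have hne : ee r 1 ≠ 0 := by
    intro h0
    have h1 : ∀ ν : F, ν ≠ 0 → ee r ν = 0 := fun ν hν => by
      have := trace_ee r hν
      rw [h0, map_zero, htr] at this
      simpa [Submodule.finrank_eq_zero, LinearMap.range_eq_bot] using this
    have h2 : ee r 0 = 1 := by
      rw [← sum_ee r, Finset.sum_eq_single 0 (fun ν _ hν => h1 ν hν) (by simp)]
    have h3 := z_mul_ee r 0 1
    rw [h2, mul_one, zero_mul, sgn_zero, one_smul] at h3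
    have h4 : r.toHomUnits.ker = ⊤ := eq_top_of_normal_of_invol (sq_of_mem_Z (u_mem_Z 1))
      (by simp [u_eq_one]) (Units.ext h3)
    obtain ⟨g, hg⟩ := hr
    have h5 : g ∈ r.toHomUnits.ker := by rw [h4]; trivial
    exact hg (congrArg Units.val h5)
  have h1 := congrArg (LinearMap.trace ℂ V) (sum_ee r)
  rw [map_sum, LinearMap.trace_one, ← Finset.add_sum_erase _ _ (Finset.mem_univ 0),
    Finset.sum_congr rfl (fun ν hν => trace_ee r (Finset.ne_of_mem_erase hν)), Finset.sum_const,
    Finset.card_erase_of_mem (Finset.mem_univ _), Finset.card_univ, ← Nat.card_eq_fintype_card,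
    card_F, htr, htr, nsmul_eq_mul] at h1
  have h2 : Module.finrank ℂ (LinearMap.range (ee r 0)) +
      (2 ^ (2 * m + 1) - 1) * Module.finrank ℂ (LinearMap.range (ee r 1)) = Module.finrank ℂ V := by
    exact_mod_cast h1
  have h3 := Nat.mul_le_mul_right (2 ^ (2 * m + 1) - 1) (le_finrank_range r hne)
  rw [← h2, mul_comm (2 ^ (2 * m + 1) - 1)]
  omega

end


/-- For the Suzuki group Sz(q), q = 2^(2m+1) with m ≥ 1 (realised inside Sp₄ over the field with q elements), every irreducible complex representation of degree at least 2 has degree at least 2^m·(q − 1). -/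
theorem result {F : Type*} [Field F] [Fintype F] (m : ℕ) (hm : 1 ≤ m) (hF : Fintype.card F = 2 ^ (2 * m + 1)) :
    (∀ (k : ℕ) (ρ : Representation ℂ (Cfsg.Lie.Sz F (2 ^ (m + 1))) (Fin k → ℂ)), ρ.IsIrreducible → 2 ≤ k → 2 ^ m * (2 ^ (2 * m + 1) - 1) ≤ k) := by
  have := SuzF.of_card hm hF
  intro k ρ hρ hk
  have h1 := main (ρ.comp (lieEquiv F).toMonoidHom) (by
    by_contra hc
    push Not at hc
    have h2 : ∀ g, ρ g = 1 := fun g => by
      obtain ⟨g, rfl⟩ := (lieEquiv F).surjective g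
      exact hc g
    let S : Subrepresentation ρ :=
      ⟨Submodule.span ℂ {Pi.single ⟨0, by omega⟩ 1}, fun g v hv => by rwa [h2]⟩
    rcases hρ.eq_bot_or_eq_top S with h3 | h3
    · have h4 : (Pi.single ⟨0, by omega⟩ 1 : Fin k → ℂ) ∈ S := Submodule.mem_span_singleton_self _
      rw [h3] at h4
      have h5 : (Pi.single ⟨0, by omega⟩ 1 : Fin k → ℂ) = 0 := h4
      simpa using congrFun h5 ⟨0, by omega⟩
    · have h4 : (Pi.single ⟨1, by omega⟩ 1 : Fin k → ℂ) ∈ S := by rw [h3]; trivial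
      obtain ⟨c, hc⟩ := Submodule.mem_span_singleton.mp h4
      simpa [Pi.single_apply, Fin.ext_iff] using congrFun hc ⟨1, by omega⟩)
  simpa using h1

end Cfsg.Agent.S2337
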