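import Cfsg.Statements.S2132
import Cfsg.Agent.Lib.Id.McL
import Cfsg.Agent.Lib.Id.Cent3
import Cfsg.Agent.Lib.Grp.McL.Out
import Cfsg.Agent.Lib.Grp.A8.Main

set_option autoImplicit false
open Cfsg

namespace Cfsg.Agent.S2132

set_option maxRecDepth 100000
set_option Elab.async false

open Cfsg.Agent.CG Cfsg.Agent.Id

/-- The centraliser in the table group. -/
noncomputable abbrev C : Subgroup McL.PG := Subgroup.centralizer {McL.act.gen 8}

theorem card_C_le : Nat.card C ≤ 40320 :=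
  card_cent_le (A := McL.act) (E := McL.en) McL.enumOK McL.hinv
    (okc_of_okcb (n := 275) (w := 12) (by decide +kernel)) (by norm_num) (by rw [McL.card])

theorem ord_t : orderOf (McL.act.gen 8) = 2 :=
  orderOf_gen_two McL.base (by decide +kernel) (by decide +kernel)

/-- The involution in its centraliser. -/
noncomputable def t : C := ⟨McL.act.gen 8, Subgroup.mem_centralizer_singleton_iff.2 rfl⟩

theorem t_mem : t ∈ Subgroup.center C :=
  Subgroup.mem_center_iff.2 fun g => Subtype.ext (Subgroup.mem_centralizer_singleton_iff.1 g.2)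

theorem ord_t' : orderOf t = 2 := (Subgroup.orderOf_coe t).symm.trans ord_t

theorem normal_zpowers {X : Type*} [Group X] {z : X} (h : z ∈ Subgroup.center X) :
    (Subgroup.zpowers z).Normal :=
  ⟨fun x hx g => by rwa [Subgroup.mem_center_iff.1 (Subgroup.zpowers_le_of_mem h hx), mul_inv_cancel_right]⟩

instance normal_t : (Subgroup.zpowers t).Normal := normal_zpowers t_mem

theorem prod_cc : prodN McL.cc = 40320 := by decide +kernel

theorem quot : Nonempty (A8.PG ≃* C ⧸ Subgroup.zpowers t) :=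
  (exists_equiv_quot_of_bounds McL.base A8.bounds A8.rels A8.clS A8.card (ZW := [[], [8]])
    (List.forall_mem_cons.2 ⟨one_mem _, List.forall_mem_cons.2
      ⟨⟨t, Subgroup.mem_zpowers t, (ev_singleton McL.act.gen 8).symm⟩, by simp⟩⟩)
    (I := [[], [], [], [], [], [], [], [], [], [], [], [], [], [], [], [], [], [], [], [], [], [], [], [], [], [], [], [], [57, 53, 61, 53, 58, 59, 63], [54, 56, 54, 58, 60, 57, 63], [60, 53, 55, 62, 60, 57, 62, 63], [58, 56, 58, 54, 57, 59, 62, 63], [57, 54, 54, 59, 61], [53, 56, 56, 61, 63], [57, 54, 58, 59, 57, 63]])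
    (nth_mem_cent McL.base (by decide +kernel)) (by decide +kernel) McL.chainC
    (V := [(53, [28, 31, 32, 33, 34, 31, 32, 33, 32, 31, 28, 30, 28]), (54, [31, 32, 33, 34, 32, 33, 31, 32, 31, 28, 30]), (55, [29, 31, 32, 33, 34, 29, 31, 32, 31, 30, 29]), (56, [34, 30, 31, 32, 33, 31, 32, 28, 31, 29, 30]), (57, [31, 32, 33, 34, 32, 33, 28, 31, 32]), (58, [32, 33, 34, 31, 32, 33, 32, 28, 31]), (59, [32, 33, 34, 32, 33, 31, 32, 28, 31, 30, 28]), (60, [30, 31, 32, 33, 34, 29, 31, 32, 33, 32, 29, 30, 29]), (61, [28, 31, 32, 33, 34, 29, 31, 32, 33, 31, 32, 31, 28]), (62, [29, 31, 32, 33, 34, 31, 32, 33, 31, 32, 29, 31, 29]), (63, [34, 30, 31, 32, 28, 31, 30, 28])])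
    (by decide +kernel) (by decide +kernel) (by decide +kernel) (card_C_le.trans prod_cc.ge)
    (by rw [Nat.card_zpowers, ord_t']; exact prod_cc.ge.trans McL.cent_le)).nonempty

theorem cover_of {C K X : Type*} [Group C] [Group K] [Group X] {t x : C} (ht : orderOf t = 2)
    (hc : t ∈ Subgroup.center C) (hx : x * x = t) [(Subgroup.zpowers t).Normal]
    (e : C ⧸ Subgroup.zpowers t ≃* K) (hK : Subgroup.center K = ⊥) (c : C ≃* X) :
    IsNonsplitDoubleCover X K := by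
  have h1 : c t ∈ Subgroup.center X := MulEquivClass.apply_mem_center c hc
  have := normal_zpowers h1
  exact isNonsplitDoubleCover_of ((c.orderOf_eq t).trans ht) h1 (x := c x) (by rw [← map_mul, hx])
    ((QuotientGroup.congr _ (Subgroup.zpowers (c t)) c (MonoidHom.map_zpowers _ t)).symm.trans e) hK

/-- A square root of the involution. -/
noncomputable def x : C := ⟨ev McL.act.gen [56, 61, 53, 58, 58, 62], ev_mem_cent McL.base (by decide +kernel)⟩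

theorem x_sq : x * x = t :=
  Subtype.ext ((ev_append McL.act.gen [56, 61, 53, 58, 58, 62] [56, 61, 53, 58, 58, 62]).symm.trans
    ((McL.base.ev_eq (v := [56, 61, 53, 58, 58, 62, 56, 61, 53, 58, 58, 62]) (w := [8]) (by decide +kernel)).trans (ev_singleton McL.act.gen 8)))

theorem cover {X : Type*} [Group X] (c : C ≃* X) : IsNonsplitDoubleCover X (alternatingGroup (Fin 8)) := by
  obtain ⟨e⟩ := quot
  exact cover_of ord_t' t_mem x_sq
    (e.symm.trans (MulEquiv.subgroupCongr (eq_alternatingGroup (by rw [A8.card]; rfl))))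
    (alternatingGroup.center_eq_bot (by simp)) c

/-- The elements of a Sylow subgroup with conjugating words. -/
def Ws : List (List ℕ × List ℕ) := [([49, 49, 48, 49, 49], [0, 1, 0, 2, 0, 2, 0, 1, 0, 1, 0, 1, 1, 0, 2]), ([49, 49, 48, 49, 49, 48], [1, 1, 0, 2, 0, 2, 2, 0, 1, 1, 0, 1, 0]), ([49, 49, 48, 50], []), ([49, 49, 48, 50, 48], []), ([50, 48, 49, 48], [0, 1, 1, 0, 1, 0, 2, 2, 0, 2, 0, 2, 2, 0, 2, 2]), ([50, 48, 49], [1, 1, 0, 2, 0, 1, 1, 0, 2, 0, 2, 0, 2, 0, 1, 1, 0, 1]), ([51, 49, 51, 49, 49, 48], [0, 1, 1, 0, 1, 0, 2, 2, 0, 2, 0, 1]), ([51, 49, 51, 49, 49], []), ([50, 51, 50, 51, 49], []), ([50, 51, 50, 51, 49, 48], [1, 1, 0, 1, 1, 0, 2, 0, 1, 1, 0, 1, 0, 1, 0]), ([51], [1, 0, 1, 0, 2, 0, 2, 0, 1, 1, 0, 1]), ([51, 48], []), ([49, 48, 49], []), ([49, 48, 49, 48], [0, 1, 1, 0, 1, 0, 2, 0, 2, 0, 1, 0, 2, 0, 2, 0, 2, 0]), ([50, 51, 48, 49], []), ([50, 51, 48, 49, 48], []), ([49, 49],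 [2, 0, 1, 0, 1, 0, 2, 0, 2, 0, 1, 0, 2, 0, 2]), ([49, 49, 48], []), ([51, 48, 50], []), ([51, 48, 50, 48], []), ([49, 51, 48, 49], []), ([49, 51, 48, 49, 48], [1, 0, 2, 0, 2, 2, 0, 2, 0, 1, 0, 1, 1, 0, 1, 1, 0, 2]), ([50, 48, 51], []), ([50, 48, 51, 48], []), ([48, 51, 48, 50, 48], []), ([48, 51, 48, 50], []), ([51, 49, 48, 49, 48], [2, 0, 2, 0, 2, 0, 2, 0, 2, 0, 1, 0, 1, 0, 1]), ([51, 49, 48, 49], []), ([51, 48, 51, 49], [0, 1, 0, 1, 0, 1, 0, 2, 0, 1, 0, 2, 0]), ([51, 48, 51, 49, 48], []), ([51, 48, 51, 48], [0, 2, 2, 0, 2, 0, 1, 0, 2, 0, 2, 2, 0, 1, 1, 0, 2, 2, 0]), ([51, 48, 51], [1, 1, 0, 2, 0, 1, 1, 0, 1, 0, 2, 0, 2]), ([51, 48, 51, 48, 49, 48], [0, 2, 2, 0, 2, 0, 2, 0, 1, 1, 0, 2, 2, 0, 1, 0, 1]), ([51, 48, 51, 48, 49], []), ([51, 50, 51], []), ([51, 50, 51, 48], [1, 0, 2, 2, 0, 1, 1, 0, 1, 0]), ([50, 51, 49], [1, 0, 2, 0, 2, 0, 1, 0, 2, 0, 1, 0, 2, 2, 0, 1, 0]), ([50, 51, 49, 48], []),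 ([51, 48, 49], []), ([51, 48, 49, 48], []), ([51, 50, 51, 49], [0, 1, 0, 1, 1, 0, 2, 2, 0, 2, 0, 2, 0, 2, 0, 1]), ([51, 50, 51, 49, 48], []), ([48, 51], []), ([48, 51, 48], [1, 0, 1, 0, 2, 2, 0, 2, 2, 0, 1, 0, 2, 0]), ([], []), ([48], [1, 1, 0, 1, 0, 1, 1, 0, 1, 1, 0, 1, 0, 2]), ([49, 51, 50], [1, 1, 0, 2, 0, 1, 1, 0, 1, 1, 0, 2, 0, 2, 0, 1, 0]), ([49, 51, 50, 48], []), ([51, 48, 51, 50], [2, 2, 0, 2, 2, 0, 1, 0, 1, 0, 2, 0, 1]), ([51, 48, 51, 50, 48], []), ([50, 48, 50, 48], [1, 0, 1, 0, 1, 0, 1, 0, 2, 0, 1, 0, 2, 0, 2, 0]), ([50, 48, 50], []), ([51, 50], []), ([51, 50, 48], []), ([48, 49, 51, 48], []), ([48, 49, 51], []), ([50, 48], []), ([50], []), ([51, 49, 48], []), ([51, 49], []), ([50, 51, 48], []), ([50, 51], []), ([49, 49, 48, 51], []), ([49, 49, 48, 51, 48], []), ([48, 50, 48, 51], []), ([48, 50, 48, 51, 48], []), ([51, 49, 51, 50, 48], [2, 0, 1, 0, 1, 0, 2, 0, 1, 1, 0, 1]), ([51,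 49, 51, 50], [2, 2, 0, 2, 0, 2, 0, 1, 0, 2, 0]), ([50, 51, 50, 51, 48], [2, 2, 0, 1, 0, 2, 0, 2, 0, 2, 0, 2, 2]), ([50, 51, 50, 51], []), ([49, 51, 49, 49], []), ([49, 51, 49, 49, 48], []), ([51, 49, 51, 49], []), ([51, 49, 51, 49, 48], [2, 0, 1, 1, 0, 2, 0, 1, 1, 0, 2, 0, 1]), ([51, 49, 51, 48, 49], []), ([51, 49, 51, 48, 49, 48], [1, 1, 0, 1, 0, 1, 1, 0, 2, 2, 0, 2, 0, 1, 1, 0, 2, 0]), ([49, 48, 49, 49, 48], []), ([49, 48, 49, 49], []), ([51, 49, 51], []), ([51, 49, 51, 48], [1, 1, 0, 2, 0, 1, 1, 0, 1, 0, 2, 2, 0, 2, 0]), ([48, 51, 48, 49], []), ([48, 51, 48, 49, 48], []), ([50, 48, 51, 49, 48], []), ([50, 48, 51, 49], []), ([49, 49, 48, 49, 48], []), ([49, 49, 48, 49], []), ([49, 51, 49, 51, 50], []), ([49, 51, 49, 51, 50, 48], [0, 2, 2, 0, 2, 2, 0, 1, 0, 2, 0, 2, 2, 0, 2, 0]), ([48, 49, 49], []), ([48, 49, 49, 48], [0, 1, 0, 1, 0, 1, 0, 2, 0, 1, 1, 0, 1, 0, 2]), ([49, 48, 51, 49], []),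 ([49, 48, 51, 49, 48], [1, 1, 0, 2, 0, 2, 0, 2, 0, 1, 1, 0, 1, 0]), ([51, 48, 49, 49, 48], []), ([51, 48, 49, 49], []), ([49, 48, 50], [0, 1, 1, 0, 2, 0, 2, 0, 1, 0, 2]), ([49, 48, 50, 48], [1, 0, 1, 0, 2, 0, 1, 0, 1, 1, 0, 2, 2, 0, 2, 2, 0, 2]), ([48, 50], []), ([48, 50, 48], []), ([48, 51, 49, 48], []), ([48, 51, 49], []), ([49, 49, 51, 48], []), ([49, 49, 51], []), ([49, 51, 49, 51, 48], []), ([49, 51, 49, 51], []), ([51, 50, 51, 50], []), ([51, 50, 51, 50, 48], []), ([49, 51, 49], []), ([49, 51, 49, 48], []), ([51, 49, 49, 48], []), ([51, 49, 49], []), ([49, 51, 48], []), ([49, 51], []), ([48, 50, 51, 48], []), ([48, 50, 51], []), ([48, 51, 50], []), ([48, 51, 50, 48], []), ([48, 49, 48], []), ([48, 49], []), ([49], []), ([49, 48], []), ([48, 50, 51, 49], []), ([48, 50, 51, 49, 48], [2, 0, 1, 1, 0, 2, 2, 0, 2, 0, 1, 1, 0, 2, 2, 0, 2]), ([49, 48, 51, 48], []), ([49, 48, 51], []), ([50,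 48, 49, 49], []), ([50, 48, 49, 49, 48], []), ([50, 51, 50], []), ([50, 51, 50, 48], [])]

theorem conj {x : McL.PG} (hx : orderOf x = 2) : IsConj x (McL.act.gen 8) :=
  isConj_of_sylow McL.base Nat.prime_two McL.cardP (by rw [McL.card]; norm_num) (M := 4096) (Ws := Ws)
    (by decide +kernel) (by decide +kernel) (by decide +kernel) (by decide +kernel) hx

/-- The McLaughlin group (as a two-vector stabiliser in the automorphism group of the rank-24 lattice) has a single conjugacy class of involutions, and the centraliser of an involution is a non-split double cover of the alternating group of degree 8. -/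
theorem result : (∀ x y : ↥Cfsg.Spor.McL, orderOf x = 2 → orderOf y = 2 → IsConj x y) ∧ ∃ t : ↥Cfsg.Spor.McL, orderOf t = 2 ∧ Cfsg.IsNonsplitDoubleCover ↥(Subgroup.centralizer ({t} : Set ↥Cfsg.Spor.McL)) ↥(alternatingGroup (Fin 8)) := by
  obtain ⟨φ⟩ := Id.McL.iso
  refine ⟨fun x y hx hy => ?_, φ.symm (McL.act.gen 8), by rw [MulEquiv.orderOf_eq, ord_t], ?_⟩
  · simpa using φ.symm.toMonoidHom.map_isConj ((conj ((φ.orderOf_eq x).trans hx)).trans
      (conj ((φ.orderOf_eq y).trans hy)).symm)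
  · exact cover (centEquiv φ.symm _)

end Cfsg.Agent.S2132
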