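import Cfsg.Statements.S2174
import Cfsg.Agent.Lib.Chev.Invol2

set_option autoImplicit false
open Cfsg

namespace Cfsg.Agent.S2174

open Cfsg.Agent.ChevM Cfsg.Agent.Chev

/-- Conjugacy classes of involutions in the Chevalley group of type F₄ over a finite field F of characteristic two (the matrix group generated by the root elements x_r(t)). In this problem's root numbering for type F₄ (the Chevalley data module; fundamental roots p₁, p₂ short and p₃, p₄ long; roots indexed by their coefficient vectors in increasing order) let r = 47 be the highest root (2,4,3,2), s = 44 the highest short root (2,3,2,1), and α = 39 = (1,2,2,1), β = 45 = (2,4,2,1), an orthogonal short/long pair; consider the four elements x_r(1), x_s(1), x_r(1)x_s(1), x_α(1)x_β(1). Then: each invertible matrix equal to one of these four products lies in the group and has order 2; every element of order 2 of the group is conjugate in the group to one of them; and no two of them are conjugate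 in the group (so, the four matrices being distinct, the group has exactly four conjugacy classes of involutions). -/
theorem result {F : Type*} [Field F] [Fintype F] [CharP F 2] :
    (∀ y : GL Cfsg.Lie.chevF4.Idx F, ((y : GL Cfsg.Lie.chevF4.Idx F) : Matrix Cfsg.Lie.chevF4.Idx Cfsg.Lie.chevF4.Idx F) ∈ [Cfsg.Lie.chevF4.x F 47 1, Cfsg.Lie.chevF4.x F 44 1, Cfsg.Lie.chevF4.x F 47 1 * Cfsg.Lie.chevF4.x F 44 1, Cfsg.Lie.chevF4.x F 39 1 * Cfsg.Lie.chevF4.x F 45 1] → y ∈ Cfsg.Lie.chevF4.group F ∧ orderOf y = 2) ∧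
    (∀ g ∈ Cfsg.Lie.chevF4.group F, orderOf g = 2 → ∃ y ∈ Cfsg.Lie.chevF4.group F, ((y : GL Cfsg.Lie.chevF4.Idx F) : Matrix Cfsg.Lie.chevF4.Idx Cfsg.Lie.chevF4.Idx F) ∈ [Cfsg.Lie.chevF4.x F 47 1, Cfsg.Lie.chevF4.x F 44 1, Cfsg.Lie.chevF4.x F 47 1 * Cfsg.Lie.chevF4.x F 44 1, Cfsg.Lie.chevF4.x F 39 1 * Cfsg.Lie.chevF4.x F 45 1] ∧ ∃ h ∈ Cfsg.Lie.chevF4.group F, h * g * h⁻¹ = y) ∧
    (∀ y₁ ∈ Cfsg.Lie.chevF4.group F, ∀ y₂ ∈ Cfsg.Lie.chevF4.group F, ((y₁ : GL Cfsg.Lie.chevF4.Idx F) : Matrix Cfsg.Lie.chevF4.Idx Cfsg.Lie.chevF4.Idx F) ∈ [Cfsg.Lie.chevF4.x F 47 1, Cfsg.Lie.chevF4.x F 44 1, Cfsg.Lie.chevF4.x F 47 1 * Cfsg.Lie.chevF4.x F 44 1, Cfsg.Lie.chevF4.x F 39 1 * Cfsg.Lie.chevF4.x F 45 1] → ((y₂ : GL Cfsg.Lie.chevF4.Idx F) : Matrix Cfsg.Lie.chevF4.Idx Cfsg.Lie.chevF4.Idx F) ∈ [Cfsg.Lie.chevF4.x F 47 1, Cfsg.Lie.chevF4.x F 44 1, Cfsg.Lie.chevF4.x F 47 1 * Cfsg.Lie.chevF4.x F 44 1, Cfsg.Lie.chevF4.x F 39 1 * Cfsg.Lie.chevF4.x F 45 1] →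
      (∃ h ∈ Cfsg.Lie.chevF4.group F, h * y₁ * h⁻¹ = y₂) → ((y₁ : GL Cfsg.Lie.chevF4.Idx F) : Matrix Cfsg.Lie.chevF4.Idx Cfsg.Lie.chevF4.Idx F) = ((y₂ : GL Cfsg.Lie.chevF4.Idx F) : Matrix Cfsg.Lie.chevF4.Idx Cfsg.Lie.chevF4.Idx F)) := by
  have := invol_of_check keyOK_F4 (ot_G _ F) (oc_of_check keyOK_F4 (ot_G _ F) (by decide +kernel))
    (R := [([47], [47]), ([44], [44]), ([47, 44], [44, 47]), ([39, 45], [39, 40, 44, 45, 46, 47])])
    (Γ := [24, 25, 27, 33]) (N := [([44], [], some [24, 25, 27]),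
    ([47], [], some [25, 27, 33]),
    ([44, 29], [([41], some [29, 47]), ([41], none), ([], some [47, 44])], some [25, 27]),
    ([44, 32], [([27, 33], none)], some [24, 27]),
    ([47, 37], [([25, 24], none), ([], some [39, 45])], some [25, 33]),
    ([47, 41], [([29], some [41, 44]), ([29], none)], some [25, 27]),
    ([44, 29, 28], [([24], some [28, 32, 44]), ([41], some [28, 32, 44, 46]), ([42], none), ([42], some [28, 47])], none),
    ([44, 29, 30], [([36], some [29, 30, 40, 44, 47]), ([37], some [29, 30, 44, 47]), ([41], some [29, 30])], none),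
    ([44, 32, 24], [([41], none), ([24], some [29, 42, 46, 47]), ([28], some [29, 42, 44, 47]), ([41], some [29, 42])], none),
    ([44, 32, 27], [([34], some [27, 32, 40, 44, 45]), ([39], some [27, 32, 44, 45]), ([43], some [27, 32])], none),
    ([47, 37, 25], [([26], some [25, 37, 39, 46, 47]), ([38], some [25, 37, 46]), ([45], some [25, 37])], none),
    ([47, 37, 33], [([29], none), ([29], some [36, 40, 41, 44, 47]), ([30], some [36, 41, 44]), ([37], some [36, 41])], none),
    ([47, 41, 28], [([29], some [28, 41, 44]), ([32], some [28, 41, 44, 46]), ([42], some [28, 41])], none),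
    ([47, 41, 30], [([29], some [30, 41, 44]), ([33], some [30, 37, 44]), ([36], none), ([36], some [37, 47])], none)])
    (by decide +kernel) (by decide +kernel)
  exact classes_of (by simp [prN, mat, mul_assoc]) this.1 this.2.1 this.2.2

end Cfsg.Agent.S2174
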