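import Cfsg.Statements.S2176
import Cfsg.Agent.Lib.Chev.Invol2

set_option autoImplicit false
open Cfsg

namespace Cfsg.Agent.S2176

open Cfsg.Agent.ChevM Cfsg.Agent.Chev

/-- Conjugacy classes of involutions in the Chevalley group of type E₈ over a finite field F of characteristic two (the matrix group generated by the root elements x_r(t)). In this problem's root numbering for type E₈ (the Chevalley data module; fundamental roots numbered so that p₁–p₃–p₄–p₅–p₆–p₇–p₈ is the long chain of the diagram and p₂ is joined to p₄; roots indexed by their coefficient vectors in increasing order) let r = 239 be the highest root (2,3,4,6,5,4,3,2), α = 232 = (2,2,4,5,4,3,2,1), β = 233 = (2,3,3,5,4,3,2,1), γ = 228 = (2,2,3,4,3,2,2,1), δ = 222 = (1,2,3,4,3,3,2,1), ε = 218 = (1,2,2,4,4,3,2,1), φ = 226 = (2,2,3,4,3,2,1,0), ψ = 220 = (1,2,3,4,3,2,1,1), θ = 213 = (1,2,2,3,3,3,2,1), ω = 216 = (1,2,2,4,3,2,2,1) (the roots within each of {α, β}, {γ, δ,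 ε}, {φ, ψ, θ, ω} pairwise orthogonal); consider x_r(1), x_α(1)x_β(1), x_γ(1)x_δ(1)x_ε(1) and x_φ(1)x_ψ(1)x_θ(1)x_ω(1). Then: each invertible matrix equal to one of these four products lies in the group and has order 2; every element of order 2 of the group is conjugate in the group to one of them; and no two of them are conjugate in the group (so, the four matrices being distinct, the group has exactly four conjugacy classes of involutions). -/
theorem result {F : Type*} [Field F] [Fintype F] [CharP F 2] :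
    (∀ y : GL Cfsg.Lie.chevE8.Idx F, ((y : GL Cfsg.Lie.chevE8.Idx F) : Matrix Cfsg.Lie.chevE8.Idx Cfsg.Lie.chevE8.Idx F) ∈ [Cfsg.Lie.chevE8.x F 239 1, Cfsg.Lie.chevE8.x F 232 1 * Cfsg.Lie.chevE8.x F 233 1, Cfsg.Lie.chevE8.x F 228 1 * Cfsg.Lie.chevE8.x F 222 1 * Cfsg.Lie.chevE8.x F 218 1, Cfsg.Lie.chevE8.x F 226 1 * Cfsg.Lie.chevE8.x F 220 1 * Cfsg.Lie.chevE8.x F 213 1 * Cfsg.Lie.chevE8.x F 216 1] → y ∈ Cfsg.Lie.chevE8.group F ∧ orderOf y = 2) ∧
    (∀ g ∈ Cfsg.Lie.chevE8.group F, orderOf g = 2 → ∃ y ∈ Cfsg.Lie.chevE8.group F, ((y : GL Cfsg.Lie.chevE8.Idx F) : Matrix Cfsg.Lie.chevE8.Idx Cfsg.Lie.chevE8.Idx F) ∈ [Cfsg.Lie.chevE8.x F 239 1, Cfsg.Lie.chevE8.x F 232 1 * Cfsg.Lie.chevE8.x F 233 1, Cfsg.Lie.chevE8.x F 228 1 * Cfsg.Lie.chevE8.x F 222 1 * Cfsg.Lie.chevE8.x F 218 1, Cfsg.Lie.chevE8.x F 226 1 * Cfsg.Lie.chevE8.x F 220 1 * Cfsg.Lie.chevE8.x F 213 1 * Cfsg.Lie.chevE8.x F 216 1] ∧ ∃ h ∈ Cfsg.Lie.chevE8.group F, h * g * h⁻¹ = y)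 ∧
    (∀ y₁ ∈ Cfsg.Lie.chevE8.group F, ∀ y₂ ∈ Cfsg.Lie.chevE8.group F, ((y₁ : GL Cfsg.Lie.chevE8.Idx F) : Matrix Cfsg.Lie.chevE8.Idx Cfsg.Lie.chevE8.Idx F) ∈ [Cfsg.Lie.chevE8.x F 239 1, Cfsg.Lie.chevE8.x F 232 1 * Cfsg.Lie.chevE8.x F 233 1, Cfsg.Lie.chevE8.x F 228 1 * Cfsg.Lie.chevE8.x F 222 1 * Cfsg.Lie.chevE8.x F 218 1, Cfsg.Lie.chevE8.x F 226 1 * Cfsg.Lie.chevE8.x F 220 1 * Cfsg.Lie.chevE8.x F 213 1 * Cfsg.Lie.chevE8.x F 216 1] → ((y₂ : GL Cfsg.Lie.chevE8.Idx F) : Matrix Cfsg.Lie.chevE8.Idx Cfsg.Lie.chevE8.Idx F) ∈ [Cfsg.Lie.chevE8.x F 239 1, Cfsg.Lie.chevE8.x F 232 1 * Cfsg.Lie.chevE8.x F 233 1, Cfsg.Lie.chevE8.x F 228 1 * Cfsg.Lie.chevE8.x F 222 1 * Cfsg.Lie.chevE8.x F 218 1, Cfsg.Lie.chevE8.x F 226 1 * Cfsg.Lie.chevE8.x F 220 1 * Cfsg.Lie.chevE8.x F 213 1 * Cfsg.Lie.chevE8.x F 216 1] →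
      (∃ h ∈ Cfsg.Lie.chevE8.group F, h * y₁ * h⁻¹ = y₂) → ((y₁ : GL Cfsg.Lie.chevE8.Idx F) : Matrix Cfsg.Lie.chevE8.Idx Cfsg.Lie.chevE8.Idx F) = ((y₂ : GL Cfsg.Lie.chevE8.Idx F) : Matrix Cfsg.Lie.chevE8.Idx Cfsg.Lie.chevE8.Idx F)) := by
  have := invol_of_check keyOK_E8 (ot_S F keyOK_E8) (oc_S _ F)
    (R := [([239], [239]), ([232, 233], [232, 233, 234, 235, 236, 237, 238, 239]), ([228, 222, 218], [218, 222, 223, 224, 225, 228, 229, 230, 231, 232, 233, 234, 235, 236, 237, 238, 239]), ([226, 220, 213, 216], [213, 216, 217, 218, 220, 221, 222, 223, 224, 225, 226, 227, 228, 229, 230, 231, 232, 233, 234, 235, 236, 237, 238, 239])])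
    (Γ := [120, 121, 123, 126, 130, 135, 141, 162]) (N := [([239], [], some [121, 123, 126, 130, 135, 141, 162]),
    ([239, 226], [([135, 130, 126, 123, 121, 120], none), ([], some [232, 233])], some [121, 123, 126, 130, 135, 141]),
    ([239, 226, 159], [([126, 130, 141, 123, 126, 130, 135, 162, 135, 130, 126, 123, 121, 120], none), ([], some [228, 222, 218])], some [121, 126, 130, 135, 141]),
    ([239, 226, 159, 121], [([122], some [121, 159, 161, 226, 228, 239]), ([159], some [121, 159, 161, 226, 228, 238, 239]), ([160], some [121, 159, 226, 228, 237, 238]), ([227], some [121, 159, 226])], none),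
    ([239, 226, 159, 152], [([120, 121, 123, 126, 130, 135, 120, 121, 123, 126, 120, 121, 141, 130, 135, 162, 126, 123, 121, 120], none), ([], some [226, 220, 213, 216])], some [121, 126, 135, 141]),
    ([239, 226, 159, 152, 121], [([122], some [121, 152, 159, 161, 226, 228, 239]), ([159], some [121, 152, 159, 161, 226, 228, 238, 239]), ([160], some [121, 152, 159, 226, 228, 237, 238]), ([227], some [121, 152, 159, 226])], none),
    ([239, 226, 159, 152, 126], [([129], some [126, 152, 158, 159, 226, 230, 239]), ([152], some [126, 152, 158, 159, 226, 230, 236, 239]), ([155], some [126, 152, 159, 226, 230, 235, 236]), ([229], some [126, 152, 159, 226])], none),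
    ([239, 226, 159, 152, 135], [([163], some [135, 152, 159, 184, 191, 219, 226, 239]), ([152], some [135, 152, 159, 184, 191, 226, 239]), ([174], some [135, 152, 159, 191, 214, 219, 239]), ([181], some [135, 152, 159, 239])], none),
    ([239, 226, 159, 152, 141], [([173], some [141, 152, 159, 206, 213, 225, 226, 239]), ([152], some [141, 152, 159, 206, 213, 226, 239]), ([196], some [141, 152, 159, 213, 224, 225, 226]), ([203], some [141, 152, 159, 226])], none)])
    (by decide +kernel) (by decide +kernel)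
  exact classes_of (by simp [prN, mat, mul_assoc]) this.1 this.2.1 this.2.2

end Cfsg.Agent.S2176
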