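import Cfsg.Statements.S2181
import Cfsg.Agent.Lib.Chev.Invol2

set_option autoImplicit false
open Cfsg

namespace Cfsg.Agent.S2181

open Cfsg.Agent.ChevM Cfsg.Agent.Chev

/-- The Chevalley group of type E₇ over a finite field of characteristic two (the matrix group generated by the root elements) has exactly five conjugacy classes of elements of order 2. -/
theorem result {F : Type*} [Field F] [Fintype F] [CharP F 2] :
    (ConjClasses.mk '' {g : ↥(Cfsg.Lie.chevE7.group F) | orderOf g = 2}).ncard = 5 := by
  have := invol_of_check keyOK_E7 (ot_S F keyOK_E7) (oc_S _ F)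
    (R := [([125], [125]), ([118, 121], [118, 121, 122, 123, 124, 125]), ([114, 116, 119], [114, 116, 117, 118, 119, 120, 121, 122, 123, 124, 125]), ([92, 107, 111], [92, 107, 108, 111, 113, 114, 116, 117, 118, 120, 121, 122, 123, 124, 125]), ([92, 107, 111, 119], [92, 107, 108, 111, 113, 114, 116, 117, 118, 119, 120, 121, 122, 123, 124, 125])])
    (Γ := [63, 64, 66, 69, 73, 78, 93]) (N := [([125], [], some [63, 64, 66, 69, 73, 78]),
    ([125, 92], [([66, 69, 73, 93], none), ([], some [118, 121])], some [63, 66, 69, 73, 78]),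
    ([125, 92, 63], [([66, 69, 78, 64, 66, 69, 73, 93, 73, 69, 66, 64], none), ([], some [92, 107, 111])], some [66, 69, 73, 78]),
    ([125, 92, 87], [([63, 64, 66, 69, 63, 64, 73, 93], none), ([], some [114, 116, 119])], some [63, 66, 73, 78]),
    ([125, 92, 63, 87], [([64, 66, 69, 73, 64, 66, 78, 69, 73, 93, 66, 64], none), ([], some [92, 107, 111, 119])], some [66, 73, 78]),
    ([125, 92, 87, 63], [([64, 66, 69, 73, 64, 66, 78, 69, 73, 93, 66, 64], none), ([], some [92, 107, 111, 119])], some [66, 73, 78]),
    ([125, 92, 87, 66], [([64, 66, 69, 73, 64, 66, 78, 69, 73, 93, 63, 64], none), ([], some [92, 107, 111, 119])], some [63, 73, 78]),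
    ([125, 92, 87, 73], [([94], some [73, 87, 92, 109, 114, 124, 125]), ([87], some [73, 87, 92, 109, 114, 125]), ([103], some [73, 87, 92, 114, 123, 124]), ([108], some [73, 87, 92])], none),
    ([125, 92, 87, 78], [([64, 66, 69, 73, 64, 66, 63, 64, 66, 69, 73, 93], none), ([], some [92, 107, 111, 119])], some [63, 66, 73]),
    ([125, 92, 63, 87, 66], [([65], some [63, 66, 68, 87, 89, 92, 125]), ([66], some [63, 66, 68, 87, 89, 91, 92, 125]), ([67], some [63, 66, 87, 89, 90, 91, 125]), ([88], some [63, 66, 87, 125])], none),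
    ([125, 92, 63, 87, 73], [([94], some [63, 73, 87, 92, 109, 114, 124, 125]), ([87], some [63, 73, 87, 92, 109, 114, 125]), ([103], some [63, 73, 87, 92, 114, 123, 124]), ([108], some [63, 73, 87, 92])], none),
    ([125, 92, 63, 87, 78], [([98], some [63, 78, 87, 92, 102, 116, 120, 125]), ([78], some [63, 78, 87, 92, 102, 116, 125]), ([101], some [63, 78, 87, 92, 116, 119, 120]), ([115], some [63, 78, 87, 92])], none),
    ([125, 92, 87, 63, 66], [([65], some [63, 66, 68, 87, 89, 92, 125]), ([66], some [63, 66, 68, 87, 89, 91, 92, 125]), ([67], some [63, 66, 87, 89, 90, 91, 125]), ([88], some [63, 66, 87, 125])], none),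
    ([125, 92, 87, 63, 73], [([94], some [63, 73, 87, 92, 109, 114, 124, 125]), ([87], some [63, 73, 87, 92, 109, 114, 125]), ([103], some [63, 73, 87, 92, 114, 123, 124]), ([108], some [63, 73, 87, 92])], none),
    ([125, 92, 87, 63, 78], [([98], some [63, 78, 87, 92, 102, 116, 120, 125]), ([78], some [63, 78, 87, 92, 102, 116, 125]), ([101], some [63, 78, 87, 92, 116, 119, 120]), ([115], some [63, 78, 87, 92])], none),
    ([125, 92, 87, 66, 63], [([65], some [63, 66, 68, 87, 89, 92, 125]), ([66], some [63, 66, 68, 87, 89, 91, 92, 125]), ([67], some [63, 66, 87, 89, 90, 91, 125]), ([88], some [63, 66, 87, 125])], none),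
    ([125, 92, 87, 66, 73], [([94], some [66, 73, 87, 92, 109, 114, 124, 125]), ([87], some [66, 73, 87, 92, 109, 114, 125]), ([103], some [66, 73, 87, 92, 114, 123, 124]), ([108], some [66, 73, 87, 92])], none),
    ([125, 92, 87, 66, 78], [([96], some [66, 78, 87, 92, 100, 118, 122, 125]), ([78], some [66, 78, 87, 92, 100, 118, 125]), ([99], some [66, 78, 87, 92, 118, 121, 122]), ([117], some [66, 78, 87, 92])], none),
    ([125, 92, 87, 78, 63], [([98], some [63, 78, 87, 92, 102, 116, 120, 125]), ([78], some [63, 78, 87, 92, 102, 116, 125]), ([101], some [63, 78, 87, 92, 116, 119, 120]), ([115], some [63, 78, 87, 92])], none),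
    ([125, 92, 87, 78, 66], [([96], some [66, 78, 87, 92, 100, 118, 122, 125]), ([78], some [66, 78, 87, 92, 100, 118, 125]), ([99], some [66, 78, 87, 92, 118, 121, 122]), ([117], some [66, 78, 87, 92])], none),
    ([125, 92, 87, 78, 73], [([94], some [73, 78, 87, 92, 109, 114, 124, 125]), ([87], some [73, 78, 87, 92, 109, 114, 125]), ([103], some [73, 78, 87, 92, 114, 123, 124]), ([108], some [73, 78, 87, 92])], none)])
    (by decide +kernel) (by decide +kernel)
  exact ncard_classes this.1 this.2.1 this.2.2

end Cfsg.Agent.S2181
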