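import Cfsg.Statements.S2193
import Cfsg.Agent.Lib.T2I.Fin2
import Cfsg.Agent.Lib.T2I.TF4
import Cfsg.Agent.Lib.T2.SU
import Cfsg.Agent.Lib.T2.OmF
import Cfsg.Agent.Lib.T2.OmG
import Cfsg.Agent.Lib.T2R.Sz
import Cfsg.Agent.Lib.T2R.Ree
import Cfsg.Agent.S2363

set_option autoImplicit false
open Cfsg

namespace Cfsg.Agent.S2193

open Cfsg.Agent.T2 Cfsg.Agent.T2I Cfsg.Agent.T2R

theorem main {G Ω : Type*} [Group G] [Finite G] [MulAction G Ω] [FaithfulSMul G Ω] [Fintype Ω] (r : ℕ) [hr : Fact r.Prime]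
    (hG : Cfsg.IsLieTypeChar r G) (h : Two G Ω) : Concl G (Fintype.card Ω) := by
  have : Nontrivial G := by
    by_contra e
    have h1 := (S2363.result r hr.out hG).1
    rw [not_nontrivial_iff_subsingleton] at e
    simp [Nat.card_of_subsingleton (1 : G)] at h1
  have := nontrivial_of_faithful (G := G) (Ω := Ω)
  rcases hG with ⟨F, _, _, _, n, h1, h2, ⟨e⟩⟩ | ⟨F, _, _, _, m, h1, h2, ⟨e⟩⟩ | ⟨F, _, _, _, n, q, h1, h2, h3, ⟨e⟩⟩ |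
    ⟨F, _, _, _, m, h1, h2, ⟨e⟩⟩ | ⟨F, _, _, _, m, h1, ⟨e⟩⟩ | ⟨F, _, _, _, m, a, b, h1, h2, ⟨e⟩⟩ |
    ⟨F, _, _, _, ⟨h1, ⟨e⟩⟩ | ⟨⟨e⟩⟩ | ⟨⟨e⟩⟩ | ⟨⟨e⟩⟩ | ⟨⟨e⟩⟩⟩ | ⟨F, _, _, _, q, hq, ⟨h1, ⟨e⟩⟩ | ⟨h1, ⟨e⟩⟩⟩ |
    ⟨-, hG⟩ | ⟨-, F, _, _, m, h1, h2, ⟨e⟩⟩ | ⟨-, hG⟩
  · rcases h1.eq_or_lt with rfl | h1
    · exact Nat.card_eq_fintype_card (α := Ω) ▸ psl2 (h2 rfl) e h
    · exact psl h1 e h
  · obtain ⟨a1, a2, a3⟩ := psp h h1 h2 e
    exact .inr (.inr (.inr (.inr (.inr (.inr (.inr (.inr ⟨F, _, inferInstance, m, a1, a2, ⟨e⟩, a3⟩)))))))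
  · obtain ⟨rfl, a2, a3⟩ := psu h h1 h2 h3 e
    exact .inr (.inr (.inl ⟨F, _, inferInstance, q, a2, h1, ⟨e⟩, a3⟩))
  · exact (not_odd h h1 h2 e).elim
  · exact (not_plus h h1 e).elim
  · exact (not_minus h h1 h2 e).elim
  · exact (not_G2 h1 e h).elim
  · exact (not_F4 e h).elim
  · exact (not_E6 e h).elim
  · exact (not_E7 e h).elim
  · exact (not_E8 e h).elim
  · exact (not_tE6 hq h1 e h).elim
  · exact (not_tD4 hq h1 e h).elim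
  · exact Nat.card_eq_fintype_card (α := Ω) ▸ sz hG h
  · obtain ⟨_, _, h⟩ := transport e h
    exact (not_two_TF4 h1 h2 h).elim
  · exact Nat.card_eq_fintype_card (α := Ω) ▸ ree hG h

/-- The faithful 2-transitive permutation representations of the finite simple groups of Lie type. Let G be a finite simple group of Lie type (isomorphic to a member of one of the sixteen families over a finite field, the Tits group excepted) acting faithfully and 2-transitively on a finite set Ω. Then one of the following holds: G ≅ PSL_l(F) with l ≥ 3 and Ω has (|F|^l − 1)/(|F| − 1) points; G ≅ PSL₂(F) with |F| ≥ 4 and Ω has |F| + 1 points; G ≅ PSU₃(q), q ≥ 3, and Ω has q³ + 1 points; G is a Suzuki group Sz(q), q = 2^(2m+1) ≥ 8, and Ω has q² + 1 points; G is a Ree group ²G₂(q), q = 3^(2m+1) ≥ 27, and Ω has q³ + 1 points; G ≅ PSL₂(9) and Ω has 6 points; G ≅ PSL₂(11)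 and Ω has 11 points; G ≅ PSL₄(2) and Ω has 8 points; or G ≅ PSp_{2n}(2) with n ≥ 3 and Ω has 2^(n−1)(2^n + 1) or 2^(n−1)(2^n − 1) points. -/
theorem result {G Ω : Type*} [Group G] [Finite G] [MulAction G Ω] [FaithfulSMul G Ω] [Fintype Ω] (r : ℕ) [Fact r.Prime] (hG : Cfsg.IsLieTypeChar r G) (h2 : MulAction.IsMultiplyPretransitive G Ω 2) :
    (∃ (F : Type) (_ : Field F) (_ : Fintype F) (l : ℕ), 3 ≤ l ∧ Nonempty (G ≃* Matrix.ProjectiveSpecialLinearGroup (Fin l) F) ∧ Fintype.card Ω * (Fintype.card F - 1) = Fintype.card F ^ l - 1) ∨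
    (∃ (F : Type) (_ : Field F) (_ : Fintype F), 4 ≤ Fintype.card F ∧ Nonempty (G ≃* Matrix.ProjectiveSpecialLinearGroup (Fin 2) F) ∧ Fintype.card Ω = Fintype.card F + 1) ∨
    (∃ (F : Type) (_ : Field F) (_ : Fintype F) (q : ℕ), 3 ≤ q ∧ Fintype.card F = q ^ 2 ∧ Nonempty (G ≃* Cfsg.PSU 3 F q) ∧ Fintype.card Ω = q ^ 3 + 1) ∨
    (∃ (F : Type) (_ : Field F) (_ : Fintype F) (m : ℕ), 1 ≤ m ∧ Fintype.card F = 2 ^ (2 * m + 1) ∧ Nonempty (G ≃* ↥(Cfsg.Lie.Sz F (2 ^ (m + 1)))) ∧ Fintype.card Ω = Fintype.card F ^ 2 + 1) ∨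
    (∃ (K : Type) (_ : Field K) (_ : Fintype K) (m : ℕ), 1 ≤ m ∧ Fintype.card K = 3 ^ (2 * m + 1) ∧ Nonempty (G ≃* ↥(Cfsg.Lie.twistedG2 K (3 ^ m))) ∧ Fintype.card Ω = Fintype.card K ^ 3 + 1) ∨
    (∃ (F : Type) (_ : Field F) (_ : Fintype F), Fintype.card F = 9 ∧ Nonempty (G ≃* Matrix.ProjectiveSpecialLinearGroup (Fin 2) F) ∧ Fintype.card Ω = 6) ∨
    (∃ (F : Type) (_ : Field F) (_ : Fintype F), Fintype.card F = 11 ∧ Nonempty (G ≃* Matrix.ProjectiveSpecialLinearGroup (Fin 2) F) ∧ Fintype.card Ω = 11) ∨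
    (∃ (F : Type) (_ : Field F) (_ : Fintype F), Fintype.card F = 2 ∧ Nonempty (G ≃* Matrix.ProjectiveSpecialLinearGroup (Fin 4) F) ∧ Fintype.card Ω = 8) ∨
    (∃ (F : Type) (_ : Field F) (_ : Fintype F) (n : ℕ), 3 ≤ n ∧ Fintype.card F = 2 ∧ Nonempty (G ≃* Cfsg.PSp n F) ∧ (Fintype.card Ω = 2 ^ (n - 1) * (2 ^ n + 1) ∨ Fintype.card Ω = 2 ^ (n - 1) * (2 ^ n - 1))) :=
  main r hG (two_of h2)

end Cfsg.Agent.S2193
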