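import Cfsg.Statements.S2208
import Cfsg.Agent.Lib.Bd.Main
import Cfsg.Agent.Lib.BdL.Main
import Cfsg.Agent.Lib.BdS.Main
import Cfsg.Agent.Lib.BdU.Mat
import Cfsg.Agent.Lib.Bd.Rec

set_option autoImplicit false
open Cfsg

namespace Cfsg.Agent.S2208

/-- Let a finite group G act faithfully and 2-transitively on a finite set Ω, and suppose the stabilizer of a point has a normal subgroup N isomorphic to PSL₂(q), to a Suzuki group Sz(q), or to PSU₃(q), with q = 2^n ≥ 4. Then either Ω has 6 points, G is isomorphic to A₆ or S₆ and N ≅ PSL₂(4); or Ω has 11 points, G ≅ PSL₂(11) and N ≅ PSL₂(4); or G has a normal subgroup acting regularly on Ω. -/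
theorem result {G Ω : Type*} [Group G] [Finite G] [Fintype Ω] [MulAction G Ω] [FaithfulSMul G Ω] (h2 : MulAction.IsMultiplyPretransitive G Ω 2) (a : Ω) (N : Subgroup G) (hNle : N ≤ MulAction.stabilizer G a) (hNnormal : ∀ g ∈ MulAction.stabilizer G a, ∀ n ∈ N, g * n * g⁻¹ ∈ N)
    (hN : ∃ (F : Type) (_ : Field F) (_ : Fintype F) (m : ℕ), Fintype.card F = 2 ^ m ∧ 2 ≤ m ∧
      (Nonempty (↥N ≃* Matrix.ProjectiveSpecialLinearGroup (Fin 2) F) ∨ (Odd m ∧ Nonempty (↥N ≃* ↥(Cfsg.Lie.Sz F (2 ^ ((m + 1) / 2))))) ∨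
       (∃ (K : Type) (_ : Field K) (_ : Fintype K), Fintype.card K = (2 ^ m) ^ 2 ∧ Nonempty (↥N ≃* Cfsg.PSU 3 K (2 ^ m))))) :
    (Fintype.card Ω = 6 ∧ (Nonempty (G ≃* ↥(alternatingGroup (Fin 6))) ∨ Nonempty (G ≃* Equiv.Perm (Fin 6))) ∧ ∃ (F : Type) (_ : Field F) (_ : Fintype F), Fintype.card F = 4 ∧ Nonempty (↥N ≃* Matrix.ProjectiveSpecialLinearGroup (Fin 2) F)) ∨
    (Fintype.card Ω = 11 ∧ (∃ (F : Type) (_ : Field F) (_ : Fintype F), Fintype.card F = 11 ∧ Nonempty (G ≃* Matrix.ProjectiveSpecialLinearGroup (Fin 2) F)) ∧ ∃ (F : Type) (_ : Field F) (_ : Fintype F), Fintype.card F = 4 ∧ Nonempty (↥N ≃* Matrix.ProjectiveSpecialLinearGroup (Fin 2) F)) ∨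
    (∃ R : Subgroup G, R.Normal ∧ (∀ x y : Ω, ∃ r ∈ R, r • x = y) ∧ ∀ x : Ω, ∀ r ∈ R, r • x = x → r = 1) := by
  have two : ∀ x y x' y' : Ω, x ≠ y → x' ≠ y' → ∃ g : G, g • x = x' ∧ g • y = y' :=
    fun x y x' y' h h' => MulAction.is_two_pretransitive_iff.1 h2 h h'
  have faith : ∀ g : G, (∀ x : Ω, g • x = x) → g = 1 := fun g h =>
    eq_of_smul_eq_smul (α := Ω) fun x => by rw [h, one_smul]
  obtain ⟨F, i1, i2, m, hF, hm, hN⟩ := hN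
  have key : ∀ Q, (∀ M : Subgroup G, (M ≃* N) → Bd.Loc M (2 ^ m) Q) →
      (2 ^ m = 4 ∧ Q = 2 ^ m ∧ Nat.card Ω = 6 ∧ 360 ≤ Nat.card G) ∨
      (2 ^ m = 4 ∧ Q = 2 ^ m ∧ Nat.card Ω = 11 ∧ Nat.card G = 660) ∨
      ∃ R : Subgroup G, R.Normal ∧ (∀ x y : Ω, ∃ r ∈ R, r • x = y) ∧
        ∀ x : Ω, ∀ r ∈ R, r • x = x → r = 1 := fun Q h => by
    obtain ⟨S⟩ := Bd.exists_St a N hNle hNnormal h two faith
    exact S.main a
  rcases hN with ⟨⟨e⟩⟩ | ⟨ho, ⟨e⟩⟩ | ⟨K, j1, j2, hK, ⟨e⟩⟩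
  · rcases key _ fun M f => BdL.loc_L2 M hF hm (f.trans e) with ⟨h1, -, h3, h4⟩ | ⟨h1, -, h3, h4⟩ | h
    · exact Or.inl ⟨Nat.card_eq_fintype_card.symm.trans h3, Bd.R11.rec6 faith h3 h4,
        F, i1, i2, hF.trans h1, ⟨e⟩⟩
    · rcases Bd.R11.rec11 two faith h3 h4 with h | h
      · exact Or.inr (Or.inl ⟨Nat.card_eq_fintype_card.symm.trans h3,
          ⟨ZMod 11, inferInstance, inferInstance, ZMod.card 11, h⟩, F, i1, i2, hF.trans h1, ⟨e⟩⟩)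
      · exact Or.inr (Or.inr h)
    · exact Or.inr (Or.inr h)
  · rcases key _ fun M f => BdS.loc_Sz M hF hm ho (f.trans e) with ⟨h1, h3, -⟩ | ⟨h1, h3, -⟩ | h
    · rw [h1] at h3; omega
    · rw [h1] at h3; omega
    · exact Or.inr (Or.inr h)
  · rcases key _ fun M f => BdU.loc_U3 M hm hK (f.trans e) with ⟨h1, h3, -⟩ | ⟨h1, h3, -⟩ | h
    · rw [h1] at h3; omega
    · rw [h1] at h3; omega
    · exact Or.inr (Or.inr h)

end Cfsg.Agent.S2208
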