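import Cfsg.Statements.S2216
import Cfsg.Agent.Lib.KC.Eppo
import Cfsg.Agent.Lib.KC.R9.All
import Cfsg.Agent.Lib.KCT.C9a
import Cfsg.Agent.Lib.KCT.C9b
import Cfsg.Agent.Lib.Rec.L213
import Cfsg.Agent.Lib.Rec.A7

set_option autoImplicit false
open Cfsg

namespace Cfsg.Agent.S2216

open KC in
theorem key : ∀ p ∈ T9.sv, ((∀ x ∈ p.2, x.1 ∈ pps) ∧ p.1 ∈ [504, 720, 960, 15360]) ∨
    (p.1 = 240 ∧ [(3, 1, 3)].Subperm p.2) ∨ (p.1 = 336 ∧ [(7, 1, 7)].Subperm p.2) ∨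
    (p.1 = 20160 ∧ [(2, 1, 64), (3, 1, 9), (5, 2, 5), (7, 2, 7)].Subperm p.2) ∨ p.1 = 1092 ∨
    (p.1 = 2520 ∧ ∀ x ∈ p.2, (x.1, x.2.2) ∈
      ({(2, 24), (3, 36), (3, 9), (4, 4), (5, 5), (6, 12), (7, 7)} : Finset (ℕ × ℕ))) := by
  decide +kernel

/-- A non-abelian finite simple group with exactly nine conjugacy classes is isomorphic to PSL(2, 8), PSL(2, 13) or the alternating group of degree 7. -/
theorem result {G : Type*} [Group G] [Finite G] [IsSimpleGroup G] (hG : ¬ IsMulCommutative G)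
    (h : Nat.card (ConjClasses G) = 9) :
    (∃ (F : Type) (_ : Field F) (_ : Fintype F), Fintype.card F = 8 ∧
        Nonempty (G ≃* Matrix.ProjectiveSpecialLinearGroup (Fin 2) F)) ∨
      Nonempty (G ≃* Matrix.ProjectiveSpecialLinearGroup (Fin 2) (ZMod 13)) ∨
      Nonempty (G ≃* ↥(alternatingGroup (Fin 7))) := by
  obtain ⟨xs, hx, A⟩ := KCG.exists_ax hG
  rw [h] at A
  rcases key _ (KC.T9.mem A (KCG.lf_of_reps hG hx)) with ⟨a, b⟩ | ⟨a, b⟩ | ⟨a, b⟩ | ⟨a, b⟩ | a | ⟨a, b⟩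
  · rcases KC.eppo hG (hx.eppo rfl a) with c | ⟨-, c⟩ | ⟨c, -⟩ | ⟨c, -⟩
    · simp only [List.mem_cons, List.not_mem_nil, or_false] at b c
      omega
    · exact Or.inl c
    all_goals
      simp only [List.mem_cons, List.not_mem_nil, or_false] at b
      omega
  · exact (hx.ct_kill hG h a rfl b (by decide) KCT.k9_240_a).elim
  · exact (hx.ct_kill hG h a rfl b (by decide) KCT.k9_336_a).elim
  · exact (hx.ct_kill hG h a rfl b (by decide) KCT.k9_20160_a).elim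
  · exact Or.inr (Or.inl (Rec.recL213 a))
  · exact Or.inr (Or.inr (Rec.recA7 a (hx.oc rfl b)))

end Cfsg.Agent.S2216
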