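import Cfsg.Statements.S2217
import Cfsg.Agent.Lib.KC.Eppo
import Cfsg.Agent.Lib.KC.Kill
import Cfsg.Agent.Lib.KC.R10.All
import Cfsg.Agent.Lib.KCT.C10b
import Cfsg.Agent.Lib.Rec.M11

set_option autoImplicit false
open Cfsg

namespace Cfsg.Agent.S2217

set_option synthInstance.maxSize 4000 in
set_option synthInstance.maxHeartbeats 400000 in
open KC in
theorem key : ∀ p ∈ T10.sv, K0 p.1 p.2 →
    ((∀ x ∈ p.2, x.1 ∈ pps) ∧ p.1 ∉ [360, 60, 168, 2448, 32537600, 504, 29120]) ∨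
    (p.1 = 336 ∧ [(7, 1, 7)].Subperm p.2) ∨
    (p.1 = 720 ∧ [(2, 1, 16), (2, 1, 24), (3, 1, 18), (3, 1, 18), (5, 1, 5)].Subperm p.2) ∨
    (p.1 = 756 ∧ [(2, 1, 12), (3, 1, 54), (7, 2, 7)].Subperm p.2) ∨
    (p.1 = 1920 ∧ [(5, 1, 5)].Subperm p.2) ∨
    (p.1 = 2520 ∧ [(5, 1, 5), (7, 2, 7)].Subperm p.2) ∨
    (p.1 = 29120 ∧ [(5, 1, 5), (7, 3, 7), (13, 3, 13)].Subperm p.2) ∨
    (p.1 = 7920 ∧ ∀ x ∈ p.2, (x.1, x.2.2) ∈
      ({(2, 48), (3, 18), (4, 8), (8, 8), (5, 5), (6, 6), (11, 11)} : Finset (ℕ × ℕ))) := by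
  decide +kernel

/-- A non-abelian finite simple group with exactly ten conjugacy classes is isomorphic to the Mathieu group M₁₁ or to PSL(3, 4). -/
theorem result {G : Type*} [Group G] [Finite G] [IsSimpleGroup G] (hG : ¬ IsMulCommutative G)
    (h : Nat.card (ConjClasses G) = 10) :
    Nonempty (G ≃* ↥Cfsg.Spor.M11) ∨
      ∃ (F : Type) (_ : Field F) (_ : Fintype F), Fintype.card F = 4 ∧
        Nonempty (G ≃* Matrix.ProjectiveSpecialLinearGroup (Fin 3) F) := by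
  obtain ⟨xs, hx, A⟩ := KCG.exists_ax hG
  rw [h] at A
  have F := KCG.lf_of_reps hG hx
  rcases key _ (KC.T10.mem A F) F.k0 with ⟨a, b⟩ | ⟨a, b⟩ | ⟨a, b⟩ | ⟨a, b⟩ | ⟨a, b⟩ | ⟨a, b⟩ | ⟨a, b⟩ | ⟨a, b⟩
  · rcases KC.eppo hG (hx.eppo rfl a) with c | ⟨c, -⟩ | ⟨-, c⟩ | ⟨c, -⟩
    · exact (b (List.mem_append_left [504, 29120] c)).elim
    · exact (b (by simp [c])).elim
    · exact Or.inr c
    · exact (b (by simp [c])).elim
  · exact (hx.ct_kill hG h a rfl b (by decide) KCT.k10_336_a).elim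
  · exact (hx.ct_kill hG h a rfl b (by decide) KCT.k10_720_b).elim
  · exact (hx.ct_kill hG h a rfl b (by decide) KCT.k10_756_a).elim
  · exact (hx.ct_kill hG h a rfl b (by decide) KCT.k10_1920_a).elim
  · exact (hx.ct_kill hG h a rfl b (by decide) KCT.k10_2520_a).elim
  · exact (hx.ct_kill hG h a rfl b (by decide) KCT.k10_29120_a).elim
  · exact Or.inl (Rec.recM11 a (hx.oc rfl b))

end Cfsg.Agent.S2217
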