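import Cfsg.Statements.S2218
import Cfsg.Agent.Lib.KC.Fin11
import Cfsg.Agent.Lib.KCG.D
import Cfsg.Agent.Lib.KC2.R11.All

set_option autoImplicit false
open Cfsg

namespace Cfsg.Agent.S2218

theorem key : ∀ p ∈ KC2.R11.sv, KC.Res11 p.1 p.2 := by
  decide +kernel

/-- A non-abelian finite simple group with exactly eleven conjugacy classes is isomorphic to PSL(2, 17) or to the Suzuki group Sz(8). -/
theorem result {G : Type*} [Group G] [Finite G] [IsSimpleGroup G] (hG : ¬ IsMulCommutative G)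
    (h : Nat.card (ConjClasses G) = 11) :
    Nonempty (G ≃* Matrix.ProjectiveSpecialLinearGroup (Fin 2) (ZMod 17)) ∨
      ∃ (F : Type) (_ : Field F) (_ : Fintype F), Fintype.card F = 8 ∧ Nonempty (G ≃* ↥(Cfsg.Lie.Sz F 4)) := by
  obtain ⟨xs, hx, A⟩ := KCG.exists_ax hG
  rw [h] at A
  exact KC.fin11 hG h hx (key _ (KC2.R11.mem A ⟨KCG.pr2 hx, KCG.t4 hG hx, KCG.sq2 hx⟩ (KCG.lf_of_reps hG hx)))

end Cfsg.Agent.S2218
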