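import Cfsg.Statements.S2219
import Cfsg.Agent.Lib.Nine.W
import Cfsg.Agent.S2220

set_option autoImplicit false
open Cfsg
open Cfsg.Agent.Nine Cfsg.Agent.Char Cfsg.Agent.Blk

namespace Cfsg.Agent.S2219

/-- Let G be a non-abelian finite simple group of order 9·2ᵃ·qᵇ for a prime q other than 2 and 3, having at least three conjugacy classes of nonidentity 3-elements (elements of order 3 or 9). Then G is isomorphic to PSL(2,8) or to PSL(2,17). -/
theorem result {G : Type*} [Group G] [Finite G] [IsSimpleGroup G] (hG : ¬ IsMulCommutative G)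
    (q a b : ℕ) (hq : q.Prime) (hq2 : q ≠ 2) (hq3 : q ≠ 3) (hcard : Nat.card G = 9 * 2 ^ a * q ^ b)
    (h3 : 3 ≤ Nat.card {C : ConjClasses G // ∃ g ∈ C.carrier, g ≠ 1 ∧ orderOf g ∣ 9}) :
    (∃ (F : Type) (_ : Field F) (_ : Fintype F), Fintype.card F = 8 ∧
        Nonempty (G ≃* Matrix.ProjectiveSpecialLinearGroup (Fin 2) F)) ∨
      Nonempty (G ≃* Matrix.ProjectiveSpecialLinearGroup (Fin 2) (ZMod 17)) := by
  classical
  have := Fintype.ofFinite G
  obtain ⟨R⟩ : Nonempty (Sylow 3 G) := inferInstance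
  have h9 : Nat.card R = 9 :=
    (sylow_card (m := 2 ^ a * q ^ b) (b := 2) (by rw [hcard]; ring) (not_three_dvd hq hq3) R).1
  have key : ∀ C : {C : ConjClasses G // ∃ g ∈ C.carrier, g ≠ 1 ∧ orderOf g ∣ 9},
      ∃ k ∈ Rs (R : Subgroup G), ConjClasses.mk k = C.1 := fun ⟨C, g, hg, g1, g9⟩ => by
    obtain ⟨k, hk, e⟩ := pe_isConj R (g := g) ⟨2, orderOf_dvd_iff_pow_eq_one.1 g9⟩
    exact ⟨k, mem_Rs.2 ⟨hk, fun e' => g1 (isConj_one_right.1 (e' ▸ e))⟩,
      (ConjClasses.mk_eq_mk_iff_isConj.2 e).trans (ConjClasses.mem_carrier_iff_mk_eq.1 hg)⟩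
  choose k hk hk' using key
  have := Fintype.ofFinite {C : ConjClasses G // ∃ g ∈ C.carrier, g ≠ 1 ∧ orderOf g ∣ 9}
  rw [Nat.card_eq_fintype_card] at h3
  obtain ⟨A, B, C, e1, e2, e3⟩ := Fintype.two_lt_card_iff.1 h3
  have f : ∀ {A B}, A ≠ B → ¬ IsConj (k A) (k B) := fun e e' =>
    e (Subtype.ext ((hk' _).symm.trans ((ConjClasses.mk_eq_mk_iff_isConj.2 e').trans (hk' _))))
  rcases split9 R h9 hG (hk A) (hk B) (hk C) (f e1) (f e2) (f e3) with he | ⟨x, y, z, h⟩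
  · refine (Cfsg.Agent.S2220.result hG q a b hq hq2 hq3 hcard R
      (caseI hG hq hq2 hq3 hcard R h9 he)).resolve_left fun ⟨φ⟩ => ?_
    have h360 : Nat.card G = 360 := by
      rw [Nat.card_congr φ.toEquiv, nat_card_alternatingGroup, Nat.card_fin]; rfl
    obtain ⟨χ, -, L, -, -, -, -, -, -, -, a5, a6, -, -, a9⟩ := caseI_num hG hq hq2 hq3 hcard R h9 he
    obtain ⟨ψ, hψ⟩ : L.Nonempty := Finset.card_pos.1 (by omega)
    have c1 := a6 ψ hψ 1 reg_one
    simp only [apply_one] at c1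
    have c2 : dg ψ + 1 = dg χ := by exact_mod_cast (by linear_combination c1 : (dg ψ : ℂ) + 1 = dg χ)
    have c3 := dg_dvd χ
    have c4 := dg_dvd ψ
    rw [h360] at c3 c4
    rcases a9 with e | ⟨e, -⟩
    · rw [show dg ψ = 7 by omega] at c4; omega
    · rw [e] at c3; omega
  · exact (caseII hG hq hq2 hq3 hcard h h9).elim

end Cfsg.Agent.S2219
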