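import Cfsg.Statements.S2247
import Cfsg.Agent.Lib.Suz.Borel

set_option autoImplicit false
open Cfsg

namespace Cfsg.Agent.S2247

open Cfsg.Agent.Suz

/-- In the Suzuki group with q = 2^(2m+1), m ≥ 1 (realised as the stabiliser in SL₄ of the Suzuki–Tits ovoid), the normalizer of a Sylow 2-subgroup P is a maximal subgroup and is the only maximal subgroup containing P. -/
theorem result {F : Type*} [Field F] [Fintype F] {m : ℕ} (hm : 1 ≤ m) (hF : Fintype.card F = 2 ^ (2 * m + 1)) (P : Sylow 2 ↥(Cfsg.Sz F m)) :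
    IsCoatom (Subgroup.normalizer ((P : Subgroup ↥(Cfsg.Sz F m)) : Set ↥(Cfsg.Sz F m))) ∧
    ∀ M : Subgroup ↥(Cfsg.Sz F m), IsCoatom M → (P : Subgroup ↥(Cfsg.Sz F m)) ≤ M → M = Subgroup.normalizer ((P : Subgroup ↥(Cfsg.Sz F m)) : Set ↥(Cfsg.Sz F m)) := by
  have := SuzF.of_card hm hF
  obtain ⟨x, hx⟩ := exists_sylow_eq P
  have hN := mem_normalizer_of_conj hx
  have hne : Subgroup.normalizer ((P : Subgroup ↥(Cfsg.Sz F m)) : Set ↥(Cfsg.Sz F m)) ≠ ⊤ := by
    intro he
    have : x * w * x⁻¹ ∈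
        Subgroup.normalizer ((P : Subgroup ↥(Cfsg.Sz F m)) : Set ↥(Cfsg.Sz F m)) := by
      rw [he]; trivial
    rw [hN] at this
    apply w_not_mem_B (F := F)
    convert this using 1
    group
  have key : ∀ M : Subgroup ↥(Cfsg.Sz F m), (P : Subgroup ↥(Cfsg.Sz F m)) ≤ M →
      ¬ M ≤ Subgroup.normalizer ((P : Subgroup ↥(Cfsg.Sz F m)) : Set ↥(Cfsg.Sz F m)) → M = ⊤ := by
    intro M hPM hM
    have h1 : M.comap (MulAut.conj x).toMonoidHom = ⊤ := by
      apply eq_top_of_U_le
      · intro g hg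
        apply hPM
        rw [hx]
        convert hg using 1
        simp [mul_assoc]
      · intro hle
        apply hM
        intro g hg
        rw [hN]
        apply hle
        simpa [mul_assoc] using hg
    rw [eq_top_iff]
    intro g _
    have : x⁻¹ * g * x ∈ M.comap (MulAut.conj x).toMonoidHom := by rw [h1]; trivial
    simpa [mul_assoc] using this
  refine ⟨⟨hne, fun M hM => key M (Subgroup.le_normalizer.trans hM.le) hM.not_ge⟩, ?_⟩
  intro M hM hPM
  by_cases hle : M ≤ Subgroup.normalizer ((P : Subgroup ↥(Cfsg.Sz F m)) : Set ↥(Cfsg.Sz F m))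
  · exact (hM.le_iff_eq hne).mp hle |>.symm
  · exact absurd (key M hPM hle) hM.1

end Cfsg.Agent.S2247
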