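import Cfsg.Statements.S2271


set_option autoImplicit false
open Cfsg

namespace Cfsg.Agent.S2271

open Finset Equiv Equiv.Perm

section
variable {α : Type*} [Fintype α] [DecidableEq α]

lemma exA {ι : Type*} [Fintype ι] (hc : Fintype.card ι + 2 ≤ Fintype.card α) (f g : ι → α)
    (hf : Function.Injective f) (hg : Function.Injective g) :
    ∃ σ : Perm α, sign σ = 1 ∧ ∀ i, σ (f i) = g i := by
  obtain ⟨σ, hσ⟩ := Equiv.Perm.exists_extending_pair f g hf hg
  rcases Int.units_eq_one_or (sign σ) with h | h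
  · exact ⟨σ, h, hσ⟩
  · have h1 : 1 < (univ \ univ.image f).card := by
      have := Finset.card_image_le (s := (univ : Finset ι)) (f := f)
      rw [Finset.card_sdiff_of_subset (subset_univ _)]
      simp only [card_univ] at *
      omega
    obtain ⟨x, hx, y, hy, hxy⟩ := Finset.one_lt_card.mp h1
    simp only [mem_sdiff, mem_univ, mem_image, true_and, not_exists] at hx hy
    refine ⟨σ * swap x y, by rw [Perm.sign_mul, h, sign_swap hxy]; simp, fun i => ?_⟩
    rw [Perm.mul_apply, swap_apply_of_ne_of_ne (hx i) (hy i), hσ]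

/-- number of agreements -/
def M (c b g : Perm α) : ℕ := (univ.filter fun z => g (c z) = b (g z)).card

lemma M_symm (c b g : Perm α) : M c b g = M b c g⁻¹ := by
  unfold M
  refine Finset.card_bij (fun z _ => g z) ?_ ?_ ?_
  · intro z hz
    simp only [mem_filter, mem_univ, true_and] at hz ⊢
    rw [← hz]; simp
  · intro z _ w _ h; exact g.injective h
  · intro y hy
    simp only [mem_filter, mem_univ, true_and] at hy
    refine ⟨g⁻¹ y, ?_, by simp⟩
    simp only [mem_filter, mem_univ, true_and]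
    rw [← hy]; simp

lemma two_le_M (c b g : Perm α) (z w : α) (hzw : z ≠ w) (hz : g (c z) = b (g z))
    (hw : g (c w) = b (g w)) : 2 ≤ M c b g := by
  unfold M
  apply Finset.one_lt_card.mpr
  exact ⟨z, by simpa using hz, w, by simpa using hw, hzw⟩

/-- the even permutations -/
def Ev (α : Type*) [Fintype α] [DecidableEq α] : Finset (Perm α) := univ.filter fun g => sign g = 1

def N (z w x y : α) : ℕ := ((Ev α).filter fun g => g z = x ∧ g w = y).card

lemma N_congr (z w x y x' y' : α) (h : Perm α) (hs : sign h = 1) (hx : h x = x') (hy : h y = y') :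
    N z w x y = N z w x' y' := by
  unfold N
  refine Finset.card_bij (fun g _ => h * g) ?_ ?_ ?_
  · intro g hg
    simp only [Ev, mem_filter, mem_univ, true_and] at hg ⊢
    refine ⟨by rw [Perm.sign_mul, hs, hg.1, one_mul], ?_, ?_⟩
    · rw [Perm.mul_apply, hg.2.1, hx]
    · rw [Perm.mul_apply, hg.2.2, hy]
  · intro g _ g' _ hh; exact mul_left_cancel hh
  · intro g hg
    simp only [Ev, mem_filter, mem_univ, true_and] at hg
    refine ⟨h⁻¹ * g, ?_, by simp⟩
    simp only [Ev, mem_filter, mem_univ, true_and]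
    refine ⟨by rw [Perm.sign_mul, Perm.sign_inv, hs, hg.1, one_mul], ?_, ?_⟩
    · rw [Perm.mul_apply, hg.2.1, ← hx]; simp
    · rw [Perm.mul_apply, hg.2.2, ← hy]; simp

lemma sum_N (z w : α) : ∑ x, ∑ y, N z w x y = (Ev α).card := by
  rw [← Fintype.sum_prod_type']
  symm
  rw [Finset.card_eq_sum_card_fiberwise (f := fun g : Perm α => (g z, g w)) (t := univ)
    (fun _ _ => mem_univ _)]
  refine Finset.sum_congr rfl fun p _ => ?_
  unfold N
  congr 1
  ext g
  simp [Prod.ext_iff]

lemma N_eq_zero1 (z x y : α) (h : x ≠ y) : N z z x y = 0 := by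
  unfold N
  rw [Finset.card_eq_zero, filter_eq_empty_iff]
  rintro g _ ⟨h1, h2⟩
  exact h (h1.symm.trans h2)

lemma N_eq_zero2 (z w x : α) (h : z ≠ w) : N z w x x = 0 := by
  unfold N
  rw [Finset.card_eq_zero, filter_eq_empty_iff]
  rintro g _ ⟨h1, h2⟩
  exact h (g.injective (h1.trans h2.symm))

lemma N_one (hn : 5 ≤ Fintype.card α) (z x : α) : Fintype.card α * N z z x x = (Ev α).card := by
  rw [← sum_N z z]
  have : ∀ x', ∑ y, N z z x' y = N z z x x := by
    intro x'
    rw [Finset.sum_eq_single x' (fun y _ hy => N_eq_zero1 z x' y (Ne.symm hy)) (by simp)]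
    obtain ⟨σ, hs, hσ⟩ := exA (ι := Fin 1) (by simp; omega) ![x'] ![x]
      (Function.injective_of_subsingleton _) (Function.injective_of_subsingleton _)
    exact N_congr z z x' x' x x σ hs (hσ 0) (hσ 0)
  simp [this]

lemma inj2 {x y : α} (h : x ≠ y) : Function.Injective ![x, y] := by
  intro i j hij
  fin_cases i <;> fin_cases j <;> simp_all [eq_comm]

lemma inj3 {x y z : α} (h : x ≠ y) (h2 : x ≠ z) (h3 : y ≠ z) : Function.Injective ![x, y, z] := by
  intro i j hij
  fin_cases i <;> fin_cases j <;> simp_all [eq_comm]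

lemma inj4 {x y z w : α} (h : x ≠ y) (h2 : x ≠ z) (h3 : y ≠ z) (h4 : x ≠ w) (h5 : y ≠ w)
    (h6 : z ≠ w) : Function.Injective ![x, y, z, w] := by
  intro i j hij
  fin_cases i <;> fin_cases j <;> simp_all [eq_comm]

lemma N_two (hn : 5 ≤ Fintype.card α) (z w x y : α) (hzw : z ≠ w) (hxy : x ≠ y) :
    Fintype.card α * (Fintype.card α - 1) * N z w x y = (Ev α).card := by
  rw [← sum_N z w]
  have : ∀ x', ∑ y', N z w x' y' = (Fintype.card α - 1) * N z w x y := by
    intro x'
    rw [← Finset.sum_erase (s := univ) (a := x') (N_eq_zero2 z w x' hzw)]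
    rw [Finset.sum_congr rfl (g := fun _ => N z w x y)]
    · simp [Finset.card_erase_of_mem]
    · intro y' hy'
      have hne : x' ≠ y' := (Finset.ne_of_mem_erase hy').symm
      obtain ⟨σ, hs, hσ⟩ := exA (ι := Fin 2) (by simp; omega) ![x', y'] ![x, y] (inj2 hne) (inj2 hxy)
      exact N_congr z w x' y' x y σ hs (hσ 0) (hσ 1)
  simp [this, mul_assoc]

lemma sum_M (c b : Perm α) : ∑ g ∈ Ev α, M c b g = ∑ z, ∑ x, N z (c z) x (b x) := by
  unfold M
  simp only [Finset.card_filter]
  rw [Finset.sum_comm]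
  refine Finset.sum_congr rfl fun z _ => ?_
  unfold N
  simp only [Finset.card_filter]
  rw [Finset.sum_comm]
  refine Finset.sum_congr rfl fun g _ => ?_
  rw [Finset.sum_eq_single (g z)]
  · simp
  · intro x _ hx; simp [Ne.symm hx]
  · simp

lemma avg (hn : 5 ≤ Fintype.card α) (c b : Perm α) (k : ℕ) (h : ∀ g, sign g = 1 → M c b g = k) :
    (k : ℤ) * (Fintype.card α * (Fintype.card α - 1)) =
      (Fintype.card α - c.support.card) * (Fintype.card α - b.support.card) * (Fintype.card α - 1) +
        c.support.card * b.support.card := by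
  have hE : (0 : ℤ) < (Ev α).card := by
    have : (Ev α).Nonempty := ⟨1, by simp [Ev]⟩
    exact_mod_cast this.card_pos
  have h1 := sum_M c b
  rw [Finset.sum_congr rfl (g := fun _ => k) (fun g hg => h g (by simpa [Ev] using hg))] at h1
  simp only [sum_const, smul_eq_mul] at h1
  set n := Fintype.card α with hnn
  have hn1 : ((n - 1 : ℕ) : ℤ) = n - 1 := by rw [Nat.cast_sub (by omega)]; simp
  have h2 : ∀ z x, (n : ℤ) * (n - 1) * N z (c z) x (b x) =
      (Ev α).card * ((if z ∈ c.supportᶜ then 1 else 0) * (if x ∈ b.supportᶜ then 1 else 0) * (n - 1) +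
        (if z ∈ c.support then 1 else 0) * (if x ∈ b.support then 1 else 0)) := by
    intro z x
    by_cases hz : c z = z <;> by_cases hx : b x = x
    · have := N_one hn z x
      simp only [hz, hx, mem_compl, mem_support, ne_eq, not_true, not_false_eq_true, if_true, if_false]
      rw [← this]; push_cast; ring
    · simp [hz, hx, N_eq_zero1 z x (b x) (Ne.symm hx)]
    · simp [hz, hx, N_eq_zero2 z (c z) x (Ne.symm hz)]
    · have := N_two hn z (c z) x (b x) (Ne.symm hz) (Ne.symm hx)
      simp only [hz, hx, mem_compl, mem_support, ne_eq, not_true, not_false_eq_true, if_true, if_false]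
      rw [← this, ← hnn]; push_cast [hn1]; ring
  have h3 : (n : ℤ) * (n - 1) * ((Ev α).card * k) =
      (Ev α).card * ((n - c.support.card) * (n - b.support.card) * (n - 1) +
        c.support.card * b.support.card) := by
    have : (((Ev α).card * k : ℕ) : ℤ) = ∑ z, ∑ x, (N z (c z) x (b x) : ℤ) := by
      rw [h1]; push_cast; rfl
    push_cast at this
    rw [this, Finset.mul_sum]
    simp only [Finset.mul_sum, h2]
    simp only [← Finset.mul_sum, Finset.sum_add_distrib, ← Finset.sum_mul]
    congr 1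
    simp only [Finset.sum_boole, filter_mem_eq_inter, univ_inter, Finset.card_compl]
    rw [Nat.cast_sub (card_le_univ _), Nat.cast_sub (card_le_univ _)]
  apply mul_left_cancel₀ hE.ne'
  linear_combination h3

lemma exD (e : Perm α) (h4 : 4 ≤ e.support.card) (x : α) :
    ∃ y, e y ≠ y ∧ y ≠ x ∧ y ≠ e x ∧ e y ≠ x := by
  have : 0 < (e.support \ {x, e x, e⁻¹ x}).card := by
    have h1 := Finset.le_card_sdiff ({x, e x, e⁻¹ x} : Finset α) e.support
    have h2 : ({x, e x, e⁻¹ x} : Finset α).card ≤ 3 := Finset.card_le_three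
    omega
  obtain ⟨y, hy⟩ := Finset.card_pos.mp this
  simp only [mem_sdiff, mem_support, mem_insert, mem_singleton, not_or] at hy
  refine ⟨y, hy.1, hy.2.1, hy.2.2.1, fun h => hy.2.2.2 ?_⟩
  rw [← h]; simp

lemma caseT (c b : Perm α) (hc : 4 ≤ c.support.card) (hb : 4 ≤ b.support.card) (x : α)
    (hx : c x ≠ x) (hxx : c (c x) = x) : ∃ g, sign g = 1 ∧ 2 ≤ M c b g := by
  obtain ⟨x', h1, h2, h3, h4⟩ := exD c hc x
  obtain ⟨y, hy⟩ := Finset.card_pos.mp (show 0 < b.support.card by omega)
  rw [mem_support] at hy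
  obtain ⟨y', k1, k2, k3, k4⟩ := exD b hb y
  obtain ⟨σ, hσ⟩ := Equiv.Perm.exists_extending_pair ![x, c x, x', c x'] ![y, b y, y', b y']
    (inj4 hx.symm h2.symm h3.symm h4.symm (fun h => h2 (c.injective h).symm) h1.symm)
    (inj4 hy.symm k2.symm k3.symm k4.symm (fun h => k2 (b.injective h).symm) k1.symm)
  have e0 : σ x = y := hσ 0
  have e1 : σ (c x) = b y := hσ 1
  have e2 : σ x' = y' := hσ 2
  have e3 : σ (c x') = b y' := hσ 3
  rcases Int.units_eq_one_or (sign σ) with h | h
  · exact ⟨σ, h, two_le_M c b σ x x' h2.symm (by rw [e0, e1]) (by rw [e2, e3])⟩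
  · refine ⟨σ * swap x (c x), by rw [Perm.sign_mul, h, sign_swap hx.symm]; simp,
      two_le_M c b _ (c x) x' h3.symm ?_ ?_⟩
    · rw [hxx]; simp [e0, e1]
    · simp only [Perm.mul_apply]
      rw [swap_apply_of_ne_of_ne h4 (fun h => h2 (c.injective h)), swap_apply_of_ne_of_ne h2 h3, e2, e3]

lemma key (hn : 5 ≤ Fintype.card α) (c b : Perm α) (hb : b ≠ 1)
    (hst : b.support.card ≤ c.support.card) (k : ℕ) (h : ∀ g, sign g = 1 → M c b g = k) : False := by
  have ha := avg hn c b k h
  have hs2 : 2 ≤ b.support.card := two_le_card_support_of_ne_one hb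
  have htn : c.support.card ≤ Fintype.card α := card_le_univ _
  -- lower bound
  have hlb : Fintype.card α - c.support.card ≤ k := by
    obtain ⟨T, hT, hTc⟩ := Finset.exists_subset_card_eq (s := b.supportᶜ) (n := c.supportᶜ.card)
      (by simp only [Finset.card_compl]; omega)
    have e := Finset.equivOfCardEq hTc.symm
    obtain ⟨σ, hs, hσ⟩ := exA (ι := (c.supportᶜ : Finset α)) (by
        simp only [Fintype.card_coe, Finset.card_compl]; omega) (fun x => (x : α))
      (fun x => (e x : α)) Subtype.val_injective (Subtype.val_injective.comp e.injective)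
    rw [← h σ hs, ← Finset.card_compl]
    unfold M
    apply Finset.card_le_card
    intro z hz
    simp only [mem_filter, mem_univ, true_and]
    have h1 : c z = z := by simpa using hz
    have h2 : σ z = e ⟨z, hz⟩ := hσ ⟨z, hz⟩
    have h3 : b (e ⟨z, hz⟩) = e ⟨z, hz⟩ := by simpa using hT (e ⟨z, hz⟩).2
    rw [h1, h2, h3]
  set n := Fintype.card α with hnn
  set s := b.support.card with hs
  set t := c.support.card with ht
  have hlb' : (n : ℤ) - t ≤ k := by
    have : ((n - t : ℕ) : ℤ) ≤ k := by exact_mod_cast hlb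
    rwa [Nat.cast_sub htn] at this
  have hn' : (5 : ℤ) ≤ n := by exact_mod_cast hn
  have hs' : (2 : ℤ) ≤ s := by exact_mod_cast hs2
  have ha' : (k : ℤ) * (n - 1) = (n - s - t) * (n - 1) + s * t := by
    apply mul_left_cancel₀ (show (n : ℤ) ≠ 0 by omega)
    linear_combination ha
  have ht1 : (n : ℤ) - 1 ≤ t := by
    by_contra hcon
    push Not at hcon
    nlinarith
  by_cases htn' : t = n
  · have ha2 : (k : ℤ) * (n - 1) = s := by rw [ha', htn']; ring
    have hsn : (s : ℤ) ≤ n := by exact_mod_cast (htn' ▸ hst)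
    have hk1 : k = 1 := by
      have : (k : ℤ) < 2 := by nlinarith
      have : (0 : ℤ) < k := by
        by_contra hh
        have : (k : ℤ) = 0 := by omega
        rw [this] at ha2; omega
      omega
    have hs4 : 4 ≤ s := by rw [hk1] at ha2; push_cast at ha2; omega
    have ht4 : 4 ≤ t := by omega
    obtain ⟨x, hx⟩ := Finset.card_pos.mp (show 0 < c.support.card by omega)
    obtain ⟨y, hy⟩ := Finset.card_pos.mp (show 0 < b.support.card by omega)
    rw [mem_support] at hx hy
    by_cases hxx : c (c x) = x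
    · obtain ⟨g, hg, h2⟩ := caseT c b ht4 hs4 x hx hxx
      rw [h g hg] at h2; omega
    by_cases hyy : b (b y) = y
    · obtain ⟨g, hg, h2⟩ := caseT b c hs4 ht4 y hy hyy
      rw [M_symm, h g⁻¹ (by rw [Perm.sign_inv, hg])] at h2; omega
    obtain ⟨σ, hsg, hσ⟩ := exA (ι := Fin 3) (by simp; omega) ![x, c x, c (c x)] ![y, b y, b (b y)]
      (inj3 (Ne.symm hx) (Ne.symm hxx) (fun h => hx (c.injective h).symm))
      (inj3 (Ne.symm hy) (Ne.symm hyy) (fun h => hy (b.injective h).symm))
    have e0 : σ x = y := hσ 0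
    have e1 : σ (c x) = b y := hσ 1
    have e2 : σ (c (c x)) = b (b y) := hσ 2
    have := two_le_M c b σ x (c x) (Ne.symm hx) (by rw [e0, e1]) (by rw [e1, e2])
    rw [h σ hsg] at this; omega
  · have ht' : (t : ℤ) = n - 1 := by omega
    have hk1 : k = 1 := by
      have : (k : ℤ) * (n - 1) = 1 * (n - 1) := by rw [ha', ht']; ring
      have := mul_right_cancel₀ (show (n : ℤ) - 1 ≠ 0 by omega) this
      exact_mod_cast this
    obtain ⟨x, hx⟩ := Finset.card_pos.mp (show 0 < c.support.card by omega)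
    obtain ⟨y, hy⟩ := Finset.card_pos.mp (show 0 < b.support.card by omega)
    obtain ⟨x0, hx0⟩ := Finset.card_pos.mp (show 0 < c.supportᶜ.card by rw [Finset.card_compl]; omega)
    obtain ⟨y0, hy0⟩ := Finset.card_pos.mp (show 0 < b.supportᶜ.card by rw [Finset.card_compl]; omega)
    rw [mem_support] at hx hy
    simp only [mem_compl, mem_support, ne_eq, not_not] at hx0 hy0
    have hxx : x0 ≠ x := by rintro rfl; exact hx hx0
    have hyy : y0 ≠ y := by rintro rfl; exact hy hy0
    obtain ⟨σ, hsg, hσ⟩ := exA (ι := Fin 3) (by simp; omega) ![x0, x, c x] ![y0, y, b y]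
      (inj3 hxx (fun h => hxx (c.injective (hx0.trans h))) (Ne.symm hx))
      (inj3 hyy (fun h => hyy (b.injective (hy0.trans h))) (Ne.symm hy))
    have e0 : σ x0 = y0 := hσ 0
    have e1 : σ x = y := hσ 1
    have e2 : σ (c x) = b y := hσ 2
    have := two_le_M c b σ x0 x hxx (by rw [hx0, e0, hy0]) (by rw [e1, e2])
    rw [h σ hsg] at this; omega

lemma fix_eq (a b g : Perm α) :
    Nat.card (Function.fixedPoints ⇑(g * a * g⁻¹ * (1 * b * 1⁻¹))) = M a⁻¹ b g := by
  rw [M_symm]
  unfold M
  rw [Nat.card_eq_fintype_card, Fintype.card_subtype]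
  congr 1
  ext z
  simp only [mem_filter, mem_univ, true_and, Function.mem_fixedPoints, Function.IsFixedPt, one_mul,
    inv_one, mul_one, Perm.mul_apply]
  rw [← Perm.eq_inv_iff_eq, ← Perm.eq_inv_iff_eq]

end

/-- Let n ≥ 5 and let a, b be non-identity permutations in the symmetric group S_n. Then the number of fixed points is not constant on the set of products a′b′ with a′ conjugate to a and b′ conjugate to b under the alternating group: there are even permutations g₁, h₁, g₂, h₂ such that (g₁ a g₁⁻¹)(h₁ b h₁⁻¹) and (g₂ a g₂⁻¹)(h₂ b h₂⁻¹) have different numbers of fixed points. -/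
theorem result (n : ℕ) (hn : 5 ≤ n) (a b : Equiv.Perm (Fin n)) (ha : a ≠ 1) (hb : b ≠ 1) :
    ∃ g₁ h₁ g₂ h₂ : Equiv.Perm (Fin n), g₁ ∈ alternatingGroup (Fin n) ∧ h₁ ∈ alternatingGroup (Fin n) ∧ g₂ ∈ alternatingGroup (Fin n) ∧ h₂ ∈ alternatingGroup (Fin n) ∧
      Nat.card (Function.fixedPoints ⇑(g₁ * a * g₁⁻¹ * (h₁ * b * h₁⁻¹))) ≠
        Nat.card (Function.fixedPoints ⇑(g₂ * a * g₂⁻¹ * (h₂ * b * h₂⁻¹))) := by
  by_contra hcon
  push Not at hcon
  have h : ∀ g : Equiv.Perm (Fin n), sign g = 1 → M a⁻¹ b g = M a⁻¹ b 1 := by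
    intro g hg
    rw [← fix_eq, ← fix_eq]
    exact hcon g 1 1 1 (mem_alternatingGroup.mpr hg) (one_mem _) (one_mem _) (one_mem _)
  rcases le_total b.support.card a⁻¹.support.card with hle | hle
  · exact key (by simpa using hn) a⁻¹ b hb hle _ h
  · refine key (by simpa using hn) b a⁻¹ (inv_ne_one.mpr ha) hle (M a⁻¹ b 1) fun g hg => ?_
    rw [M_symm]
    exact h _ (by rw [Perm.sign_inv, hg])

end Cfsg.Agent.S2271
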