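import Cfsg.Statements.S2272
import Cfsg.Agent.Lib.SLn.LinAux

set_option autoImplicit false
open Cfsg

namespace Cfsg.Agent.S2272

open Matrix Cfsg.Agent.SLn

variable {ι F : Type*} [Fintype ι] [DecidableEq ι] [Field F]

theorem trace_all (A B : SpecialLinearGroup ι F) (v φ : ι → F) (h0 : φ ⬝ᵥ v = 0)
    (h1 : φ ⬝ᵥ (B.1 *ᵥ v) = 0)
    (h2 : φ ⬝ᵥ (B.1 *ᵥ (A.1 *ᵥ v) - A.1 *ᵥ (B.1 *ᵥ v)) ≠ 0) (τ : F) :
    ∃ h : SpecialLinearGroup ι F, (A * (h * B * h⁻¹)).1.trace = τ := by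
  set c := (τ - (A.1 * B.1).trace) / φ ⬝ᵥ (B.1 *ᵥ (A.1 *ᵥ v) - A.1 *ᵥ (B.1 *ᵥ v)) with hc
  have h3 : φ ⬝ᵥ (c • v) = 0 := by rw [dotProduct_smul, h0, smul_zero]
  refine ⟨tv (c • v) φ h3, ?_⟩
  rw [Matrix.SpecialLinearGroup.coe_mul, Matrix.SpecialLinearGroup.coe_mul,
    Matrix.SpecialLinearGroup.coe_mul, (inv_coe_of_eq (coe_tv _ _ h3)).2, coe_tv]
  have e1 : (φ ᵥ* B.1) ⬝ᵥ v = 0 := by rwa [← dotProduct_mulVec]
  simp only [add_mul, mul_add, one_mul, mul_one, vecMulVec_mul, mul_vecMulVec, vecMul_vecMulVec,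
    trace_add, trace_vecMulVec, mulVec_smul, mulVec_neg, dotProduct_neg, dotProduct_smul, e1,
    smul_zero, neg_zero, zero_smul, dotProduct_zero, add_zero, smul_dotProduct, neg_dotProduct,
    smul_eq_mul, vecMulVec_mulVec, MulOpposite.op_zero, mulVec_zero, zero_dotProduct, mul_zero]
  have e2 : c * φ ⬝ᵥ (B.1 *ᵥ (A.1 *ᵥ v) - A.1 *ᵥ (B.1 *ᵥ v)) = τ - (A.1 * B.1).trace := by
    rw [hc, div_mul_cancel₀ _ h2]
  rw [dotProduct_sub, dotProduct_mulVec φ B.1, dotProduct_comm (φ ᵥ* B.1),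
    dotProduct_comm φ] at e2
  linear_combination e2

theorem exists_conj_trace (hn : 3 ≤ Fintype.card ι) (A B : SpecialLinearGroup ι F)
    (hA : ∀ c : F, A.1 ≠ c • 1) (hB : ∀ c : F, B.1 ≠ c • 1) (τ : F) :
    ∃ g h : SpecialLinearGroup ι F, (g * A * g⁻¹ * (h * B * h⁻¹)).1.trace = τ := by
  obtain ⟨v, hv⟩ := exists_not_eigen hA
  obtain ⟨u, hu⟩ := exists_not_eigen hB
  have hv0 : v ≠ 0 := by rintro rfl; exact hv 0 (by simp)
  have hu0 : u ≠ 0 := by rintro rfl; exact hu 0 (by simp)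
  set w := A.1 *ᵥ v with hw
  obtain ⟨k, hk⟩ : ∃ k : SpecialLinearGroup ι F,
      ∀ s t : F, (k * B * k⁻¹).1 *ᵥ v ≠ s • v + t • w := by
    obtain ⟨g, hg⟩ := exists_SL_mulVec (by omega) hu0 hv0
    by_cases h : ∀ s t : F, (g * B * g⁻¹).1 *ᵥ v ≠ s • v + t • w
    · exact ⟨g, h⟩
    push Not at h
    obtain ⟨s, t, h⟩ := h
    have ht : t ≠ 0 := by
      rintro rfl
      rw [conj_mulVec g B hg, zero_smul, add_zero, ← hg, ← mulVec_smul] at h
      exact hu s (mulVec_SL_injective g h)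
    obtain ⟨z, hz⟩ := exists_not_comb_pair hn v w
    obtain ⟨ρ, h1, h2, h3⟩ := exists_dot_pair (a := v) (b := z) (y := w) (by
      intro a b e
      by_cases hb : b = 0
      · rw [hb, zero_smul, add_zero] at e; exact hv a e
      · apply hz (-(b⁻¹ * a)) b⁻¹
        rw [e, smul_add, smul_smul, smul_smul, inv_mul_cancel₀ hb]; module)
    refine ⟨tv z ρ h2 * g, fun a b e => ?_⟩
    have e1 : tv z ρ h2 * g * B * (tv z ρ h2 * g)⁻¹ =
        tv z ρ h2 * (g * B * g⁻¹) * (tv z ρ h2)⁻¹ := by group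
    rw [e1, conj_mulVec _ _ (u := v) (by rw [tv_mulVec, h1, zero_smul, add_zero]), h, tv_mulVec,
      dotProduct_add, dotProduct_smul, dotProduct_smul, h1, h3, smul_zero, zero_add, smul_eq_mul,
      mul_one] at e
    apply hz (t⁻¹ * (a - s)) (t⁻¹ * (b - t))
    have : z = t⁻¹ • (t • z) := by rw [smul_smul, inv_mul_cancel₀ ht, one_smul]
    rw [this, eq_sub_of_add_eq' e]
    module
  set B' := k * B * k⁻¹ with hB'
  set x := B'.1 *ᵥ v with hx
  obtain ⟨ψ, hψ1, hψ2, hψ3⟩ := exists_dot_pair hk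
  obtain ⟨χ, hχ1, hχ2, hχ3⟩ := exists_dot_pair (a := v) (b := x) (y := w) (by
    intro a b e
    by_cases hb : b = 0
    · rw [hb, zero_smul, add_zero] at e; exact hv a e
    · apply hk (-(b⁻¹ * a)) b⁻¹
      rw [e, smul_add, smul_smul, smul_smul, inv_mul_cancel₀ hb]; module)
  by_cases hD : χ ⬝ᵥ (B'.1 *ᵥ (A.1 *ᵥ v) - A.1 *ᵥ (B'.1 *ᵥ v)) = 0
  · set g := tv v ψ hψ1 with hg
    obtain ⟨h, hh⟩ := trace_all (g * A * g⁻¹) B' v χ hχ1 hχ2 (by
      rw [conj_mulVec g A (u := v) (by rw [tv_mulVec, hψ1, zero_smul, add_zero]),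
        conj_mulVec g A (u := x - v) (by
          rw [tv_mulVec, dotProduct_sub, hψ1, hψ3, sub_zero, one_smul, sub_add_cancel]),
        ← hw, tv_mulVec, tv_mulVec, hψ2, zero_smul, add_zero, mulVec_sub, ← hw]
      rw [← hw, ← hx, dotProduct_sub] at hD
      rw [dotProduct_sub, dotProduct_add, dotProduct_smul, hχ1, smul_zero, add_zero,
        dotProduct_sub, hχ3, ← sub_add, hD, zero_add]
      exact one_ne_zero) τ
    exact ⟨g, h * k, by
      rw [← hh, hB', show h * k * B * (h * k)⁻¹ = h * (k * B * k⁻¹) * h⁻¹ by group]⟩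
  · obtain ⟨h, hh⟩ := trace_all A B' v χ hχ1 hχ2 hD τ
    exact ⟨1, h * k, by
      rw [← hh, hB', show h * k * B * (h * k)⁻¹ = h * (k * B * k⁻¹) * h⁻¹ by group, inv_one,
        one_mul, mul_one]⟩

/-- Let F be a finite field and d ≥ 3, and let a, b be non-identity elements of PSL_d(F). Then the product of the conjugacy classes of a and b is not a single conjugacy class: there are conjugates a′ of a and b′ of b such that a′b′ is not conjugate to ab. -/
theorem result {F : Type*} [Field F] [Fintype F] (d : ℕ) (hd : 3 ≤ d)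
    (a b : Matrix.ProjectiveSpecialLinearGroup (Fin d) F) (ha : a ≠ 1) (hb : b ≠ 1) :
    ∃ g h : Matrix.ProjectiveSpecialLinearGroup (Fin d) F, ¬ IsConj (a * b) (g * a * g⁻¹ * (h * b * h⁻¹)) := by
  induction a using QuotientGroup.induction_on with | _ A =>
  induction b using QuotientGroup.induction_on with | _ B =>
  rw [Ne, QuotientGroup.eq_one_iff] at ha hb
  classical
  obtain ⟨g, h, e⟩ := exists_conj_trace (by simpa using hd) A B (not_scalar_of_notMem_center ha)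
    (not_scalar_of_notMem_center hb) (if (A * B).1.trace = 0 then 1 else 0)
  refine ⟨g, h, fun hc => ?_⟩
  obtain ⟨y, hy⟩ := isConj_iff.1 hc
  induction y using QuotientGroup.induction_on with | _ y =>
  have h1 : (y * (A * B) * y⁻¹)⁻¹ * (g * A * g⁻¹ * (h * B * h⁻¹)) ∈ Subgroup.center _ :=
    QuotientGroup.eq.1 hy
  obtain ⟨c, hc1, hc2⟩ := exists_smul_of_mem_center h1
  have hc0 : c ≠ 0 := by
    rintro rfl
    rw [Fintype.card_fin, zero_pow (by omega)] at hc1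
    exact zero_ne_one hc1
  have h2 : (g * A * g⁻¹ * (h * B * h⁻¹)).1.trace = c * (A * B).1.trace := by
    rw [← mul_inv_cancel_left (y * (A * B) * y⁻¹) (g * A * g⁻¹ * (h * B * h⁻¹)),
      Matrix.SpecialLinearGroup.coe_mul, hc2, Matrix.mul_smul, mul_one, trace_smul,
      Matrix.SpecialLinearGroup.coe_mul, Matrix.SpecialLinearGroup.coe_mul y, trace_mul_cycle,
      coe_inv_mul, one_mul, smul_eq_mul]
  rw [h2] at e
  split_ifs at e with h3
  · rw [h3, mul_zero] at e; exact zero_ne_one e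
  · exact mul_ne_zero hc0 h3 e

end Cfsg.Agent.S2272
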