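import Cfsg.Statements.S2276
import Cfsg.Agent.Lib.Alt.PElt

set_option autoImplicit false
open Cfsg

namespace Cfsg.Agent.S2276



/-- Let n ≥ 5, p ≥ 3 a prime, and u, w non-identity elements of p-power order in the alternating group A_n. Then there is g ∈ A_n such that u·(g w g⁻¹) does not have p-power order and ⟨u, g w g⁻¹⟩ is not solvable. -/
theorem result (n : ℕ) (hn : 5 ≤ n) (p : ℕ) (hp : p.Prime) (hp3 : 3 ≤ p) (u w : alternatingGroup (Fin n)) (hu : u ≠ 1) (hw : w ≠ 1)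
    (hu' : ∃ k : ℕ, orderOf u = p ^ k) (hw' : ∃ k : ℕ, orderOf w = p ^ k) :
    ∃ g : alternatingGroup (Fin n), (¬ ∃ k : ℕ, orderOf (u * (g * w * g⁻¹)) = p ^ k) ∧
      ¬ Group.IsSolvable ↥(Subgroup.closure ({u, g * w * g⁻¹} : Set (alternatingGroup (Fin n)))) := by
  have key : ∀ x : alternatingGroup (Fin n), x ≠ 1 → (∃ k : ℕ, orderOf x = p ^ k) →
      ∃ a, orderOf x.1 = p ^ (a + 1) := fun x hx ⟨k, hk⟩ => by
    obtain _ | k := k
    · exact absurd (orderOf_eq_one_iff.1 hk) hx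
    · exact ⟨k, (Subgroup.orderOf_coe x).trans hk⟩
  obtain ⟨a, ha⟩ := key u hu hu'
  obtain ⟨b, hb⟩ := key w hw hw'
  obtain ⟨g, hg, h1, h2⟩ := PElt.main (by simpa using hn) hp hp3 ha hb
  lift g to alternatingGroup (Fin n) using hg
  refine ⟨g, fun ⟨k, hk⟩ => h1 k (congrArg Subtype.val (orderOf_dvd_iff_pow_eq_one.1 hk.dvd)),
    fun hs => h2 ?_⟩
  have := MonoidHom.map_closure (alternatingGroup (Fin n)).subtype {u, g * w * g⁻¹}
  rw [Set.image_pair] at this
  exact (congrArg (fun H : Subgroup (Equiv.Perm (Fin n)) => Group.IsSolvable H) this).mp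
    (Group.isSolvable_of_surjective (MonoidHom.subgroupMap_surjective _ _))

end Cfsg.Agent.S2276
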