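import Cfsg.Statements.S2277
import Cfsg.Agent.Lib.Alt.Sylow2

set_option autoImplicit false
open Cfsg

namespace Cfsg.Agent.S2277

open Cfsg.Agent.Alt
open scoped Pointwise

universe u

structure Hyp {G : Type u} [Group G] (p : ℕ) (P N : Subgroup G) (C D : Set G) : Prop where
  pP : IsPGroup p P
  normal : N.Normal
  cop : (Nat.card N).Coprime p
  sup : N ⊔ P = ⊤
  hC : Subgroup.closure C = P
  hD : Subgroup.closure D = P
  h : ∀ x ∈ N, ∀ c ∈ C, ∀ d ∈ D, IsPGroup p ↥(Subgroup.closure ({x * c * x⁻¹, d} : Set G))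

variable {G : Type u} [Group G] {p : ℕ} {P N : Subgroup G} {C D : Set G}

theorem Hyp.map {G' : Type u} [Group G'] (H : Hyp p P N C D) (f : G →* G')
    (hf : Function.Surjective f) : Hyp p (P.map f) (N.map f) (f '' C) (f '' D) where
  pP := H.pP.map f
  normal := H.normal.map f hf
  cop := H.cop.coprime_dvd_left (Subgroup.card_map_dvd N f)
  sup := by rw [← Subgroup.map_sup, H.sup, Subgroup.map_top_of_surjective f hf]
  hC := by rw [← MonoidHom.map_closure, H.hC]
  hD := by rw [← MonoidHom.map_closure, H.hD]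
  h := by
    rintro _ ⟨x, hx, rfl⟩ _ ⟨c, hc, rfl⟩ _ ⟨d, hd, rfl⟩
    have := (H.h x hx c hc d hd).map f
    rwa [MonoidHom.map_closure, Set.image_pair, map_mul, map_mul, map_inv] at this

theorem closure_preimage {K : Subgroup G} (hP : P ≤ K) (hC : Subgroup.closure C = P) :
    Subgroup.closure (K.subtype ⁻¹' C) = P.subgroupOf K := by
  apply Subgroup.map_injective K.subtype_injective
  rw [MonoidHom.map_closure, Set.image_preimage_eq_of_subset, hC,
    Subgroup.map_subgroupOf_eq_of_le hP]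
  intro c hc
  exact ⟨⟨c, hP (hC ▸ Subgroup.subset_closure hc)⟩, rfl⟩

theorem Hyp.sub (H : Hyp p P N C D) {R : Subgroup G} (hR : R ≤ N)
    (hn : P ≤ Subgroup.normalizer (R : Set G)) : Hyp p (P.subgroupOf (R ⊔ P)) (R.subgroupOf (R ⊔ P))
      ((R ⊔ P).subtype ⁻¹' C) ((R ⊔ P).subtype ⁻¹' D) where
  pP := H.pP.comap_of_injective _ (R ⊔ P).subtype_injective
  normal := (Subgroup.normal_subgroupOf_iff_le_normalizer le_sup_left).2
    (sup_le Subgroup.le_normalizer hn)
  cop := by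
    rw [Nat.card_congr (Subgroup.subgroupOfEquivOfLe le_sup_left).toEquiv]
    exact H.cop.coprime_dvd_left (Subgroup.card_dvd_of_le hR)
  sup := by rw [← Subgroup.subgroupOf_sup le_sup_left le_sup_right, Subgroup.subgroupOf_self]
  hC := closure_preimage le_sup_right H.hC
  hD := closure_preimage le_sup_right H.hD
  h := by
    intro x hx c hc d hd
    refine ((H.h x.1 (hR hx) c.1 hc d.1 hd).comap_of_injective _
      (R ⊔ P).subtype_injective).to_le ?_
    rw [Subgroup.closure_le]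
    rintro y (rfl | rfl)
    · exact Subgroup.subset_closure (Set.mem_insert _ _)
    · exact Subgroup.subset_closure (Set.mem_insert_of_mem _ rfl)

variable [Finite G] [hp : Fact p.Prime]

omit [Finite G] hp in
theorem Hyp.eq_one (H : Hyp p P N C D) {x : G} (h1 : x ∈ P) (h2 : x ∈ N) : x = 1 :=
  eq_one_of_isPGroup_of_pow H.pP h1 (m := Nat.card N)
    (congrArg Subtype.val (pow_card_eq_one' (x := (⟨x, h2⟩ : N)))) H.cop.symm

omit [Finite G] hp in
theorem Hyp.decomp (H : Hyp p P N C D) (g : G) : ∃ x ∈ N, ∃ y ∈ P, x * y = g := by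
  have := H.normal
  have h1 : g ∈ ((N ⊔ P : Subgroup G) : Set G) := by rw [H.sup]; trivial
  rwa [Subgroup.normal_mul] at h1

theorem Hyp.factor (H : Hyp p P N C D) {c d : G} (hc : c ∈ C) (hd : d ∈ D) {x : G} (hx : x ∈ N) :
    ∃ u ∈ N ⊓ Subgroup.centralizer {d}, ∃ v ∈ N ⊓ Subgroup.centralizer {c}, u * v = x := by
  have hn := H.normal
  have h1 : ¬ p ∣ P.index := by
    intro h2
    have h3 : P.index ∣ Nat.card N := by
      have h4 : Subgroup.IsComplement' N P := by
        refine Subgroup.isComplement'_of_disjoint_and_mul_eq_univ ?_ ?_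
        · rw [Subgroup.disjoint_def]
          exact fun h1 h2 => H.eq_one h2 h1
        · rw [← Subgroup.normal_mul, H.sup]; rfl
      exact h4.index_eq_card.dvd
    exact hp.out.one_lt.ne' (Nat.eq_one_of_dvd_coprimes H.cop (h2.trans h3) dvd_rfl)
  obtain ⟨g, -, hg⟩ := exists_conj_le_sylow (H.pP.toSylow h1) le_top le_top (H.h x hx c hc d hd)
  obtain ⟨y, hy, q, hq, h2⟩ := H.decomp g⁻¹
  have h3 : ∀ z ∈ Subgroup.closure ({x * c * x⁻¹, d} : Set G), y⁻¹ * z * y ∈ P := by
    intro z hz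
    have h4 : q * (g * z * g⁻¹) * q⁻¹ ∈ P := mul_mem (mul_mem hq (hg z hz)) (inv_mem hq)
    have h5 : y = g⁻¹ * q⁻¹ := by rw [← h2]; group
    rw [h5]
    convert h4 using 1
    group
  have key : ∀ w ∈ N, ∀ e ∈ P, w⁻¹ * e * w ∈ P → w ∈ Subgroup.centralizer {e} := by
    intro w hw e he h4
    rw [Subgroup.mem_centralizer_singleton_iff]
    have h5 := H.eq_one (mul_mem h4 (inv_mem he)) (by
      have := mul_mem (inv_mem hw) (hn.conj_mem w hw e)
      simpa only [mul_assoc] using this)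
    calc w * e = w * (w⁻¹ * e * w * e⁻¹) * e := by rw [h5, mul_one]
      _ = e * w := by group
  have hcP : c ∈ P := H.hC ▸ Subgroup.subset_closure hc
  have hdP : d ∈ P := H.hD ▸ Subgroup.subset_closure hd
  refine ⟨y, ⟨hy, key y hy d hdP (h3 d (Subgroup.subset_closure (by simp)))⟩, y⁻¹ * x,
    ⟨N.mul_mem (N.inv_mem hy) hx, ?_⟩, by group⟩
  have h4 := key (x⁻¹ * y) (mul_mem (inv_mem hx) hy) c hcP (by
    have := h3 _ (Subgroup.subset_closure (Set.mem_insert _ _))
    simpa only [mul_inv_rev, inv_inv, mul_assoc] using this)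
  simpa using inv_mem h4

omit [Finite G] in
theorem card_fix_conj (hn : N.Normal) (g c : G) :
    Nat.card (N ⊓ Subgroup.centralizer {g * c * g⁻¹} : Subgroup G) =
      Nat.card (N ⊓ Subgroup.centralizer {c} : Subgroup G) := by
  refine Nat.card_congr (Equiv.subtypeEquiv (MulAut.conj g).toEquiv fun x => ?_).symm
  simp only [Subgroup.mem_inf, Subgroup.mem_centralizer_singleton_iff, MulEquiv.toEquiv_eq_coe,
    EquivLike.coe_coe, MulAut.conj_apply, conj_mul, mul_left_inj, mul_right_inj]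
  exact and_congr_left' ⟨fun h => hn.conj_mem x h g, fun h => by
    simpa [mul_assoc] using hn.conj_mem _ h g⁻¹⟩

theorem final (hp3 : 3 ≤ p) (hP : IsPGroup p P) (hn : N.Normal) (hN : N ≠ ⊥) (hP1 : P ≠ ⊥)
    (hz : ∀ z ∈ P, z ≠ 1 → (∀ g ∈ P, z * g = g * z) → N ⊓ Subgroup.centralizer {z} = ⊥)
    (hC : Subgroup.closure C = P)
    (h : ∀ c ∈ C, Nat.card N ≤ Nat.card (N ⊓ Subgroup.centralizer {c} : Subgroup G) ^ 2) :
    False := by
  have hCP : ∀ c ∈ C, c ∈ P := fun c hc => hC ▸ Subgroup.subset_closure hc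
  have hN1 : 1 < Nat.card N := (Subgroup.one_lt_card_iff_ne_bot N).2 hN
  by_cases h1 : Subgroup.center P = ⊤
  · apply hP1
    rw [← hC, Subgroup.closure_eq_bot_iff]
    intro c hc
    by_contra h2
    have h3 := h c hc
    rw [hz c (hCP c hc) h2 fun g hg => congrArg Subtype.val
      (Subgroup.mem_center_iff.1 (h1 ▸ Subgroup.mem_top (⟨c, hCP c hc⟩ : P)) ⟨g, hg⟩).symm,
      Subgroup.card_bot] at h3
    omega
  have : Nontrivial (P ⧸ Subgroup.center P) := QuotientGroup.nontrivial_iff.2 h1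
  have := (hP.to_quotient (Subgroup.center P)).center_nontrivial
  obtain ⟨⟨a', ha'⟩, ha1⟩ := exists_ne (1 : Subgroup.center (P ⧸ Subgroup.center P))
  obtain ⟨a, rfl⟩ := QuotientGroup.mk_surjective a'
  obtain ⟨c, hc, hac⟩ : ∃ c ∈ C, c * a.1 ≠ a.1 * c := by
    by_contra h2
    push Not at h2
    apply ha1
    rw [Subtype.ext_iff, Subgroup.coe_one, QuotientGroup.eq_one_iff, Subgroup.mem_center_iff]
    intro g
    have h3 : P ≤ Subgroup.centralizer {a.1} := by
      refine hC.ge.trans ((Subgroup.closure_le _).2 ?_)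
      exact fun c hc => Subgroup.mem_centralizer_singleton_iff.2 (h2 c hc)
    exact Subtype.ext (Subgroup.mem_centralizer_singleton_iff.1 (h3 g.2))
  set z := a.1 * c * a.1⁻¹ * c⁻¹ with hz0
  have hzP : z ∈ P := mul_mem (mul_mem (mul_mem a.2 (hCP c hc)) (inv_mem a.2)) (inv_mem (hCP c hc))
  have hzc : ∀ g ∈ P, z * g = g * z := by
    intro g hg
    have h2 : (⟨z, hzP⟩ : P) ∈ Subgroup.center P := by
      rw [← QuotientGroup.eq_one_iff]
      have h3 := Subgroup.mem_center_iff.1 ha' (QuotientGroup.mk ⟨c, hCP c hc⟩)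
      change (QuotientGroup.mk (a * ⟨c, hCP c hc⟩ * a⁻¹ * ⟨c, hCP c hc⟩⁻¹) :
        P ⧸ Subgroup.center P) = 1
      simp only [QuotientGroup.mk_mul, QuotientGroup.mk_inv]
      rw [← h3]
      group
    exact congrArg Subtype.val (Subgroup.mem_center_iff.1 h2 ⟨g, hg⟩).symm
  have hz1 : z ≠ 1 := fun h2 => hac (by
    rw [hz0, mul_inv_eq_one, mul_inv_eq_iff_eq_mul] at h2; exact h2.symm)
  have hz2 : z * z ≠ 1 := fun h2 => hz1 (eq_one_of_isPGroup_of_pow hP hzP (m := 2)
    (by rwa [sq]) ((Nat.coprime_primes hp.out Nat.prime_two).2 (by omega)))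
  have f1 := hz z hzP hz1 hzc
  have f2 := hz (z * z) (mul_mem hzP hzP) hz2 fun g hg => by
    rw [mul_assoc, hzc g hg, ← mul_assoc, hzc g hg, mul_assoc]
  have e1 : a.1 * c * a.1⁻¹ = z * c := by rw [hz0]; group
  have e2 : a.1 * (z * c) * a.1⁻¹ = z * (z * c) := by
    rw [← mul_assoc a.1, ← hzc _ a.2, mul_assoc z, mul_assoc z, e1]
  have c1 := card_fix_conj hn a.1 c
  have c2 := card_fix_conj hn a.1 (z * c)
  rw [e1] at c1
  rw [e2, c1] at c2
  have hzcc := hzc c (hCP c hc)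
  set A := N ⊓ Subgroup.centralizer {c}
  set B := N ⊓ Subgroup.centralizer {z * c}
  have hA : ∀ u, u ∈ A ↔ u ∈ N ∧ u * c = c * u := fun u => by
    simp [A, Subgroup.mem_centralizer_singleton_iff]
  have hB : ∀ u, u ∈ B ↔ u ∈ N ∧ u * (z * c) = z * c * u := fun u => by
    simp [B, Subgroup.mem_centralizer_singleton_iff]
  have triv : ∀ {y u : G}, N ⊓ Subgroup.centralizer {y} = ⊥ → u ∈ N → u * y = y * u → u = 1 :=
    fun h h1 h2 => Subgroup.mem_bot.1 (h ▸ ⟨h1, Subgroup.mem_centralizer_singleton_iff.2 h2⟩)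
  let f : A × B → N := fun x => ⟨x.1.1 * x.2.1, mul_mem x.1.2.1 x.2.2.1⟩
  have hf : Function.Injective f := by
    rintro ⟨u, v⟩ ⟨u', v'⟩ h2
    have h3 : u.1 * v.1 = u'.1 * v'.1 := congrArg Subtype.val h2
    have h4 : u'.1⁻¹ * u.1 = v'.1 * v.1⁻¹ := by
      rw [inv_mul_eq_iff_eq_mul, ← mul_assoc, ← h3, mul_inv_cancel_right]
    have h5 := (hA _).1 (mul_mem (inv_mem u'.2) u.2)
    have h6 := (hB _).1 (h4 ▸ mul_mem v'.2 (inv_mem v.2))
    have h7 := triv f1 h5.1 (mul_right_cancel (b := c) (by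
      rw [mul_assoc, h6.2, mul_assoc z, mul_assoc z, h5.2]))
    rw [h7, eq_comm, mul_inv_eq_one] at h4
    rw [inv_mul_eq_one] at h7
    exact Prod.ext (Subtype.ext h7.symm) (Subtype.ext h4.symm)
  have hf2 := (hf.bijective_of_nat_card_le (by rw [Nat.card_prod, c1, ← sq]; exact h c hc)).2
  have h2 : N ⊓ Subgroup.centralizer {z * (z * c)} = ⊥ := by
    rw [eq_bot_iff]
    rintro w ⟨hw1, hw2⟩
    obtain ⟨⟨u, v⟩, h3⟩ := hf2 ⟨w, hw1⟩
    have h4 : u.1 * v.1 = w := congrArg Subtype.val h3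
    have hu := (hA _).1 u.2
    have hv := (hB _).1 v.2
    have hw3 := Subgroup.mem_centralizer_singleton_iff.1 hw2
    have hzc' : Commute z c := hzcc
    have m1 : z * z * u.1 * (z * z)⁻¹ ∈ A := (hA _).2 ⟨hn.conj_mem _ hu.1 _,
      (((hzc'.mul_left hzc').mul_left hu.2).mul_left (hzc'.mul_left hzc').inv_left).eq⟩
    have hzz : Commute z (z * c) := (Commute.refl z).mul_right hzc'
    have m2 : z * v.1 * z⁻¹ ∈ B := (hB _).2 ⟨hn.conj_mem _ hv.1 _,
      ((hzz.mul_left hv.2).mul_left hzz.inv_left).eq⟩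
    have h5 := hf (a₁ := (⟨_, m1⟩, ⟨_, m2⟩)) (a₂ := (u, v)) (Subtype.ext (by
      change z * z * u.1 * (z * z)⁻¹ * (z * v.1 * z⁻¹) = u.1 * v.1
      have k1 : c * u.1 * c⁻¹ = u.1 := by rw [← hu.2, mul_inv_cancel_right]
      have k2 : (z * c) * v.1 * (z * c)⁻¹ = v.1 := by rw [← hv.2, mul_inv_cancel_right]
      have k3 : z * (z * c) * w * (z * (z * c))⁻¹ = w := by rw [← hw3, mul_inv_cancel_right]
      rw [h4, ← k3, ← h4]
      conv_lhs => rw [← k1, ← k2]
      group))
    have h6 : z * z * u.1 * (z * z)⁻¹ = u.1 := congrArg (fun x => x.1.1) h5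
    have h7 : z * v.1 * z⁻¹ = v.1 := congrArg (fun x => x.2.1) h5
    rw [mul_inv_eq_iff_eq_mul] at h6 h7
    rw [← h4, triv f2 hu.1 h6.symm, triv f1 hv.1 h7.symm, mul_one]
    exact one_mem _
  have h3 := h c hc
  rw [← c2, h2, Subgroup.card_bot] at h3
  omega

theorem main (hp3 : 3 ≤ p) (n : ℕ) : ∀ (G : Type u) [Group G] [Finite G] (P N : Subgroup G)
    (C D : Set G), Nat.card N + Nat.card P = n → Hyp p P N C D →
    N ≤ Subgroup.centralizer (P : Set G) := by
  induction n using Nat.strong_induction_on with | _ n ih => ?_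
  intro G _ _ P N C D hn H
  have hN := H.normal
  have sub : ∀ R : Subgroup G, R < N → P ≤ Subgroup.normalizer (R : Set G) →
      R ≤ Subgroup.centralizer (P : Set G) := by
    intro R hR h1 x hx g hg
    have h2 := ih _ (by
      rw [Nat.card_congr (Subgroup.subgroupOfEquivOfLe le_sup_left).toEquiv,
        Nat.card_congr (Subgroup.subgroupOfEquivOfLe le_sup_right).toEquiv, ← hn]
      exact Nat.add_lt_add_right (lt_of_not_ge fun h =>
        hR.ne (Subgroup.eq_of_le_of_card_ge hR.le h)) _) _ _ _ _ _ rfl (H.sub hR.le h1)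
    exact congrArg Subtype.val (h2 (show (⟨x, Subgroup.mem_sup_left hx⟩ : ↥(R ⊔ P)) ∈ _ from hx)
      ⟨g, Subgroup.mem_sup_right hg⟩ hg)
  have lt_map : ∀ (M K : Subgroup G) [M.Normal], M ≠ ⊥ → M ≤ K →
      Nat.card (K.map (QuotientGroup.mk' M)) < Nat.card K := by
    intro M K _ h1 h2
    by_contra h3
    obtain ⟨m, hm⟩ := Subgroup.ne_bot_iff_exists_ne_one.1 h1
    have h4 := ((QuotientGroup.mk' M).subgroupMap_surjective K).bijective_of_nat_card_le
      (not_lt.1 h3)
    have h5 := h4.1 (a₁ := ⟨m.1, h2 m.2⟩) (a₂ := 1)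
      (Subtype.ext ((QuotientGroup.eq_one_iff _).2 m.2))
    exact hm (Subtype.ext (congrArg (fun x : K => x.1) h5))
  have quot : ∀ (M : Subgroup G) [M.Normal], M ≠ ⊥ → M ≤ N ∨ M ≤ P → ∀ x ∈ N, ∀ g ∈ P,
      x⁻¹ * (g * x * g⁻¹) ∈ M := by
    intro M _ h1 h2 x hx g hg
    have h3 := Nat.le_of_dvd Nat.card_pos (Subgroup.card_map_dvd N (QuotientGroup.mk' M))
    have h4 := Nat.le_of_dvd Nat.card_pos (Subgroup.card_map_dvd P (QuotientGroup.mk' M))
    have h5 := ih _ (by
      rcases h2 with h2 | h2 <;> have := lt_map M _ h1 h2 <;> omega) _ _ _ _ _ rfl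
      (H.map (QuotientGroup.mk' M) (QuotientGroup.mk'_surjective M))
    have h6 := h5 ⟨x, hx, rfl⟩ _ ⟨g, hg, rfl⟩
    rw [← QuotientGroup.eq_one_iff]
    simp only [QuotientGroup.mk'_apply] at h6
    simp only [QuotientGroup.mk_mul, QuotientGroup.mk_inv, h6]
    group
  by_contra hcon
  have min : ∀ M : Subgroup G, M.Normal → M ≤ N → M = ⊥ ∨ M = N := by
    intro M hM h1
    by_contra h2
    rw [not_or] at h2
    have h3 := sub M (lt_of_le_of_ne h1 h2.2) (by rw [Subgroup.normalizer_eq_top]; exact le_top)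
    refine hcon fun x hx g hg => ?_
    have h4 := quot M h2.1 (Or.inl h1) x hx g hg
    have h5 : g * (x⁻¹ * (g * x * g⁻¹)) = x⁻¹ * (g * x * g⁻¹) * g := h3 h4 g hg
    set m := x⁻¹ * (g * x * g⁻¹) with hm
    have h6 : ∀ k : ℕ, g ^ k * x * (g ^ k)⁻¹ = x * m ^ k := by
      intro k
      induction k with
      | zero => simp
      | succ k ih =>
        have h7 : g * m ^ k * g⁻¹ = m ^ k := by
          rw [(Commute.pow_right h5 k).eq, mul_inv_cancel_right]
        calc g ^ (k + 1) * x * (g ^ (k + 1))⁻¹ = g * (g ^ k * x * (g ^ k)⁻¹) * g⁻¹ := by group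
          _ = x * m * (g * m ^ k * g⁻¹) := by rw [ih, hm]; group
          _ = _ := by rw [h7, pow_succ', mul_assoc]
    obtain ⟨k, hk⟩ := H.pP ⟨g, hg⟩
    have h7 := h6 (p ^ k)
    rw [show g ^ p ^ k = 1 from congrArg Subtype.val hk, one_mul, inv_one, mul_one,
      left_eq_mul] at h7
    have h8 : m = 1 := by
      rw [← orderOf_eq_one_iff]
      exact Nat.eq_one_of_dvd_coprimes (H.cop.pow_right k)
        (Subgroup.orderOf_dvd_natCard N (h1 h4)) (orderOf_dvd_of_pow_eq_one h7)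
    rw [hm, inv_mul_eq_one, eq_mul_inv_iff_mul_eq] at h8
    exact h8.symm
  have faith : P ⊓ Subgroup.centralizer (N : Set G) = ⊥ := by
    by_contra h1
    have : (P ⊓ Subgroup.centralizer (N : Set G)).Normal := by
      rw [← Subgroup.normalizer_eq_top_iff, eq_top_iff, ← H.sup]
      refine sup_le (fun x hx => Subgroup.mem_normalizer_fintype fun y hy => ?_)
        fun x hx => Subgroup.mem_normalizer_fintype fun y hy => ?_
      · rwa [hy.2 x hx, mul_inv_cancel_right]
      · exact ⟨P.mul_mem (P.mul_mem hx hy.1) (P.inv_mem hx),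
          (inferInstance : (Subgroup.centralizer (N : Set G)).Normal).conj_mem _ hy.2 _⟩
    refine hcon fun x hx g hg => ?_
    have h2 := H.eq_one (quot _ h1 (Or.inr inf_le_left) x hx g hg).1
      (mul_mem (inv_mem hx) (hN.conj_mem x hx g))
    rw [inv_mul_eq_one, eq_mul_inv_iff_mul_eq] at h2
    exact h2.symm
  obtain ⟨r, hr, hr1⟩ := Nat.exists_prime_and_dvd
    (n := ((Subgroup.centralizer (P : Set G)).subgroupOf N).index)
    fun h => hcon (Subgroup.subgroupOf_eq_top.1 (Subgroup.index_eq_one.1 h))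
  have := Fact.mk hr
  obtain ⟨R, hR⟩ : ∃ R : Sylow r N, P ≤ Subgroup.normalizer
      (((R : Subgroup N).map N.subtype : Subgroup G) : Set G) := by
    let _ : MulAction P (Sylow r N) :=
      MulAction.compHom (Sylow r N) ((MulAut.conjNormal (H := N)).comp P.subtype)
    obtain ⟨R, hR⟩ := H.pP.nonempty_fixed_point_of_prime_not_dvd_card (Sylow r N) fun h =>
      hp.out.one_lt.ne' (Nat.eq_one_of_dvd_coprimes H.cop (h.trans
        ((Sylow.card_dvd_index default).trans (Subgroup.index_dvd_card _))) dvd_rfl)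
    refine ⟨R, fun g hg => Subgroup.mem_normalizer_fintype ?_⟩
    rintro _ ⟨y, hy, rfl⟩
    have h1 : MulAut.conjNormal (H := N) g • R = R := hR ⟨g, hg⟩
    refine ⟨MulAut.conjNormal g y, ?_, rfl⟩
    rw [← h1]
    exact Subgroup.smul_mem_pointwise_smul y (MulAut.conjNormal (H := N) g) (R : Subgroup N) hy
  have hRN : (R : Subgroup N) = ⊤ := by
    by_contra h1
    have h2 := sub _ (lt_of_le_of_ne (Subgroup.map_subtype_le _) fun h => h1 (by
      rw [eq_top_iff]
      intro x _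
      obtain ⟨y, hy, h3⟩ := h.ge x.2
      exact (Subtype.ext h3 : y = x) ▸ hy)) hR
    exact R.not_dvd_index (hr1.trans (Subgroup.index_dvd_of_le fun x hx => h2 ⟨x, hx, rfl⟩))
  have hN1 : N ≠ ⊥ := fun h => hcon (h ▸ bot_le)
  have hP1 : P ≠ ⊥ := fun h => hcon fun x _ g hg => by
    rw [h] at hg
    rw [Subgroup.mem_bot.1 hg, one_mul, mul_one]
  have hab : ∀ x ∈ N, ∀ y ∈ N, x * y = y * x := by
    have h1 : IsPGroup r N := (hRN ▸ R.isPGroup').of_equiv Subgroup.topEquiv
    have : Nontrivial N := (Subgroup.nontrivial_iff_ne_bot N).2 hN1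
    have h2 := (min ((Subgroup.center N).map N.subtype) inferInstance
      (Subgroup.map_subtype_le _)).resolve_left (by
        rw [Subgroup.map_eq_bot_iff_of_injective _ N.subtype_injective]
        exact (Subgroup.nontrivial_iff_ne_bot _).1 h1.center_nontrivial)
    intro x hx y hy
    obtain ⟨w, hw, rfl⟩ := h2.ge hy
    exact congrArg Subtype.val (Subgroup.mem_center_iff.1 hw ⟨x, hx⟩)
  have hz : ∀ z ∈ P, z ≠ 1 → (∀ g ∈ P, z * g = g * z) → N ⊓ Subgroup.centralizer {z} = ⊥ := by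
    intro z hz hz1 hzc
    refine (min _ ?_ inf_le_left).resolve_right fun h => hz1 (Subgroup.mem_bot.1 (faith ▸
      ⟨hz, fun x hx => Subgroup.mem_centralizer_singleton_iff.1 (h.ge hx).2⟩))
    rw [← Subgroup.normalizer_eq_top_iff, eq_top_iff, ← H.sup]
    refine sup_le (fun x hx => Subgroup.mem_normalizer_fintype fun y hy => ?_)
      fun x hx => Subgroup.mem_normalizer_fintype fun y hy => ?_
    · rwa [hab x hx y hy.1, mul_inv_cancel_right]
    · have h1 : x ∈ Subgroup.centralizer {z} :=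
        Subgroup.mem_centralizer_singleton_iff.2 (hzc x hx).symm
      exact ⟨hN.conj_mem _ hy.1 _, Subgroup.mul_mem _ (Subgroup.mul_mem _ h1 hy.2)
        (Subgroup.inv_mem _ h1)⟩
  by_cases h1 : ∀ c ∈ C, Nat.card N ≤ Nat.card (N ⊓ Subgroup.centralizer {c} : Subgroup G) ^ 2
  · exact final hp3 H.pP hN hN1 hP1 hz H.hC h1
  push Not at h1
  obtain ⟨c, hc, h1⟩ := h1
  refine final hp3 H.pP hN hN1 hP1 hz H.hD fun d hd => ?_
  have h2 := Nat.card_le_card_of_surjective
    (fun x : ↥(N ⊓ Subgroup.centralizer {d}) × ↥(N ⊓ Subgroup.centralizer {c}) =>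
      (⟨x.1.1 * x.2.1, mul_mem x.1.2.1 x.2.2.1⟩ : N)) (fun x => by
        obtain ⟨u, hu, v, hv, h⟩ := H.factor hc hd x.2
        exact ⟨(⟨u, hu⟩, ⟨v, hv⟩), Subtype.ext h⟩)
  rw [Nat.card_prod] at h2
  nlinarith

/-- Let p ≥ 3 be prime and G a finite group with a Sylow p-subgroup P and a normal p-complement N (N normal, of order prime to p, with NP = G). Suppose P is generated by a subset C and also by a subset D, and that ⟨x c x⁻¹, d⟩ is a p-group for all x ∈ N, c ∈ C, d ∈ D. Then P centralizes N, so that G = N × P. -/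
theorem result {G : Type*} [Group G] [Finite G] (p : ℕ) [Fact p.Prime] (hp3 : 3 ≤ p) (P : Sylow p G)
    (N : Subgroup G) [N.Normal] (hN : (Nat.card N).Coprime p) (hNP : N ⊔ (P : Subgroup G) = ⊤)
    (C D : Set G) (hC : Subgroup.closure C = (P : Subgroup G)) (hD : Subgroup.closure D = (P : Subgroup G))
    (h : ∀ x ∈ N, ∀ c ∈ C, ∀ d ∈ D, IsPGroup p ↥(Subgroup.closure ({x * c * x⁻¹, d} : Set G))) :
    ⁅(P : Subgroup G), N⁆ = ⊥ := by
  rw [Subgroup.commutator_comm, Subgroup.commutator_eq_bot_iff_le_centralizer]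
  exact main hp3 _ G P N C D rfl ⟨P.isPGroup', inferInstance, hN, hNP, hC, hD, h⟩

end Cfsg.Agent.S2277
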