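import Cfsg.Statements.S2340
import Cfsg.Agent.Lib.RD.E
import Cfsg.Agent.S2332

set_option autoImplicit false
open Cfsg

namespace Cfsg.Agent.S2340

open Cfsg.Lie Cfsg.Agent.Chev Cfsg.Agent.RD

theorem cert : certOK (-1) [0, 1, 1, 1, 1, 0, 0, 1, 1]
    [-3401703, 21750857, -7819205, 8084270, 13499495, -1359952, -12052084, -1919107, 4902033, -25656049,
     -21404397, 9414762, -3837150, -34825400, 15871241, 29601921, -11165718, 504814, 36147581, 13157820,
     -18002502, 18660632, 28454445, -16881846, -15545254, 15384873, -12623931, -35873936, 1556050, 4585050,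
     -22095497, -7988713, 16350469, 3995417, -6300048, 13217084, 14784107, 939670, -2178105, 5187745,
     -3139827, -7979912]
    [16598297, 21750857, 12180795, 11485973, 15150341, 8110099, 5931994, 11119739, 7979912]
    [2, 5, 6, 8, 9, 12] 20000000 36 7 2 = true := by
  decide +kernel

theorem node1 : NodeOK chevE6 1 10 := by decide +kernel

theorem node2 : NodeOK chevE6 0 10 := by decide +kernel

theorem levi : LeviOK chevE6 1 6 (fun a b => (List.getD
    [[56, 56, 57, 58, 59, 60], [15, 56, 42, 43, 44, 45], [14, 29, 56, 39, 40, 41], [13, 28, 32, 56, 37, 38],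
     [12, 27, 31, 34, 56, 36], [11, 26, 30, 33, 35, 56]] a []).getD b 0) fun a b => (List.getD
    [[1, 1, -1, 1, -1, 1], [1, 1, 1, -1, 1, -1], [-1, 1, 1, 1, -1, 1], [1, -1, 1, 1, 1, -1],
     [-1, 1, -1, 1, 1, 1], [1, -1, 1, -1, 1, 1]] a []).getD b 0 := by
  decide +kernel

theorem hts_eq : (hts chevE6 fun r => 1 ≤ rcN chevE6 r 1) =
    [0, 1, 2, 3, 2, 3, 4, 4, 5, 6, 3, 4, 5, 5, 6, 7, 6, 7, 8, 9, 10] := by
  decide +kernel

/-- For the Chevalley group of type E₆ over a finite field with q elements (the group generated by the root elements), every irreducible complex representation of degree at least 2 has degree at least q(q⁶ + q³ + 1)(q⁴ + 1). -/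
theorem result {F : Type*} [Field F] [Fintype F] :
    (∀ (k : ℕ) (ρ : Representation ℂ (Cfsg.Lie.chevE6.group F) (Fin k → ℂ)), ρ.IsIrreducible → 2 ≤ k → Fintype.card F * (Fintype.card F ^ 6 + Fintype.card F ^ 3 + 1) * (Fintype.card F ^ 4 + 1) ≤ k) := by
  intro k ρ hρ hk
  classical
  by_contra hlt
  have hq : 2 ≤ Fintype.card F := Fintype.one_lt_card
  have h := sl_bound (j := ⟨1, by decide⟩) (j' := ⟨0, by decide⟩) (b := Fintype.card F ^ 1 + Fintype.card F ^ 2 + Fintype.card F ^ 3 + Fintype.card F ^ 4 + Fintype.card F ^ 5) hρ hk node1 node2 ?_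
    levi (by decide) (by decide) (fun k τ hτ hk => le_trans ?_
      ((S2332.result 6 (by omega) (by simp)).1 k τ hτ hk)) hts_eq
  · have h1 : _ ∣ _ ^ 36 * _ := dvd_order degrees_E6 (dvd_card hρ)
    rw [Nat.card_eq_fintype_card] at h h1
    generalize Fintype.card F = q at *
    refine not_dvd_of_cert cert hq (Dvd.dvd.trans ⟨pev [1, -1, 1] q, ?_⟩ h1)
    simp only [List.map, List.sum_cons, List.sum_nil, pev] at h ⊢
    zify [one_le_two.trans hq] at h hlt
    linarith
  · rw [Nat.card_eq_fintype_card]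
    generalize Fintype.card F = q at *
    obtain ⟨s, rfl⟩ := Nat.exists_eq_add_of_le hq
    refine (not_le.1 hlt).trans_le ?_
    rw [show 2 + s - 1 = 1 + s by omega]
    ring_nf; omega
  · generalize Fintype.card F = q at *
    rw [Nat.le_div_iff_mul_le (by omega)]
    zify [(by omega : 1 ≤ q), Nat.le_self_pow (by omega : 6 ≠ 0) q]
    exact le_of_eq (by ring)

end Cfsg.Agent.S2340
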