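import Cfsg.Statements.S2470
import Cfsg.Agent.Lib.GLn.Spec3

set_option autoImplicit false
open Cfsg

namespace Cfsg.Agent.S2470

/-- Adjacency of an odd prime and the characteristic in the prime graph of PSL(n,q): let F be a finite field of characteristic p with q elements, n ≥ 2 with PSL(n,F) simple, and let r ≠ p be an odd prime dividing the order of PSL(n,F), with k the multiplicative order of q modulo r. Then PSL(n,F) has NO element of order r·p if and only if either k > n − 2, or n = 3, r = 3 and 3 divides q − 1 exactly once. -/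
theorem result {F : Type*} [Field F] [Fintype F] (p : ℕ) [Fact p.Prime] [CharP F p] (n : ℕ) (hn : 2 ≤ n) (hsmall : n = 2 → 4 ≤ Fintype.card F)
    (r : ℕ) (hr : r.Prime) (hr2 : r ≠ 2) (hrp : r ≠ p) (hrG : r ∣ Nat.card (Matrix.ProjectiveSpecialLinearGroup (Fin n) F))
    (k : ℕ) (hk : k = orderOf ((Fintype.card F : ℕ) : ZMod r)) :
    (r * p ∉ Set.range (orderOf : Matrix.ProjectiveSpecialLinearGroup (Fin n) F → ℕ)) ↔
      (n - 2 < k ∨ (n = 3 ∧ r = 3 ∧ 3 ∣ Fintype.card F - 1 ∧ ¬ 9 ∣ Fintype.card F - 1)) := by
  classical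
  rw [← Nat.card_eq_fintype_card] at hk ⊢
  have hp : p.Prime := Fact.out
  have hq : 0 < Nat.card F := Nat.card_pos
  have hcop : r.Coprime p := (Nat.coprime_primes hr hp).2 hrp
  have hk0 : 0 < k := hk ▸ GLn.orderOf_natCast_pos hr (GLn.not_dvd_card_of_ne p hr hrp)
  have hc2 : Nat.clog p 2 = 1 := by
    apply le_antisymm (Nat.clog_le_of_le_pow (by simpa using hp.two_le))
    exact Nat.clog_pos hp.one_lt one_lt_two
  constructor
  · intro h
    by_contra h1
    apply h
    have h2 : k + 2 ≤ n := by omega
    by_cases hk1 : k = 1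
    · have hrq : r ∣ Nat.card F - 1 := by
        rw [← pow_one (Nat.card F), GLn.dvd_pow_sub_one_iff_orderOf_dvd hq, ← hk, hk1]
      obtain ⟨N, hN, hN'⟩ : ∃ N, N ∣ Nat.card F - 1 ∧
          ∀ M, N ∣ 3 * M → (3 < n → N ∣ M) → r ∣ M := by
        by_cases h3 : n = 3 ∧ r = 3
        · refine ⟨9, by_contra fun h4 => h1 (Or.inr ⟨h3.1, h3.2, h3.2 ▸ hrq, h4⟩), fun M hM _ => ?_⟩
          rw [h3.2]
          omega
        · refine ⟨r, hrq, fun M hM hM' => ?_⟩
          by_cases h4 : n = 3
          · refine (hr.dvd_mul.1 hM).resolve_left fun h5 => h3 ⟨h4, ?_⟩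
            exact (Nat.prime_dvd_prime_iff_eq hr Nat.prime_three).1 h5
          · exact hM' (by omega)
      have hNp : N.Coprime p := by
        have := GLn.coprime_card_pow_sub_one (F := F) p one_ne_zero
        rw [pow_one] at this
        exact Nat.Coprime.coprime_dvd_left hN this
      obtain ⟨ζ, hζ⟩ := GLn.exists_isPrimitiveRoot_of_coprime (F := F) (K := AlgebraicClosure F) p
        hNp
      have hN0 : N ≠ 0 := by
        rintro rfl
        have : 1 < Nat.card F := Finite.one_lt_card
        rw [zero_dvd_iff] at hN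
        omega
      have hζ0 := hζ.ne_zero hN0
      have hζq : ζ ^ Nat.card F = ζ := by
        have := GLn.pow_card_pow_eq_of_pow_eq_one (k := 1) hq hζ.pow_eq_one (by simpa using hN)
        simpa using this
      obtain ⟨x, c, hc0, hc1, hc⟩ := GLn.exists_PSL_of_spec_le (F := F) p (n := n) (ι := Bool)
        (fun b => if b then ζ else (ζ ^ 2)⁻¹) (fun _ => 1) (fun b => if b then 2 else 1)
        (by rintro (_ | _) <;> simp [hζ0]) (fun _ => one_pos) (by rintro (_ | _) <;> simp)
        (by
          rintro (_ | _)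
          · simp only [Bool.false_eq_true, if_false, pow_one]
            rw [inv_pow, ← pow_mul, mul_comm, pow_mul, hζq]
          · simp only [if_true, pow_one, hζq])
        (by simp; omega) (by simp [hζ0])
      have h3 := hc true
      have h4 := hc false
      simp only [if_true, hc2, pow_one] at h3
      simp only [Bool.false_eq_true, if_false] at h4
      refine GLn.mem_range_orderOf_of_dvd x (hcop.mul_dvd_of_dvd_of_dvd (hN' _ ?_ fun h5 => ?_) h3.2)
      · rw [← hζ.pow_eq_one_iff_dvd]
        have h6 := h4.1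
        rw [← h3.1, inv_pow] at h6
        calc ζ ^ (3 * orderOf x) = (ζ ^ 2) ^ orderOf x * ζ ^ orderOf x := by ring
          _ = 1 := by rw [← h6, mul_inv_cancel₀ (pow_ne_zero _ (pow_ne_zero _ hζ0))]
      · rw [← hζ.pow_eq_one_iff_dvd, h3.1, hc1 (by simpa using h5), map_one]
    · obtain ⟨x, hx⟩ := GLn.exists_PSL_of_dvd_gs (F := F) p (n := n) (ι := Bool)
        (fun b => if b then r else 1) (fun b => if b then k else 1) (fun b => if b then 1 else 2)
        (by rintro (_ | _) <;> simp; omega) (by rintro (_ | _) <;> simp)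
        (by
          rintro (_ | _)
          · simp
          · exact GLn.prime_dvd_gs hq hr (hk ▸ hk1) (hk ▸ dvd_rfl)) (by simpa)
      refine GLn.mem_range_orderOf_of_dvd x (hcop.mul_dvd_of_dvd_of_dvd ?_ ?_)
      · exact (hr.dvd_mul.1 (hx true).1).resolve_right
          (GLn.not_dvd_pred_of_orderOf_ne_one hq (hk ▸ hk1))
      · simpa [hc2] using (hx false).2
  · rintro h1 ⟨x, hx⟩
    obtain ⟨t, α, kk, e, h0, hk0', he, hfix, hsum, hdet, hord⟩ :=
      GLn.exists_spec_PSL (K := AlgebraicClosure F) p x
    rw [Fintype.card_fin] at hsum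
    have hα : ∀ i, α i ^ ∏ i, (Nat.card F ^ kk i - 1) = 1 := by
      intro i
      obtain ⟨u, hu⟩ := Finset.dvd_prod_of_mem (fun i => Nat.card F ^ kk i - 1)
        (Finset.mem_univ i)
      rw [hu, pow_mul,
        (GLn.pow_card_pow_eq_self_iff (h0 i) (pow_pos hq _)).1 ((hfix i _).2 dvd_rfl), one_pow]
    have hen : ∀ i, p ^ Nat.clog p (e i) ∣ p ^ n := by
      intro i
      apply pow_dvd_pow
      apply Nat.clog_le_of_le_pow
      exact ((Nat.le_mul_of_pos_left _ (hk0' i)).trans (GLn.single_le_of_sum_eq hsum i)).trans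
        (Nat.lt_pow_self hp.one_lt).le
    have hrn : ¬ orderOf x ∣ p ^ n := by
      intro h
      rw [hx] at h
      exact hrp ((Nat.prime_dvd_prime_iff_eq hr hp).1
        (hr.dvd_of_dvd_pow ((dvd_mul_right _ _).trans h)))
    obtain ⟨i, hi⟩ : ∃ i, 2 ≤ e i := by
      by_contra h2
      have h3 : orderOf x ∣ ∏ i, (Nat.card F ^ kk i - 1) := by
        refine (hord _).2 ⟨1, fun i => ⟨by rw [hα, map_one], ?_⟩⟩
        have : e i = 1 := by
          have := he i
          have := not_exists.1 h2 i
          omega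
        simp [this]
      rw [hx] at h3
      obtain ⟨i, -, hi⟩ := (hp.prime.dvd_finsetProd_iff _).1 ((dvd_mul_left _ _).trans h3)
      exact (hp.coprime_iff_not_dvd.1
        (GLn.coprime_card_pow_sub_one (F := F) p (hk0' i).ne').symm) hi
    obtain ⟨j, hj⟩ : ∃ j, k ∣ kk j := by
      have h3 : orderOf x ∣ p ^ n * ∏ i, (Nat.card F ^ kk i - 1) := by
        refine (hord _).2 ⟨1, fun i => ⟨?_, (hen i).mul_right _⟩⟩
        rw [mul_comm, pow_mul, hα, one_pow, map_one]
      rw [hx] at h3
      rcases hr.dvd_mul.1 ((dvd_mul_right _ _).trans h3) with h | h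
      · exact absurd ((Nat.prime_dvd_prime_iff_eq hr hp).1 (hr.dvd_of_dvd_pow h)) hrp
      · obtain ⟨i, -, hi⟩ := (hr.prime.dvd_finsetProd_iff _).1 h
        exact ⟨i, hk ▸ (GLn.dvd_pow_sub_one_iff_orderOf_dvd hq _ _).1 hi⟩
    have hkj := Nat.le_of_dvd (hk0' j) hj
    have hle : ∀ i, kk i ≤ kk i * e i := fun i => Nat.le_mul_of_pos_right _ (he i)
    have hi2 : 2 * kk i ≤ kk i * e i := by nlinarith
    have hin := GLn.single_le_of_sum_eq hsum i
    have hki := hk0' i
    -- the case where all eigenvalues coincide and lie in `F`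
    have hall : kk i = 1 → (∀ j, α j = α i) → False := by
      intro h2 h3
      obtain ⟨c, hc⟩ := (GLn.mem_range_iff_pow_card (F := F) (α := α i)
        (Algebra.IsIntegral.isIntegral _)).2 (by simpa using (hfix i 1).2 (h2 ▸ dvd_rfl))
      exact hrn ((hord _).2 ⟨c ^ p ^ n, fun j => ⟨by rw [h3, map_pow, hc], hen j⟩⟩)
    have hone : kk i * e i = n → ∀ j, j = i := by
      intro h2 j
      by_contra h3
      have := GLn.pair_le_of_sum_eq hsum h3
      have := hle j
      have := hk0' j
      omega
    rcases h1 with h1 | ⟨rfl, rfl, h3, h9⟩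
    · by_cases hij : j = i
      · subst hij
        exact hall (by omega) fun l => by rw [hone (by omega) l]
      · have := GLn.pair_le_of_sum_eq hsum hij
        have := hle j
        omega
    · have hk1 : kk i = 1 := by omega
      by_cases h2 : kk i * e i = 3
      · exact hall hk1 fun l => by rw [hone h2 l]
      have he2 : e i = 2 := by rw [hk1] at h2 hin; omega
      obtain ⟨l, hl⟩ : ∃ l, l ≠ i := by
        by_contra h4
        have h5 : (Finset.univ : Finset (Fin t)) = {i} := by
          ext l
          simpa using not_exists.1 h4 l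
        rw [h5, Finset.sum_singleton] at hsum
        exact h2 hsum
      have h4 := GLn.pair_le_of_sum_eq hsum hl
      have h5 := hle l
      have h6 := hk0' l
      have h7 : kk l = 1 := by omega
      have h8 : e l = 1 := by
        have := he l
        rw [h7] at h4
        omega
      have huniv : (Finset.univ : Finset (Fin t)) = {l, i} := by
        symm
        apply Finset.eq_of_subset_of_card_le (Finset.subset_univ _)
        by_contra h10
        obtain ⟨m, -, hm⟩ := Finset.exists_mem_notMem_of_card_lt_card (not_le.1 h10)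
        have h11 : ∑ a ∈ insert m {l, i}, kk a * e a ≤ 3 :=
          hsum ▸ Finset.sum_le_sum_of_subset (Finset.subset_univ _)
        rw [Finset.sum_insert hm, Finset.sum_pair hl] at h11
        have := hle m
        have := hk0' m
        omega
      rw [huniv, Finset.prod_pair hl, hk1, h7, he2, h8] at hdet
      simp only [GLn.gs_one, mul_one, pow_one] at hdet
      obtain ⟨c, hc⟩ := (hord _).1 dvd_rfl
      have h10 : α i ^ (9 * p) = 1 := by
        have h11 := (hc l).1
        rw [← (hc i).1, hx] at h11
        calc α i ^ (9 * p) = α i ^ (3 * p) * (α i ^ 2) ^ (3 * p) := by ring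
          _ = (α l * α i ^ 2) ^ (3 * p) := by rw [← h11, mul_pow]
          _ = 1 := by rw [hdet, one_pow]
      have h11 : α i ^ (Nat.card F - 1) = 1 :=
        (GLn.pow_card_pow_eq_self_iff (h0 i) hq).1 (by simpa using (hfix i 1).2 (hk1 ▸ dvd_rfl))
      have h12 : α i ^ 3 = 1 := by
        have h13 : Nat.gcd (9 * p) (Nat.card F - 1) ∣ 3 := by
          have h14 := GLn.coprime_card_pow_sub_one (F := F) p one_ne_zero
          rw [pow_one] at h14
          rw [Nat.Coprime.gcd_mul_right_cancel _ h14.symm]
          obtain ⟨a, ha, ha'⟩ := (Nat.dvd_prime_pow Nat.prime_three (m := 2)).1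
            (Nat.gcd_dvd_left 9 (Nat.card F - 1))
          interval_cases a
          · rw [ha']; norm_num
          · rw [ha']; norm_num
          · have h15 := Nat.gcd_dvd_right 9 (Nat.card F - 1)
            rw [ha'] at h15
            exact absurd h15 h9
        obtain ⟨u, hu⟩ := h13
        rw [hu, pow_mul, pow_gcd_eq_one.2 ⟨h10, h11⟩, one_pow]
      refine hall hk1 fun m => ?_
      have hm : m ∈ ({l, i} : Finset (Fin t)) := huniv ▸ Finset.mem_univ m
      rcases Finset.mem_insert.1 hm with rfl | hm
      · apply mul_right_cancel₀ (pow_ne_zero 2 (h0 i))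
        rw [hdet, ← h12]
        ring
      · rw [Finset.mem_singleton.1 hm]

end Cfsg.Agent.S2470
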