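import Cfsg.Statements.S2364
import Cfsg.Agent.S2470

set_option autoImplicit false
open Cfsg

namespace Cfsg.Agent.S2364

/-- Let F be a finite field of characteristic p, n ≥ 4, and let a, b be commuting elements of PSL(n, F) with a of order p. Then every prime divisor of the order of b divides the order of SL(n − 2, F). -/
theorem result {F : Type*} [Field F] [Fintype F] (p : ℕ) [Fact p.Prime] [CharP F p] (n : ℕ) (hn : 4 ≤ n)
    (a b : Matrix.ProjectiveSpecialLinearGroup (Fin n) F) (ha : orderOf a = p) (hab : Commute a b) :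
    (orderOf b).primeFactors ⊆ (Nat.card (Matrix.SpecialLinearGroup (Fin (n - 2)) F)).primeFactors := by
  have hp : p.Prime := Fact.out
  have hq : 0 < Nat.card F := Nat.card_pos
  intro t ht
  have htp := Nat.prime_of_mem_primeFactors ht
  have htb := Nat.dvd_of_mem_primeFactors ht
  obtain ⟨m, rfl⟩ : ∃ m, n = m + 1 + 2 := ⟨n - 3, by omega⟩
  refine Nat.mem_primeFactors.2 ⟨htp, ?_, Nat.card_pos.ne'⟩
  rw [Nat.add_sub_cancel, GLn.card_SL_eq]
  by_cases h1 : t = p
  · subst h1
    refine Dvd.dvd.mul_right ((GLn.char_dvd_card t).trans (dvd_pow_self _ ?_)) _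
    exact (Nat.choose_pos (by omega)).ne'
  refine Dvd.dvd.mul_left ?_ _
  have key : ∀ k, 0 < k → k ≤ m + 1 → t ∣ Nat.card F ^ k - 1 →
      t ∣ ∏ i ∈ Finset.range m, (Nat.card F ^ (i + 2) - 1) := by
    intro k hk0 hk h
    by_cases hk1 : k = 1
    · subst hk1
      refine dvd_trans (h.trans ?_) (Finset.dvd_prod_of_mem _ (Finset.mem_range.2 (by omega : 0 < m)))
      exact Nat.pow_sub_one_dvd_pow_sub_one _ (one_dvd _)
    · have h2 := Finset.dvd_prod_of_mem (fun i => Nat.card F ^ (i + 2) - 1)
        (Finset.mem_range.2 (by omega : k - 2 < m))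
      rw [show k - 2 + 2 = k by omega] at h2
      exact h.trans h2
  by_cases h2 : t = 2
  · subst h2
    apply key 1 one_pos (by omega)
    have h3 := GLn.not_dvd_card_of_ne (F := F) p htp h1
    rw [pow_one]
    omega
  have hb : orderOf (b ^ (orderOf b / t)) = t := orderOf_pow_orderOf_div (orderOf_pos b).ne' htb
  have hab' : orderOf (b ^ (orderOf b / t) * a) = t * p := by
    rw [(hab.symm.pow_left _).orderOf_mul_eq_mul_orderOf_of_coprime, hb, ha]
    rw [hb, ha]
    exact (Nat.coprime_primes htp hp).2 h1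
  have h3 := (S2470.result (F := F) p (m + 1 + 2) (by omega) (by omega) t htp h2 h1
    (htb.trans (orderOf_dvd_natCard b)) _ rfl).not.1 (not_not.2 ⟨_, hab'⟩)
  rw [← Nat.card_eq_fintype_card] at h3
  refine key _ (GLn.orderOf_natCast_pos htp (GLn.not_dvd_card_of_ne (F := F) p htp h1))
    (by omega) ?_
  rw [GLn.dvd_pow_sub_one_iff_orderOf_dvd hq]

end Cfsg.Agent.S2364
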