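import Cfsg.Statements.S2459
import Cfsg.Agent.Lib.SLn.Sourour

set_option autoImplicit false
open Cfsg

namespace Cfsg.Agent.S2459

open Matrix Cfsg.Agent.SLn

structure M9 where
  (a b c d e f g h i : ℕ)
deriving DecidableEq

def M9.mul (x y : M9) : M9 :=
  ⟨(x.a * y.a + x.b * y.d + x.c * y.g) % 3, (x.a * y.b + x.b * y.e + x.c * y.h) % 3,
    (x.a * y.c + x.b * y.f + x.c * y.i) % 3, (x.d * y.a + x.e * y.d + x.f * y.g) % 3,
    (x.d * y.b + x.e * y.e + x.f * y.h) % 3, (x.d * y.c + x.e * y.f + x.f * y.i) % 3,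
    (x.g * y.a + x.h * y.d + x.i * y.g) % 3, (x.g * y.b + x.h * y.e + x.i * y.h) % 3,
    (x.g * y.c + x.h * y.f + x.i * y.i) % 3⟩

def M9.adj (x : M9) : M9 :=
  ⟨x.e * x.i + 2 * x.f * x.h, x.c * x.h + 2 * x.b * x.i, x.b * x.f + 2 * x.c * x.e,
    x.f * x.g + 2 * x.d * x.i, x.a * x.i + 2 * x.c * x.g, x.c * x.d + 2 * x.a * x.f,
    x.d * x.h + 2 * x.e * x.g, x.b * x.g + 2 * x.a * x.h, x.a * x.e + 2 * x.b * x.d⟩

def M9.det (x : M9) : ℕ :=
  (x.a * x.e * x.i + x.b * x.f * x.g + x.c * x.d * x.h +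
    2 * (x.c * x.e * x.g + x.b * x.d * x.i + x.a * x.f * x.h)) % 3

def M9.dec (n : ℕ) : M9 :=
  ⟨n % 3, n / 3 % 3, n / 9 % 3, n / 27 % 3, n / 81 % 3, n / 243 % 3, n / 729 % 3, n / 2187 % 3,
    n / 6561 % 3⟩

def M9.mat (F : Type*) [Field F] (x : M9) : Matrix (Fin 3) (Fin 3) F :=
  !![x.a, x.b, x.c; x.d, x.e, x.f; x.g, x.h, x.i]

def xx : M9 := ⟨0, 0, 1, 0, 1, 0, 2, 0, 0⟩

def tab : ℕ := 0x25e4a8382bf85c88ee0860c1716828106c860c3ae0e539bc3060c4bf68280f091fad63a87eb5cb4c1a383bf0efc1d120a0633c18302d028386414ecd0d1a038469970764db041d9416b0765a8e41d913ece5394da860c22b70b310830f8a4ef67eb5b4b17226552e90479f8e9794cecaa5e58b0c389a6a4ada8e1fad4c3e8280a32060c0b405c894e81815302a7eb4ee6860c350a18321eec1d938a63a5cf1ca0a007441831b70ca643a2129903a9ca646d2d29905fd1fad2718e538925cb578f8e3a5c5c7060c3c30c30e0580384986418301d2bb347cf23a5d6621d250a08e53987f8f8a2c64c30e5d586ff93180e12226060c0744ecd1efa98151ab23a5e14086ff662ac30ca802e3b0aa4e539da7860c76d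41831d9a060c15cd299094e41d90edc3a5d7f5a8384a945c888fb88af3c001830730a8386d2d07665d59fad44a03a5ce29860c8f4d07641d2860c6dc307642238f8a5004e538ee697228d9ca0e1df89fad6a38c30d0d8b0c3171018302d00e9796ae3a5e0d19722871241f44d2b94e115f29908d342cc4c388280a33860c3c30a0e1d312838889218302d04a641bb5299233e97223f2ae538c271fad38d6a0e02a94a6481660e11db8060c1710ecd1848280259b8a0e03b7060c681618324ab0e9777167eb5cb49908985e1831d9a172222b7076499db94e25d52d5d810b0c35f6a7eb5a8e0e977a04e538a909fad6a38e539ea9b94e63361831a3d394e7b48e53a2c5394e6996e538663283857d32991a05ba411a2e3a5d4d9060c66d2e90463ac1d919ce7eb59dd3a418490c30e59e0e974074fd450e4860c41ac1830ff1860c4a52c6d9761283822b022bd8720e9776da1830a323b34109218319549fad75cce5396bf30c34bd2e905a8e060c3834c30e61a860c0b41076483eca646feac30db4b1fad73b12d5d150b2a97716c30dcb4907d888c1831d9a0e9728627eb44834a6423f50b31d6741d943d507642a941d95e323e28316a8383b823a5c231283853701830dd8b94e5daea879f9b1fad3c24a0e0238860c9726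8281a8e4a641956e53906e060c3fc65c88a729fad0840864db4b060c2b92a0e243c30c37fdacaa48d341d96342183094fcb5734392991bd9ca64699729916db9fad1c261fc9bc33a41607e864c66786ff6c84e53977da0a017161831c653b344f6e864ca8606ff6d2ce5392c01fad2d421fc9b9c3a414c448280a35060c719aecd11dabf51253e96c1a658c0f480c3a5c97841d96a38a0e023b860c073e18302d0060c20fa7eb58b5907d3d7a183122b8e9734da1830dbc172207801831c63c2cc6df90764c5d17225ecea4ae0efa92b80c41bfe29228386be27eb45fa060c07083e282490e9710930764e7941d96d5d07644f9b94e28ce7eb4e520f8a28621831f8f17223e16a0e23adbeca54b47eb6533cb5753dc1831597ba410924c30cd0e038454eae905ad04a6419383a5e224b0c3091818310da060c2aa2e9041f5394e18ea864dc4b860c08767eb4238ca6438d72991af8ca64663618309c9394e70203e2977c1fad931ee905b570e97978c183201483840780e9064d541d9293ac6da5fe07f25d0c96c14d92838088ee53a14e060c90c60e101deba4146c87496316172207e6e53865ba838182a3e2a20b07f274b81831d3b860c748218305764a6425330765b5728385b6e3a5d34430c322b622bdd2f860c90d20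e10a173a414686c30cea0252910fe1831fde972268521831d4a9fad97921830a8641d909250765e720e972aaf0764fbeb94e18f7076484f1fad088f076614b060c73083e29d208e971344e5384594a6472723e2930e1fad4d46a0e1af897226150e5382a919083d7a3a5e24b9fad7a6ac30daf8a838285c183106e283809245c88b83b0c33db61831b574a644bd2a0e220b1fad36f018301de860c7e6d2991b7e4a6494923a5e1df9722967860548aac1d92682e5382070f8a17f41830f2731b63e16c30d21b41d94d3ac30d8db06ff662a18313261722670eecd0b251fad4bf729919ec3b341adc7eb6334394e6be2e5394f4060c8d72e539aa7b94e7baee53a385394e6b40e53a1c4972295e2a0e02238c0f435c183105d860c3f901831387b0c31ff90b308d308af51de1bfd05a860c6be307650d8860c5322e538fe40e97420c82818bd1fad6d5c1830322b0c364b6828024617226630183029bb0c335ace53a3d31fad2b44c6d821db0c38c16a0e0709b0c37b00a4ad4f5860c12012991a298f8a69490764d1a41d96b41076614c860c361ea0e02494a647194a0e0c0ac1d96d5c7eb55a3a92b2fc48281d4aa83874c41831438972217e8e9054959fad0ea61831cfb394e8cd01bfd1f2a8386be218325e1860c730860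55d209722235307645c71fad68b83e2907a4a6477472990223ca641b181fc97b3a0a06d5ce53869d86ff5c467eb5c21bb3417ee18317dc21936fe4e904ae486ff4a947eb5c4bbb342cd61fc936fa0a06cc0e538a1a060c4f02864dbfaba417aa6303c94e25b0364efd45ed2283825db0764dbc0e97077418302b5060c09241831efa9d252b0e5269ca8860c2bf92d5c432060c7236e905b07860c8e3e1bfdf4b87f269963e282d042cc94d41831a5203842b563a5d02abb345ece3a5d0f5038421a882810d8c1d976db07660ec860c13f2e53a2741722536a1bfe3d31722805ee5385fb8e615988a4ac2d04b5783b8183071897226f660e110a2ba4141e80e113db972230d2864d8e58c0f8aea7495caa060c0f121831552a0a07272ecd178cba4169fc183230b86ff74c5299106e4a6494c81831e210e97271ee5385fd20a0931ee539f9b0e970c8a2e2199b0e978e143a5e533860c1fbc303d552a92b09d2e90660b86ff4d3a303c2313b347b485c894cd172283be183221886ff630c96c02073b34198c526a38f98150a6ee905cb4860c73081831ca7060c15d3299094fc1d96fe4a4ad77f41d94efd29908d488af6ec418321901fad7fda1bfe413b94e2bf92990fd8060c807c7eb5c2f060c9192828215bb94e416ac30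d8a6a19348aee5394c89722618c1831848394e62f52990667aa1e2862e53a1660e97805e11dc4d4394e116b299141d860c816ce5397dc4a641e482e20238a838982ee53945520a019563a5d5e8b94e507c1830a72c1d95046e53867e42cc99427eb5a7a860c7b001fc864e41d98ad2e538fd9860c6edc1831e979fad8b74864d4f741d9171ce538790b7b922b1076499f394e6192183131141d990cce5381e00e615d0d2992425c1d96c1ee90579430c34a950765861860c5dae5c8966241d96b7ce90465b8e972a010765a7f3b3454eaa0e0aa8a838507018311b24a642b443a5da56bb348539299261941d941b901110c9860c41401830fd6860c2e152990733c1d923fa22bc7fe172239e41831411847736c0183159797223978e9064780e9750ac3a5c1c5060c4224c30df8f1fad7272786230b9fad6774c30df7406ff1a46a0e25412838181e18325e4ca6428cee538b86b7b91494e538481ca6428628280f1cc1d90c550764a4e860c8f8e7eb510ea8384c74dee59ec28387d2e7eb43753a41842ac30cb5cb0c329341830e88060c33243a5c2071e1845843a5ce35860c856e828187f972282e05c881c3860c17f4e53a224c1d990cc11dc8d641d927c0e5398d086ff0c912990fa24a64182a18306d386274c082fd06d387f292e82400631864218c61bfcf5e94647f4a4698609060c5f0a5190aa106422a841bfcaf206277ff24698af207f2924c2400ee68bf42940183265b0e9786a65c8a3b808af49b05c896458e97615022bc2c2860c095a18301c2060c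

def chk (k : ℕ) : Bool :=
  let u := M9.dec ((tab >>> (30 * k)) % 32768)
  let v := M9.dec ((tab >>> (30 * k + 15)) % 32768)
  u.det == 1 && v.det == 1 &&
    decide ((M9.mul ⟨1, 0, 0, k % 3, 1, 0, k / 3 % 3, k / 9 % 3, 1⟩
      ⟨1, k / 27 % 3, k / 81 % 3, 0, 1, k / 243 % 3, 0, 0, 1⟩) =
      ((u.mul xx).mul u.adj).mul ((v.mul xx).mul v.adj))

theorem chk_all : ∀ k < 729, chk k = true := by decide +kernel

section Three

variable {F : Type*} [Field F]

theorem cast_mod3 (h3 : (3 : F) = 0) (n : ℕ) : ((n % 3 : ℕ) : F) = n := by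
  conv_rhs => rw [← Nat.mod_add_div n 3]
  push_cast
  rw [h3, zero_mul, add_zero]

theorem mat_mul (h3 : (3 : F) = 0) (x y : M9) : (x.mul y).mat F = x.mat F * y.mat F := by
  simp only [M9.mat, M9.mul, cast_mod3 h3, mul_fin_three]
  push_cast
  rfl

theorem mat_det (h3 : (3 : F) = 0) (x : M9) : (x.mat F).det = x.det := by
  simp only [M9.mat, M9.det, cast_mod3 h3, det_fin_three]
  simp
  linear_combination (-(x.c * x.e * x.g + x.b * x.d * x.i + x.a * x.f * x.h) : F) * h3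

theorem mat_adj (h3 : (3 : F) = 0) (x : M9) : x.adj.mat F = (x.mat F).adjugate := by
  have h2 : (2 : F) = -1 := by linear_combination h3
  simp only [M9.mat, M9.adj, adjugate_fin_three_of]
  push_cast
  rw [h2]
  congr 1 <;> ring_nf

def x3 (h3 : (3 : F) = 0) : SpecialLinearGroup (Fin 3) F :=
  ⟨xx.mat F, by rw [mat_det h3]; simp [M9.det, xx]⟩

theorem x3_pow (h3 : (3 : F) = 0) : x3 h3 ^ 4 = 1 := by
  apply Subtype.ext
  have : (x3 h3 ^ 4).1 = (((xx.mul xx).mul xx).mul xx).mat F := by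
    simp only [mat_mul h3, pow_succ, pow_zero, one_mul, Matrix.SpecialLinearGroup.coe_mul]
    rfl
  rw [this]
  have : ((xx.mul xx).mul xx).mul xx = ⟨1, 0, 0, 0, 1, 0, 0, 0, 1⟩ := by decide
  rw [this]
  simp [M9.mat, one_fin_three]

theorem three_case (h3 : (3 : F) = 0) (hF : ∀ t : F, ∃ k < 3, t = (k : ℕ))
    (A : SpecialLinearGroup (Fin 3) F) (hA : ∀ c : F, A.1 ≠ c • 1) :
    ∃ u v : SpecialLinearGroup (Fin 3) F, A = u * x3 h3 * u⁻¹ * (v * x3 h3 * v⁻¹) := by
  obtain ⟨g, L, U, h⟩ := sourour A.1 (fun _ => 1) (fun _ => 1) (by simp) (by simp) (by simp)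
    (fun _ => hA)
  obtain ⟨a, ha, ea⟩ := hF (L 1 0)
  obtain ⟨b, hb, eb⟩ := hF (L 2 0)
  obtain ⟨c, hc, ec⟩ := hF (L 2 1)
  obtain ⟨d, hd, ed⟩ := hF (U 0 1)
  obtain ⟨e, he, ee⟩ := hF (U 0 2)
  obtain ⟨f, hf, ef⟩ := hF (U 1 2)
  have := chk_all (a + 3 * b + 9 * c + 27 * d + 81 * e + 243 * f) (by omega)
  unfold chk at this
  simp only [Bool.and_eq_true, beq_iff_eq, decide_eq_true_eq] at this
  obtain ⟨⟨h1, h2⟩, h4⟩ := this
  generalize M9.dec _ = u at h1 h4
  generalize M9.dec _ = v at h2 h4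
  have h5 := congrArg (M9.mat F) h4
  simp only [mat_mul h3, mat_adj h3] at h5
  have eL : L = M9.mat F ⟨1, 0, 0, (a + 3 * b + 9 * c + 27 * d + 81 * e + 243 * f) % 3, 1, 0,
      (a + 3 * b + 9 * c + 27 * d + 81 * e + 243 * f) / 3 % 3,
      (a + 3 * b + 9 * c + 27 * d + 81 * e + 243 * f) / 9 % 3, 1⟩ := by
    rw [show (a + 3 * b + 9 * c + 27 * d + 81 * e + 243 * f) % 3 = a by omega,
      show (a + 3 * b + 9 * c + 27 * d + 81 * e + 243 * f) / 3 % 3 = b by omega,
      show (a + 3 * b + 9 * c + 27 * d + 81 * e + 243 * f) / 9 % 3 = c by omega, eta_fin_three L,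
      h.dL, h.dL, h.dL, h.lower 0 1 (by decide), h.lower 0 2 (by decide), h.lower 1 2 (by decide),
      ea, eb, ec]
    simp [M9.mat]
  have eU : U = M9.mat F ⟨1, (a + 3 * b + 9 * c + 27 * d + 81 * e + 243 * f) / 27 % 3,
      (a + 3 * b + 9 * c + 27 * d + 81 * e + 243 * f) / 81 % 3, 0, 1,
      (a + 3 * b + 9 * c + 27 * d + 81 * e + 243 * f) / 243 % 3, 0, 0, 1⟩ := by
    rw [show (a + 3 * b + 9 * c + 27 * d + 81 * e + 243 * f) / 27 % 3 = d by omega,
      show (a + 3 * b + 9 * c + 27 * d + 81 * e + 243 * f) / 81 % 3 = e by omega,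
      show (a + 3 * b + 9 * c + 27 * d + 81 * e + 243 * f) / 243 % 3 = f by omega, eta_fin_three U,
      h.dU, h.dU, h.dU, h.upper 1 0 (by decide), h.upper 2 0 (by decide), h.upper 2 1 (by decide),
      ed, ee, ef]
    simp [M9.mat]
  rw [← eL, ← eU] at h5
  let u' : SpecialLinearGroup (Fin 3) F := ⟨u.mat F, by rw [mat_det h3, h1]; simp⟩
  let v' : SpecialLinearGroup (Fin 3) F := ⟨v.mat F, by rw [mat_det h3, h2]; simp⟩
  refine ⟨g * u', g * v', ?_⟩
  have : A = g * (u' * x3 h3 * u'⁻¹ * (v' * x3 h3 * v'⁻¹)) * g⁻¹ := by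
    apply Subtype.ext
    rw [h.eq, h5]
    rfl
  rw [this]; group

end Three

section Big

variable {F : Type*} [Field F]

theorem lower_conj {β : Fin 3 → F} (h01 : β 0 ≠ β 1) (h02 : β 0 ≠ β 2) (h12 : β 1 ≠ β 2)
    {L : Matrix (Fin 3) (Fin 3) F} (hL : ∀ i j, i < j → L i j = 0) (hd : ∀ i, L i i = β i) :
    ∃ P : SpecialLinearGroup (Fin 3) F, L * P.1 = P.1 * diagonal β := by
  have e1 := sub_ne_zero.2 h01
  have e2 := sub_ne_zero.2 h02
  have e3 := sub_ne_zero.2 h12
  refine ⟨⟨!![1, 0, 0; L 1 0 / (β 0 - β 1), 1, 0;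
    (L 2 0 + L 2 1 * (L 1 0 / (β 0 - β 1))) / (β 0 - β 2), L 2 1 / (β 1 - β 2), 1],
    by simp [det_fin_three]⟩, ?_⟩
  ext i j
  fin_cases i <;> fin_cases j <;>
    simp [mul_apply, Fin.sum_univ_three, hd, hL 0 1 (by decide), hL 0 2 (by decide),
      hL 1 2 (by decide), diagonal_apply] <;> field_simp <;> ring

theorem upper_conj {β : Fin 3 → F} (h01 : β 0 ≠ β 1) (h02 : β 0 ≠ β 2) (h12 : β 1 ≠ β 2)
    {U : Matrix (Fin 3) (Fin 3) F} (hU : ∀ i j, j < i → U i j = 0) (hd : ∀ i, U i i = β i) :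
    ∃ P : SpecialLinearGroup (Fin 3) F, U * P.1 = P.1 * diagonal β := by
  have e1 := sub_ne_zero.2 h01.symm
  have e2 := sub_ne_zero.2 h02.symm
  have e3 := sub_ne_zero.2 h12.symm
  refine ⟨⟨!![1, U 0 1 / (β 1 - β 0), (U 0 2 + U 0 1 * (U 1 2 / (β 2 - β 1))) / (β 2 - β 0);
    0, 1, U 1 2 / (β 2 - β 1); 0, 0, 1], by simp [det_fin_three]⟩, ?_⟩
  ext i j
  fin_cases i <;> fin_cases j <;>
    simp [mul_apply, Fin.sum_univ_three, hd, hU 1 0 (by decide), hU 2 0 (by decide),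
      hU 2 1 (by decide), diagonal_apply] <;> field_simp <;> ring

theorem big_case {β : Fin 3 → F} (h01 : β 0 ≠ β 1) (h02 : β 0 ≠ β 2) (h12 : β 1 ≠ β 2)
    (x : SpecialLinearGroup (Fin 3) F) (hx : x.1 = diagonal β)
    (A : SpecialLinearGroup (Fin 3) F) (hA : ∀ c : F, A.1 ≠ c • 1) :
    ∃ u v : SpecialLinearGroup (Fin 3) F, A = u * x * u⁻¹ * (v * x * v⁻¹) := by
  have hp : ∏ i, β i = 1 := by rw [← det_diagonal, ← hx, x.2]
  have h0 : ∀ i, β i ≠ 0 := fun i e => by
    rw [Finset.prod_eq_zero (Finset.mem_univ i) e] at hp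
    exact zero_ne_one hp
  obtain ⟨g, L, U, h⟩ := sourour A.1 β β h0 h0 (by rw [Finset.prod_mul_distrib, hp, A.2, one_mul])
    (fun _ => hA)
  obtain ⟨P, hP⟩ := lower_conj h01 h02 h12 h.lower h.dL
  obtain ⟨Q, hQ⟩ := upper_conj h01 h02 h12 h.upper h.dU
  refine ⟨g * P, g * Q, ?_⟩
  have : A = g * (P * x * P⁻¹ * (Q * x * Q⁻¹)) * g⁻¹ := by
    apply Subtype.ext
    simp only [Matrix.SpecialLinearGroup.coe_mul]
    rw [h.eq, hx, ← hP, ← hQ, mul_assoc L, mul_assoc U, coe_mul_inv, coe_mul_inv, mul_one, mul_one]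
  rw [this]; group

end Big

/-- A form of Thompson's conjecture for PSL(3,q), q > 2 (covering the non-identity elements), with a semisimple class: for F a finite field of characteristic p with more than 2 elements there is an element x of PSL(3,F) of order prime to p such that every non-identity element of PSL(3,F) is a product of two conjugates of x. -/
theorem result {F : Type*} [Field F] [Fintype F] (p : ℕ) [Fact p.Prime] [CharP F p] (h3 : 3 ≤ Fintype.card F) :
    ∃ x : Matrix.ProjectiveSpecialLinearGroup (Fin 3) F, ¬ p ∣ orderOf x ∧ ∀ g : Matrix.ProjectiveSpecialLinearGroup (Fin 3) F, g ≠ 1 → ∃ u v : Matrix.ProjectiveSpecialLinearGroup (Fin 3) F, g = (u * x * u⁻¹) * (v * x * v⁻¹) := by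
  obtain ⟨x, N, hN, hxN, hx⟩ : ∃ (x : SpecialLinearGroup (Fin 3) F) (N : ℕ), ¬ p ∣ N ∧ x ^ N = 1 ∧
      ∀ A : SpecialLinearGroup (Fin 3) F, (∀ c : F, A.1 ≠ c • 1) →
        ∃ u v : SpecialLinearGroup (Fin 3) F, A = u * x * u⁻¹ * (v * x * v⁻¹) := by
    obtain ⟨k, hp, hk⟩ := FiniteField.card F p
    rcases h3.eq_or_lt with h | h
    · have hp3 : p = 3 := by
        have : p ∣ 3 := by
          rw [h, hk]; exact dvd_pow_self p k.ne_zero
        exact (Nat.prime_dvd_prime_iff_eq hp Nat.prime_three).1 this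
      subst hp3
      have h0 : (3 : F) = 0 := by exact_mod_cast CharP.cast_eq_zero F 3
      refine ⟨x3 h0, 4, by decide, x3_pow h0, three_case h0 fun t => ?_⟩
      have hinj : Function.Injective fun i : Fin 3 => ((i : ℕ) : F) := fun i j e =>
        Fin.ext (CharP.natCast_injOn_Iio F 3 i.2 j.2 e)
      obtain ⟨i, hi⟩ := ((Fintype.bijective_iff_injective_and_card _).2
        ⟨hinj, by simpa using h⟩).2 t
      exact ⟨i, i.2, hi.symm⟩
    · obtain ⟨a, a0, a1, a2⟩ := four_of_card (K := F) h 0 1 (-1)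
      have a3 : a ≠ a⁻¹ := fun e => by
        have : a * a = 1 := by nth_rewrite 2 [e]; exact mul_inv_cancel₀ a0
        rcases mul_self_eq_one_iff.1 this with h | h
        exacts [a1 h, a2 h]
      refine ⟨⟨diagonal ![1, a, a⁻¹], by simp [Fin.prod_univ_three, a0]⟩, Fintype.card F - 1,
        ?_, ?_, big_case (β := ![1, a, a⁻¹]) a1.symm (by simpa [eq_comm] using a1) a3 _ rfl⟩
      · intro hd
        have h1 : p ∣ Fintype.card F := by rw [hk]; exact dvd_pow_self p k.ne_zero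
        have h2 := Nat.dvd_sub h1 hd
        rw [show Fintype.card F - (Fintype.card F - 1) = 1 by omega, Nat.dvd_one] at h2
        exact hp.one_lt.ne' h2
      · apply Subtype.ext
        refine (Matrix.SpecialLinearGroup.coe_pow _ _).trans ?_
        change diagonal ![1, a, a⁻¹] ^ _ = 1
        rw [diagonal_pow, ← diagonal_one]
        congr 1
        ext i
        fin_cases i <;> simp [FiniteField.pow_card_sub_one_eq_one a a0]
  refine ⟨QuotientGroup.mk x, fun hd => hN (hd.trans (orderOf_dvd_of_pow_eq_one ?_)), ?_⟩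
  · rw [← QuotientGroup.mk_pow, hxN, QuotientGroup.mk_one]
  · intro g hg
    obtain ⟨A, rfl⟩ := QuotientGroup.mk_surjective g
    obtain ⟨u, v, h⟩ := hx A (not_scalar_of_notMem_center fun h =>
      hg ((QuotientGroup.eq_one_iff _).2 h))
    exact ⟨QuotientGroup.mk u, QuotientGroup.mk v, by rw [h]; rfl⟩

end Cfsg.Agent.S2459
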