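import Cfsg.Statements.S2468
import Cfsg.Agent.Lib.GLn.Spec3

set_option autoImplicit false
open Cfsg

namespace Cfsg.Agent.S2468

/-- Adjacency of two odd primes in the prime graph of PSL(n,q): let F be a finite field of characteristic p with q elements, n ≥ 2 with PSL(n,F) simple, and let r ≠ s be odd primes different from p dividing the order of PSL(n,F). Let k and l be the multiplicative orders of q modulo r and modulo s, and suppose 2 ≤ k ≤ l. Then PSL(n,F) has NO element of order r·s if and only if k + l > n and k does not divide l. -/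
theorem result {F : Type*} [Field F] [Fintype F] (p : ℕ) [Fact p.Prime] [CharP F p] (n : ℕ) (hn : 2 ≤ n) (hsmall : n = 2 → 4 ≤ Fintype.card F)
    (r s : ℕ) (hr : r.Prime) (hs : s.Prime) (hr2 : r ≠ 2) (hs2 : s ≠ 2) (hrp : r ≠ p) (hsp : s ≠ p) (hrs : r ≠ s)
    (hrG : r ∣ Nat.card (Matrix.ProjectiveSpecialLinearGroup (Fin n) F)) (hsG : s ∣ Nat.card (Matrix.ProjectiveSpecialLinearGroup (Fin n) F))
    (k l : ℕ) (hk : k = orderOf ((Fintype.card F : ℕ) : ZMod r)) (hl : l = orderOf ((Fintype.card F : ℕ) : ZMod s))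
    (h2k : 2 ≤ k) (hkl : k ≤ l) :
    (r * s ∉ Set.range (orderOf : Matrix.ProjectiveSpecialLinearGroup (Fin n) F → ℕ)) ↔ (n < k + l ∧ ¬ k ∣ l) := by
  rw [← Nat.card_eq_fintype_card] at hk hl
  have hq : 0 < Nat.card F := Nat.card_pos
  have hk1 : orderOf (Nat.card F : ZMod r) ≠ 1 := by omega
  have hl1 : orderOf (Nat.card F : ZMod s) ≠ 1 := by omega
  have hcop : r.Coprime s := (Nat.coprime_primes hr hs).2 hrs
  constructor
  · intro h
    by_contra h1
    apply h
    by_cases h2 : k ∣ l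
    · have hln : l ≤ n := hl ▸ GLn.orderOf_le_of_prime_dvd_card_GL hs
        (GLn.not_dvd_card_of_ne p hs hsp) (hsG.trans GLn.card_PSL_dvd_card_GL)
      obtain ⟨x, hx⟩ := GLn.exists_PSL_of_dvd_gs (F := F) p (n := n) (ι := Unit) (fun _ => r * s)
        (fun _ => l) (fun _ => 1) (fun _ => by omega) (fun _ => one_pos)
        (fun _ => hcop.mul_dvd_of_dvd_of_dvd (GLn.prime_dvd_gs hq hr hk1 (hk ▸ h2))
          (GLn.prime_dvd_gs hq hs hl1 (hl ▸ dvd_rfl))) (by simpa)
      refine GLn.mem_range_orderOf_of_dvd x (Nat.Coprime.dvd_of_dvd_mul_right ?_ (hx ()).1)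
      exact Nat.Coprime.mul_left
        (hr.coprime_iff_not_dvd.2 (GLn.not_dvd_pred_of_orderOf_ne_one hq hk1))
        (hs.coprime_iff_not_dvd.2 (GLn.not_dvd_pred_of_orderOf_ne_one hq hl1))
    · have h3 : k + l ≤ n := by
        by_contra h3
        exact h1 ⟨by omega, h2⟩
      obtain ⟨x, hx⟩ := GLn.exists_PSL_of_dvd_gs (F := F) p (n := n) (ι := Bool)
        (fun b => if b then r else s) (fun b => if b then k else l) (fun _ => 1)
        (by rintro (_ | _) <;> simp <;> omega) (fun _ => one_pos)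
        (by
          rintro (_ | _)
          · exact GLn.prime_dvd_gs hq hs hl1 (hl ▸ dvd_rfl)
          · exact GLn.prime_dvd_gs hq hr hk1 (hk ▸ dvd_rfl)) (by simpa)
      refine GLn.mem_range_orderOf_of_dvd x (hcop.mul_dvd_of_dvd_of_dvd ?_ ?_)
      · exact (hr.dvd_mul.1 (hx true).1).resolve_right (GLn.not_dvd_pred_of_orderOf_ne_one hq hk1)
      · exact (hs.dvd_mul.1 (hx false).1).resolve_right (GLn.not_dvd_pred_of_orderOf_ne_one hq hl1)
  · rintro ⟨h1, h2⟩ ⟨x, hx⟩
    obtain ⟨t, α, kk, e, h0, hk0, he, hfix, hsum, -, hord⟩ :=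
      GLn.exists_spec_PSL (K := AlgebraicClosure F) p x
    rw [Fintype.card_fin] at hsum
    have h3 : orderOf x ∣ p ^ n * ∏ i, (Nat.card F ^ kk i - 1) := by
      refine (hord _).2 ⟨1, fun i => ⟨?_, Dvd.dvd.mul_right (pow_dvd_pow _ ?_) _⟩⟩
      · obtain ⟨u, hu⟩ := Finset.dvd_prod_of_mem (fun i => Nat.card F ^ kk i - 1)
          (Finset.mem_univ i)
        rw [hu, mul_comm, mul_assoc, pow_mul,
          (GLn.pow_card_pow_eq_self_iff (h0 i) (pow_pos hq _)).1 ((hfix i _).2 dvd_rfl), one_pow,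
          map_one]
      · apply Nat.clog_le_of_le_pow
        exact ((Nat.le_mul_of_pos_left _ (hk0 i)).trans (GLn.single_le_of_sum_eq hsum i)).trans
          (Nat.lt_pow_self (Fact.out : p.Prime).one_lt).le
    have h4 : ∀ r : ℕ, r.Prime → r ≠ p → r ∣ orderOf x →
        ∃ i, orderOf (Nat.card F : ZMod r) ∣ kk i := by
      intro r hr hrp h
      rcases hr.dvd_mul.1 (h.trans h3) with h | h
      · exact absurd ((Nat.prime_dvd_prime_iff_eq hr Fact.out).1 (hr.dvd_of_dvd_pow h)) hrp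
      · obtain ⟨i, -, hi⟩ := (hr.prime.dvd_finsetProd_iff _).1 h
        exact ⟨i, (GLn.dvd_pow_sub_one_iff_orderOf_dvd hq _ _).1 hi⟩
    obtain ⟨i, hi⟩ := h4 r hr hrp (hx ▸ dvd_mul_right _ _)
    obtain ⟨j, hj⟩ := h4 s hs hsp (hx ▸ dvd_mul_left _ _)
    rw [← hk] at hi
    rw [← hl] at hj
    have hle : ∀ i, kk i ≤ kk i * e i := fun i => Nat.le_mul_of_pos_right _ (he i)
    by_cases hij : i = j
    · subst hij
      obtain ⟨u, hu⟩ := hj
      have h5 := (hle i).trans (GLn.single_le_of_sum_eq hsum i)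
      have h6 := hk0 i
      obtain rfl | rfl | h7 : u = 0 ∨ u = 1 ∨ 2 ≤ u := by omega
      · omega
      · rw [hu, mul_one] at hi
        exact h2 hi
      · nlinarith
    · have h5 := GLn.pair_le_of_sum_eq hsum hij
      have := Nat.le_of_dvd (hk0 i) hi
      have := Nat.le_of_dvd (hk0 j) hj
      have := hle i
      have := hle j
      omega

end Cfsg.Agent.S2468
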