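import Cfsg.Statements.S2469
import Cfsg.Agent.Lib.Forms.SpSpec2

set_option autoImplicit false
open Cfsg

namespace Cfsg.Agent.S2469

open Forms


/-- Adjacency of two odd primes in the prime graph of PSp(2n,q): let F be a finite field of characteristic p with q elements, n ≥ 2 with PSp(2n,F) simple, and let r ≠ s be odd primes different from p dividing the order of PSp(2n,F). Let k, l be the multiplicative orders of q modulo r and s, put η(m) = m for odd m and η(m) = m/2 for even m, and suppose η(k) ≤ η(l). Then PSp(2n,F) has NO element of order r·s if and only if η(k) + η(l) > n and l/k is not an odd integer. -/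
theorem result {F : Type*} [Field F] [Fintype F] (p : ℕ) [Fact p.Prime] [CharP F p] (n : ℕ) (hn : 2 ≤ n) (hsmall : n = 2 → 3 ≤ Fintype.card F)
    (r s : ℕ) (hr : r.Prime) (hs : s.Prime) (hr2 : r ≠ 2) (hs2 : s ≠ 2) (hrp : r ≠ p) (hsp : s ≠ p) (hrs : r ≠ s)
    (hrG : r ∣ Nat.card (Cfsg.PSp n F)) (hsG : s ∣ Nat.card (Cfsg.PSp n F))
    (k l ηk ηl : ℕ) (hk : k = orderOf ((Fintype.card F : ℕ) : ZMod r)) (hl : l = orderOf ((Fintype.card F : ℕ) : ZMod s))
    (hηk : (Odd k ∧ ηk = k) ∨ (Even k ∧ 2 * ηk = k)) (hηl : (Odd l ∧ ηl = l) ∨ (Even l ∧ 2 * ηl = l)) (hkl : ηk ≤ ηl) :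
    (r * s ∉ Set.range (orderOf : Cfsg.PSp n F → ℕ)) ↔ (n < ηk + ηl ∧ ¬ ∃ t : ℕ, Odd t ∧ l = k * t) := by
  have hp : p.Prime := Fact.out
  have hq : 0 < Fintype.card F := Fintype.card_pos
  have hk0 : 0 < k := by
    rw [hk, ← Nat.card_eq_fintype_card]
    exact GLn.orderOf_natCast_pos hr (GLn.not_dvd_card_of_ne p hr hrp)
  have hl0 : 0 < l := by
    rw [hl, ← Nat.card_eq_fintype_card]
    exact GLn.orderOf_natCast_pos hs (GLn.not_dvd_card_of_ne p hs hsp)
  have hηk0 : 0 < ηk := by omega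
  have hηl0 : 0 < ηl := by omega
  have hcop : r.Coprime s := (Nat.coprime_primes hr hs).2 hrs
  have hr2' := (Nat.coprime_primes hr Nat.prime_two).2 hr2
  have hs2' := (Nat.coprime_primes hs Nat.prime_two).2 hs2
  have hsl := dvd_tq_eta hq hs hs2 hl hl0 hηl odd_one
  rw [mul_one] at hsl
  constructor
  · intro h
    by_contra h1
    apply h
    by_cases h2 : ∃ t, Odd t ∧ l = k * t
    · obtain ⟨t, ht, hlt⟩ := h2
      have hln : ηl ≤ n := by
        have : Fact s.Prime := ⟨hs⟩
        obtain ⟨x, hx⟩ := exists_prime_orderOf_dvd_card' s hsG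
        obtain ⟨t, α, kk, e, ε, K, h0, hk0, he, hfix, hε, hsum, -, hK, hord⟩ :=
          exists_spec_PSp' p (by omega) x
        obtain ⟨j, hj⟩ := exists_dvd_of_prime_dvd p hε (fun m => (hord m).2) hs (Or.inl hsp)
          (hx ▸ dvd_rfl)
        exact ((Nat.le_of_dvd (hk0 j) (eta_dvd_of_dvd_tq hq hl hηl hj)).trans
          (Nat.le_mul_of_pos_right _ (he j))).trans (GLn.single_le_of_sum_eq hsum j)
      have h3 : Even l ↔ Even k := by
        rw [hlt, Nat.even_mul, or_iff_left (Nat.not_even_iff_odd.2 ht)]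
      have h4 : ηl = ηk * t := by
        rcases hηk with ⟨h5, rfl⟩ | ⟨h5, h6⟩ <;> rcases hηl with ⟨h7, rfl⟩ | ⟨h7, h8⟩
        · exact hlt
        · exact absurd (h3.1 h7) (Nat.not_even_iff_odd.2 h5)
        · exact absurd (h3.2 h5) (Nat.not_even_iff_odd.2 h7)
        · rw [← h6, ← h8, mul_assoc] at hlt; omega
      have hrl := dvd_tq_eta hq hr hr2 hk hk0 hηk ht
      rw [← h4, ← decide_eq_decide.2 h3] at hrl
      obtain ⟨x, -, h5⟩ := exists_PSp_of_dvd_tq (F := F) p (n := n) (by omega) (ι := Unit)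
        (fun _ => r * s) (fun _ => ηl) _ (fun _ => hηl0)
        (fun _ => hcop.mul_dvd_of_dvd_of_dvd hrl hsl) (a := n - ηl) (K := 0) (by simp; omega)
        (Nat.zero_le _)
      exact GLn.mem_range_orderOf_of_dvd x
        ((Nat.Coprime.mul_left hr2' hs2').dvd_of_dvd_mul_left (h5 ()))
    · have h3 : ηk + ηl ≤ n := by
        by_contra h3
        exact h1 ⟨by omega, h2⟩
      have hrk := dvd_tq_eta hq hr hr2 hk hk0 hηk odd_one
      rw [mul_one] at hrk
      obtain ⟨x, -, h5⟩ := exists_PSp_of_dvd_tq (F := F) p (n := n) (by omega) (ι := Bool)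
        (fun b => if b then r else s) (fun b => if b then ηk else ηl)
        (fun b => if b then decide (Even k) else decide (Even l))
        (by rintro (_ | _) <;> simpa) (by rintro (_ | _); exacts [hsl, hrk])
        (a := n - ηk - ηl) (K := 0) (by simp; omega) (Nat.zero_le _)
      exact GLn.mem_range_orderOf_of_dvd x (hcop.mul_dvd_of_dvd_of_dvd
        (hr2'.dvd_of_dvd_mul_left (h5 true)) (hs2'.dvd_of_dvd_mul_left (h5 false)))
  · rintro ⟨h1, h2⟩ ⟨x, hx⟩
    obtain ⟨t, α, kk, e, ε, K, h0, hk0, he, hfix, hε, hsum, -, hK, hord⟩ :=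
      exists_spec_PSp' p (by omega) x
    obtain ⟨i, hi⟩ := exists_dvd_of_prime_dvd p hε (fun m => (hord m).2) hr (Or.inl hrp)
      (hx ▸ dvd_mul_right _ _)
    obtain ⟨j, hj⟩ := exists_dvd_of_prime_dvd p hε (fun m => (hord m).2) hs (Or.inl hsp)
      (hx ▸ dvd_mul_left _ _)
    have hi' := eta_dvd_of_dvd_tq hq hk hηk hi
    have hj' := eta_dvd_of_dvd_tq hq hl hηl hj
    have hle : ∀ i, kk i ≤ kk i * e i := fun i => Nat.le_mul_of_pos_right _ (he i)
    by_cases hij : i = j
    · subst hij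
      obtain ⟨u, hu⟩ := hj'
      have h5 := (hle i).trans (GLn.single_le_of_sum_eq hsum i)
      have h6 := hk0 i
      obtain rfl | rfl | h7 : u = 0 ∨ u = 1 ∨ 2 ≤ u := by omega
      · omega
      · rw [hu, mul_one] at hi hj
        apply h2
        cases hε : ε i <;> rw [hε] at hi hj
        · rw [tq_false, GLn.dvd_pow_sub_one_iff_orderOf_dvd hq] at hi hj
          rw [← hk] at hi
          rw [← hl] at hj
          have := Nat.le_of_dvd hηl0 hj
          rcases hηl with ⟨h7, rfl⟩ | ⟨-, h8⟩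
          · obtain ⟨t, ht⟩ := hi
            exact ⟨t, (Nat.odd_mul.1 (ht ▸ h7)).2, ht⟩
          · omega
        · rw [tq_true] at hi hj
          rw [dvd_pow_add_one_iff hq hr hr2, ← hk] at hi
          rw [dvd_pow_add_one_iff hq hs hs2, ← hl] at hj
          rcases hηl with ⟨-, rfl⟩ | ⟨-, h8⟩
          · exact absurd dvd_rfl hj.2
          · obtain ⟨t, ht⟩ := hi.1
            refine ⟨t, Nat.not_even_iff_odd.1 fun ⟨v, hv⟩ => hi.2 ⟨v, ?_⟩, h8 ▸ ht⟩
            rw [hv, mul_add] at ht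
            omega
      · nlinarith
    · have h5 := GLn.pair_le_of_sum_eq hsum hij
      have := Nat.le_of_dvd (hk0 i) hi'
      have := Nat.le_of_dvd (hk0 j) hj'
      have := hle i
      have := hle j
      omega

end Cfsg.Agent.S2469
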