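import Cfsg.Statements.S2472
import Cfsg.Agent.Lib.Forms.SpSpec2

set_option autoImplicit false
open Cfsg

namespace Cfsg.Agent.S2472

open Forms


/-- Adjacency of a prime and the characteristic in the prime graph of PSp(2n,q): let F be a finite field of characteristic p with q elements, n ≥ 2 with PSp(2n,F) simple, and let r ≠ p be an odd prime dividing the order of PSp(2n,F), with k the multiplicative order of q modulo r and η(k) = k for odd k, k/2 for even k. Then PSp(2n,F) has NO element of order r·p if and only if η(k) > n − 1. -/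
theorem result {F : Type*} [Field F] [Fintype F] (p : ℕ) [Fact p.Prime] [CharP F p] (n : ℕ) (hn : 2 ≤ n) (hsmall : n = 2 → 3 ≤ Fintype.card F)
    (r : ℕ) (hr : r.Prime) (hr2 : r ≠ 2) (hrp : r ≠ p) (hrG : r ∣ Nat.card (Cfsg.PSp n F))
    (k ηk : ℕ) (hk : k = orderOf ((Fintype.card F : ℕ) : ZMod r)) (hηk : (Odd k ∧ ηk = k) ∨ (Even k ∧ 2 * ηk = k)) :
    (r * p ∉ Set.range (orderOf : Cfsg.PSp n F → ℕ)) ↔ n - 1 < ηk := by
  have hp : p.Prime := Fact.out
  have hq : 0 < Fintype.card F := Fintype.card_pos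
  have hk0 : 0 < k := by
    rw [hk, ← Nat.card_eq_fintype_card]
    exact GLn.orderOf_natCast_pos hr (GLn.not_dvd_card_of_ne p hr hrp)
  have hη0 : 0 < ηk := by omega
  constructor
  · intro h
    by_contra h1
    obtain ⟨x, h2, h3⟩ := exists_PSp_of_dvd_tq (F := F) p (n := n) (by omega) (ι := Unit)
      (fun _ => r) (fun _ => ηk * 1) _ (fun _ => by omega)
      (fun _ => dvd_tq_eta hq hr hr2 hk hk0 hηk odd_one) (a := n - ηk) (K := 1) (by simp; omega)
      (Nat.clog_pos hp.one_lt (by omega))
    refine h (GLn.mem_range_orderOf_of_dvd x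
      (((Nat.coprime_primes hr hp).2 hrp).mul_dvd_of_dvd_of_dvd ?_ (by simpa using h2)))
    exact ((Nat.coprime_primes hr Nat.prime_two).2 hr2).dvd_of_dvd_mul_left (h3 ())
  · rintro h1 ⟨x, hx⟩
    obtain ⟨t, α, kk, e, ε, K, h0, hk0, he, hfix, hε, hs, -, hK, hord⟩ :=
      exists_spec_PSp' p (by omega) x
    obtain ⟨j, hj⟩ := exists_dvd_of_prime_dvd p hε (fun m => (hord m).2) hr (Or.inl hrp)
      (hx ▸ dvd_mul_right _ _)
    have h2 := Nat.le_of_dvd (hk0 j) (eta_dvd_of_dvd_tq hq hk hηk hj)
    have hle : ∀ i, kk i ≤ kk i * e i := fun i => Nat.le_mul_of_pos_right _ (he i)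
    have h3 := GLn.single_le_of_sum_eq hs j
    have h4 := hle j
    have h5 : ∀ i, i = j := fun i => by
      by_contra h
      have := GLn.pair_le_of_sum_eq hs h
      have := hle i
      have := hk0 i
      omega
    have h6 : e j = 1 := by
      have := he j
      by_contra h
      have : kk j * 2 ≤ kk j * e j := Nat.mul_le_mul_left _ (by omega)
      omega
    have h7 : K = 0 := by
      refine Nat.le_zero.1 (hK.trans (Finset.sup_le fun i _ => ?_))
      rw [h5 i, wsp_of_ne p, h6, Nat.clog_one_right]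
      intro h
      have := Nat.dvd_one.1 ((hfix j 1).1 (Or.inl (by rw [pow_one, pow_card_of_inv_eq (h0 j) h])))
      omega
    obtain ⟨i, hi⟩ := exists_dvd_of_prime_dvd p hε (fun m => (hord m).2) hp (Or.inr h7)
      (hx ▸ dvd_mul_left _ _)
    exact hp.coprime_iff_not_dvd.1 (coprime_tq p (hk0 i) _).symm hi

end Cfsg.Agent.S2472
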