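import Cfsg.Statements.S2475
import Cfsg.Agent.Lib.SL2.PSL

set_option autoImplicit false
open Cfsg

namespace Cfsg.Agent.S2475

/-- The set of element orders of PSL(2,q): let F be a finite field of characteristic p with q ≥ 4 elements and d = gcd(2, q − 1). The orders of elements of PSL(2,F) are exactly the divisors of p, of (q − 1)/d and of (q + 1)/d. -/
theorem result {F : Type*} [Field F] [Fintype F] (p : ℕ) [Fact p.Prime] [CharP F p] (h4 : 4 ≤ Fintype.card F) :
    Set.range (orderOf : Matrix.ProjectiveSpecialLinearGroup (Fin 2) F → ℕ) =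
      {m : ℕ | m ∣ p ∨ m ∣ (Fintype.card F - 1) / Nat.gcd 2 (Fintype.card F - 1) ∨ m ∣ (Fintype.card F + 1) / Nat.gcd 2 (Fintype.card F - 1)} := by
  rw [← Nat.card_eq_fintype_card] at h4 ⊢
  ext m
  constructor
  · rintro ⟨x, rfl⟩
    exact SL2.orderOf_PSL_dvd p x
  · rintro (h | h | h)
    · rcases (Nat.dvd_prime Fact.out).1 h with rfl | rfl
      · exact ⟨1, orderOf_one⟩
      · exact ⟨_, SL2.orderOf_pr_eq_char m (g := SL2.up 1) (by simp [SL2.IsScal])
          (by rw [SL2.trace_up]; norm_num)⟩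
    · obtain ⟨a, ha⟩ := SL2.exists_unit_sq_ne_one h4
      obtain ⟨x, -, hx⟩ := SL2.exists_orderOf_pr_eq (g := SL2.dg a) (m := m)
        (by rw [SL2.trace_dg]; exact SL2.trace_sq_ne_of_sq_ne ha)
        (by rwa [SL2.card_cent_SL_split' ha (SL2.trace_dg a)])
      exact ⟨_, hx⟩
    · obtain ⟨g, hg⟩ := SL2.exists_SL_noRoot (F := F)
      obtain ⟨x, -, hx⟩ := SL2.exists_orderOf_pr_eq (g := g) (m := m) (SL2.SL_trace_sq_ne_of_noRoot hg)
        (by rwa [SL2.card_cent_SL_noRoot hg])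
      exact ⟨_, hx⟩

end Cfsg.Agent.S2475
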