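import Cfsg.Statements.S2477
import Cfsg.Agent.Lib.Alt.Orders

set_option autoImplicit false
open Cfsg

namespace Cfsg.Agent.S2477

open Cfsg.Agent.Alt

/-- The set of element orders of the alternating group of degree 10 is {1, 2, 3, 4, 5, 6, 7, 8, 9, 10, 12, 15, 21}. -/
theorem result : Set.range (orderOf : alternatingGroup (Fin 10) → ℕ) = {1, 2, 3, 4, 5, 6, 7, 8, 9, 10, 12, 15, 21} := by
  ext k
  rw [mem_range_orderOf_alt, Fintype.card_fin]
  constructor
  · rintro ⟨m, h1, h2, h3, rfl⟩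
    have h4 := chkTypes_sound (fun l e => e == 1 || l ∈ [1, 2, 3, 4, 5, 6, 7, 8, 9, 10, 12, 15, 21])
      m 10 10 1 0 (by decide +kernel) le_rfl two_pos h1 h2
    rw [zero_add, Nat.even_iff.1 h3, Nat.lcm_one_left] at h4
    simpa using h4
  · intro h
    simp only [Set.mem_insert_iff, Set.mem_singleton_iff] at h
    rcases h with rfl | rfl | rfl | rfl | rfl | rfl | rfl | rfl | rfl | rfl | rfl | rfl | rfl
    · exact ⟨0, by decide⟩
    · exact ⟨{2, 2}, by decide⟩
    · exact ⟨{3}, by decide⟩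
    · exact ⟨{4, 2}, by decide⟩
    · exact ⟨{5}, by decide⟩
    · exact ⟨{6, 2}, by decide⟩
    · exact ⟨{7}, by decide⟩
    · exact ⟨{8, 2}, by decide⟩
    · exact ⟨{9}, by decide⟩
    · exact ⟨{5, 2, 2}, by decide⟩
    · exact ⟨{4, 3, 2}, by decide⟩
    · exact ⟨{5, 3}, by decide⟩
    · exact ⟨{7, 3}, by decide⟩

end Cfsg.Agent.S2477
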