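import Cfsg.Statements.S2518
import Cfsg.Agent.Lib.Grp.G23b.Main
import Cfsg.Agent.Lib.LieId.G23
import Cfsg.Agent.S2475

set_option autoImplicit false
open Cfsg

namespace Cfsg.Agent.S2518

set_option maxRecDepth 100000
set_option Elab.async false

open Cfsg.Agent.CG Cfsg.Agent.Id Cfsg.Agent.CG.G23b

theorem tr7 : trChk act.app mc0 [mc1, mc2] bs (diagQ [[], [1], [1, 1]]) (diagQ [[1]])
    [[], [1], [1, 1], [1, 1, 1], [1, 1, 1, 1], [1, 1, 1, 1, 1], [1, 1, 1, 1, 1, 1]] 0 728 = true := by decide +kernel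

theorem tr13 : trChk act.app cc0 [cc1, cc2] bs (diagQ [[], [13], [13, 13]]) (diagQ [[13]])
    [[], [13], [13, 13], [13, 13, 13], [13, 13, 13, 13], [13, 13, 13, 13, 13], [13, 13, 13, 13, 13, 13], [13, 13, 13, 13, 13, 13, 13], [13, 13, 13, 13, 13, 13, 13, 13], [13, 13, 13, 13, 13, 13, 13, 13, 13], [13, 13, 13, 13, 13, 13, 13, 13, 13, 13], [13, 13, 13, 13, 13, 13, 13, 13, 13, 13, 13], [13, 13, 13, 13, 13, 13, 13, 13, 13, 13, 13, 13]] 0 728 = true := by decide +kernel

theorem not7 {s : ℕ} (hs : 1 < s) (y : PG) : orderOf y ≠ 7 * s :=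
  not_orderOf_mul (by norm_num) (orderOf_ev_prime base (v := [1]) (by norm_num) (by decide +kernel)
    (by decide +kernel)) (by rw [card]; norm_num) (pow_of_comm mc_ok card_le base (by decide +kernel)
    (by decide +kernel) tr7 (by decide +kernel)) hs y

theorem not13 {s : ℕ} (hs : 1 < s) (y : PG) : orderOf y ≠ 13 * s :=
  not_orderOf_mul (by norm_num) (orderOf_ev_prime base (v := [13]) (by norm_num) (by decide +kernel)
    (by decide +kernel)) (by rw [card]; norm_num) (pow_of_comm cc_ok (card.trans cc_prod.symm).le base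
    (by decide +kernel) (by decide +kernel) tr13 (by decide +kernel)) hs y

theorem six : orderOf (ev act.gen [0, 1, 0, 1, 1, 1]) = 6 := by
  refine orderOf_eq_of_pow_and_pow_div_prime (by norm_num) ?_ fun p hp h => ?_
  · rw [← ev_powL]; exact base.ev_eq (w := []) (by decide +kernel)
  · have := Nat.le_of_dvd (by norm_num) h
    rw [← ev_powL]
    interval_cases p <;> first | omega | (norm_num at hp; done) |
      exact act.ev_ne_of_eqW (w := []) base.1 (by decide +kernel)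

theorem mem_of_dvd {r : ℕ} (hr : r.Prime) (h : r ∣ 1092) : r = 2 ∨ r = 3 ∨ r = 7 ∨ r = 13 := by
  simpa [← Nat.prime_dvd_prime_iff_eq hr, Nat.prime_two, Nat.prime_three, Nat.prime_seven,
    (by norm_num : Nat.Prime 13), or_assoc] using
    (by rwa [← hr.dvd_mul, ← hr.dvd_mul, ← hr.dvd_mul, ← hr.dvd_mul] :
      (((r ∣ 2 ∨ r ∣ 2) ∨ r ∣ 3) ∨ r ∣ 7) ∨ r ∣ 13)

theorem dvd_iff {r : ℕ} (hr : r.Prime) : r ∣ 4245696 ↔ r ∣ 1092 :=
  ⟨fun h => hr.dvd_of_dvd_pow (n := 6) (h.trans (by norm_num)), fun h => h.trans (by norm_num)⟩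

theorem ord_iff {r s : ℕ} (hr : r.Prime) (hs : s.Prime) (h : r ≠ s) :
    (∃ x : PG, orderOf x = r * s) ↔ r * s = 6 := by
  refine ⟨fun ⟨x, hx⟩ => ?_, fun h => ⟨_, six.trans h.symm⟩⟩
  have h1 := orderOf_dvd_natCard x
  rw [hx, card] at h1
  have h2 := mem_of_dvd hr ((dvd_iff hr).1 (dvd_of_mul_right_dvd h1))
  have h3 := mem_of_dvd hs ((dvd_iff hs).1 (dvd_of_mul_left_dvd h1))
  have h4 : r ≠ 7 := fun e => not7 hs.one_lt x (e ▸ hx)
  have h5 : r ≠ 13 := fun e => not13 hs.one_lt x (e ▸ hx)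
  have h6 : s ≠ 7 := fun e => not7 hr.one_lt x (e ▸ hx.trans (mul_comm _ _))
  have h7 : s ≠ 13 := fun e => not13 hr.one_lt x (e ▸ hx.trans (mul_comm _ _))
  rcases h2 with rfl | rfl | rfl | rfl <;> omega

/-- Let F₃ be the field with 3 elements and F₁₃ the field with 13 elements. The Chevalley group G₂(F₃) and PSL(2, F₁₃) have the same prime graph: the same prime divisors of their orders, and for distinct primes r, s an element of order rs in one iff in the other. -/
theorem result {F : Type*} [Field F] [Fintype F] (hF : Fintype.card F = 3) {E : Type*} [Field E] [Fintype E] (hE : Fintype.card E = 13) :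
    ((∀ r : ℕ, r.Prime → (r ∣ Nat.card ↥(Cfsg.Lie.chevG2.group F) ↔ r ∣ Nat.card (Matrix.ProjectiveSpecialLinearGroup (Fin 2) E))) ∧
      (∀ r s : ℕ, r.Prime → s.Prime → r ≠ s → ((∃ x : ↥(Cfsg.Lie.chevG2.group F), orderOf x = r * s) ↔ (∃ y : (Matrix.ProjectiveSpecialLinearGroup (Fin 2) E), orderOf y = r * s)))) := by
  obtain ⟨e⟩ := LieId.G23.iso hF
  replace e := (MulEquiv.subgroupCongr PG_eq).trans e
  have : Fact (Nat.Prime 13) := ⟨by norm_num⟩
  have : CharP E 13 := charP_of_card_eq_prime hE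
  have h2 : (2 : E) ≠ 0 := fun h => by
    have := (CharP.cast_eq_zero_iff E 13 2).1 (by simpa using h)
    omega
  have h3 := SL2.card_PSL_odd h2
  rw [Nat.card_eq_fintype_card (α := E), hE] at h3
  refine ⟨fun r hr => ?_, fun r s hr hs h => ?_⟩
  · rw [← Nat.card_congr e.toEquiv, card, dvd_iff hr, show 1092 = Nat.card (Matrix.ProjectiveSpecialLinearGroup (Fin 2) E) by omega]
  have h4 := Set.ext_iff.1 (S2475.result (F := E) 13 (by omega)) (r * s)
  rw [hE] at h4
  refine Iff.trans ⟨fun ⟨x, hx⟩ => ⟨e.symm x, (e.symm.orderOf_eq x).trans hx⟩,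
    fun ⟨x, hx⟩ => ⟨e x, (e.orderOf_eq x).trans hx⟩⟩ ((ord_iff hr hs h).trans (Iff.trans ?_ h4.symm))
  refine ⟨fun h => Or.inr (Or.inl (by rw [h]; norm_num)), fun h5 => ?_⟩
  have h6 : r * s ∣ 13 ∨ r * s ∣ 6 ∨ r * s ∣ 7 := by simpa using h5
  have h7 : r * s ∣ 1092 := by rcases h6 with h | h | h <;> exact h.trans (by norm_num)
  rcases mem_of_dvd hr (dvd_of_mul_right_dvd h7) with rfl | rfl | rfl | rfl <;>
    rcases mem_of_dvd hs (dvd_of_mul_left_dvd h7) with rfl | rfl | rfl | rfl <;> simp_all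

end Cfsg.Agent.S2518
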