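import Cfsg.Statements.S2523
import Cfsg.Agent.Lib.Gauss.ClsC
import Cfsg.Agent.Lib.Cls.Conc

set_option autoImplicit false
open Cfsg

namespace Cfsg.Agent.S2523

open Cfsg.Agent.Gauss Cfsg.Agent.Gauss.BCD Cfsg.Agent.Forms Cfsg.Agent.Cls

theorem tr {G H : Type*} [Group G] [Group H] (e : G ≃* H) (h : ∃ c : H, ∀ g, P2 c g) :
    ∃ c : G, ∀ g : G, ∃ x y : G, g = (x * c * x⁻¹) * (y * c * y⁻¹) :=
  let ⟨c, h⟩ := h
  ⟨e.symm c, fun g => show P2 _ g by simpa using (h (e g)).map e.symm.toMonoidHom⟩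

theorem cls {F : Type*} [Field F] [Finite F] {P : Param F} {V : Type*} [AddCommGroup V] [Module F V] [Finite V]
    {f : Form P V} {m κ : ℕ} {fr : Frame f (PM m)} (T : Typ κ fr) (hK : 9 ≤ Nat.card F) (hm : 2 ≤ m) (h3 : κ = 0 → 3 ≤ m)
    {G : Type*} [Group G] (j : G →* f.Isom) (hj : Function.Injective j) (hr : j.range = fr.EG) :
    ∃ c : G ⧸ Subgroup.center G, ∀ g, P2 c g := by
  obtain ⟨n, rfl⟩ : ∃ n, m = n + 1 := ⟨m - 1, by omega⟩
  obtain ⟨x, h1, h2⟩ := T.class hK (by omega) fun e => by have := h3 e; omega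
  exact tr (centerQuotEquiv ((MonoidHom.ofInjective hj).trans (MulEquiv.subgroupCongr hr))) (quot_class h1 h2)

/-- Let F be a finite field with at least 9 elements and let G be one of PSL(n, F) (n ≥ 2), PSp(2m, F) (m ≥ 2), PΩ(2m+1, F) (m ≥ 3, here q odd), PΩ⁺(2m, F) (m ≥ 4), or the Chevalley group of type G₂, F₄, E₆, E₇ or E₈ over F. Then G is the square of one of its conjugacy classes (Thompson's conjecture on products of conjugacy classes, not his conjecture on class sizes): there is a conjugacy class C of G with C·C = G, i.e. every element of G is a product of two elements of C. -/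
theorem result {F : Type*} [Field F] [Fintype F] (hF : 9 ≤ Fintype.card F) {G : Type*} [Group G] [Finite G]
    (hG : (∃ n : ℕ, 2 ≤ n ∧ Nonempty (G ≃* Matrix.ProjectiveSpecialLinearGroup (Fin n) F)) ∨
      (∃ m : ℕ, 2 ≤ m ∧ Nonempty (G ≃* Cfsg.PSp m F)) ∨
      (∃ m : ℕ, 3 ≤ m ∧ Odd (Fintype.card F) ∧ Nonempty (G ≃* Cfsg.POmega F (Cfsg.quadFormOdd m F))) ∨
      (∃ m : ℕ, 4 ≤ m ∧ Nonempty (G ≃* Cfsg.POmega F (Cfsg.quadFormPlus m F))) ∨
      Nonempty (G ≃* ↥(Cfsg.Lie.chevG2.group F)) ∨ Nonempty (G ≃* ↥(Cfsg.Lie.chevF4.group F)) ∨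
      Nonempty (G ≃* ↥(Cfsg.Lie.chevE6.group F)) ∨ Nonempty (G ≃* ↥(Cfsg.Lie.chevE7.group F)) ∨ Nonempty (G ≃* ↥(Cfsg.Lie.chevE8.group F))) :
    ∃ c : G, ∀ g : G, ∃ x y : G, g = (x * c * x⁻¹) * (y * c * y⁻¹) := by
  have hK : 9 ≤ Nat.card F := by rwa [Nat.card_eq_fintype_card]
  have hi : ∀ {m : ℕ} (h : 2 ≤ m), (⟨⟨1, h⟩, true⟩ : PM m) ≠ ⟨⟨0, by omega⟩, true⟩ ∧
    (⟨⟨1, h⟩, true⟩ : PM m) ≠ -⟨⟨0, by omega⟩, true⟩ := by simp
  rcases hG with ⟨n, hn, ⟨e⟩⟩ | ⟨m, hm, ⟨e⟩⟩ | ⟨m, hm, ho, ⟨e⟩⟩ | ⟨m, hm, ⟨e⟩⟩ | ⟨⟨e⟩⟩ | ⟨⟨e⟩⟩ | ⟨⟨e⟩⟩ | ⟨⟨e⟩⟩ | ⟨⟨e⟩⟩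
  · obtain ⟨n, rfl⟩ : ∃ k, n = k + 2 := ⟨n - 2, by omega⟩
    obtain ⟨t, ht⟩ := exists_big hK
    obtain ⟨x, h1, h2⟩ := psl_class (n := n) (four_le hK) t.ne_zero
      fun e => ht 2 (by decide) (by decide) (Units.ext (by rwa [zpow_ofNat, Units.val_pow_eq_pow_val]))
    exact tr e (quot_class h1 h2)
  · obtain ⟨fr⟩ := exists_frame_sp (spForm_nondeg (F := F) m) (m := m) (by simp [two_mul])
    have h0 := fr.finrank_V0 (spForm_nondeg m)
    exact tr e (cls (typ_sp fr (fr.V0_eq_zero (by simpa [PM.card, two_mul] using h0))) hK hm (by simp)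
      (spEquiv m F).toMonoidHom (spEquiv m F).injective
      ((MonoidHom.range_eq_top.mpr (spEquiv m F).surjective).trans (fr.sp_EG (spForm_nondeg m)).symm))
  · have h2 : (2 : F) ≠ 0 := fun h => by
      have := CharTwo.of_one_ne_zero_of_two_eq_zero (R := F) one_ne_zero h
      have := FiniteField.even_card_of_char_two (ringChar.eq F 2)
      obtain ⟨k, hk⟩ := ho
      omega
    obtain ⟨fr, h0⟩ := odd_frame (F := F) m h2
    obtain ⟨v, a, b, c⟩ := fr.exists_gen_V0 (oddForm_nondeg m h2) h0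
    exact tr e (cls (typ_odd fr a b c) hK (by omega) (by simp) _ (omegaHom_injective _) ((omegaHom_range _).trans
      (fr.orth_EG (oddForm_nondeg m h2) (by simp; omega) (hi (by omega)).1 (hi (by omega)).2).symm))
  · obtain ⟨fr, h0⟩ := plus_frame (F := F) m
    exact tr e (cls (typ_plus fr h0) hK (by omega) (by omega) _ (omegaHom_injective _) ((omegaHom_range _).trans
      (fr.orth_EG (plusForm_nondeg m) (by simp; omega) (hi (by omega)).1 (hi (by omega)).2).symm))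
  · exact tr e (class_G2 hK)
  · exact tr e (blk_F4.p2 hK le_rfl)
  · exact tr e (blk_E6.p2 hK (by omega))
  · exact tr e (blk_E7.p2 hK (by omega))
  · exact tr e (blk_E8.p2 hK (by omega))

end Cfsg.Agent.S2523
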